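import Cfsg.Agent.MaxSub.RationalSubspace
import Cfsg.Agent.MaxSub.FormBasic

/-!
# A reflexive sesquilinear form with values in a subfield on rational vectors

The setting for the maximality of subfield groups in symplectic and unitary groups: a form `f`
with `f v u = ε σ (f u v)`, taking values in `F₀` on rational vectors. The transvections `T e c`
and the elements `S e w a` attached to an orthogonal pair of isotropic vectors are defined, with
their conjugation and product rules.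
-/

set_option autoImplicit false
set_option linter.unusedSectionVars false

namespace CfsgLib.FormSubfield

open Matrix Cfsg.Geo CfsgLib.MaxSub

variable {ι : Type} [Fintype ι] [DecidableEq ι] {F : Type*} [Field F]

/-- The rational vectors. -/
def ratVecs (ι : Type) {F : Type*} [Field F] (F₀ : Subfield F) : Submodule F₀ (ι → F) where
  carrier := {x | ∀ i, x i ∈ F₀}
  add_mem' hx hy i := F₀.add_mem (hx i) (hy i)
  zero_mem' _ := F₀.zero_mem
  smul_mem' c _ hx i := F₀.mul_mem c.2 (hx i)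

theorem mem_ratVecs {F₀ : Subfield F} {x : ι → F} : x ∈ ratVecs ι F₀ ↔ ∀ i, x i ∈ F₀ := Iff.rfl

theorem smul_mem_ratVecs {F₀ : Subfield F} {x : ι → F} {c : F} (hc : c ∈ F₀)
    (hx : x ∈ ratVecs ι F₀) : c • x ∈ ratVecs ι F₀ := fun i => F₀.mul_mem hc (hx i)

theorem single_mem_ratVecs (F₀ : Subfield F) (i : ι) :
    (Pi.single i 1 : ι → F) ∈ ratVecs ι F₀ := fun j => by
  by_cases h : j = i
  · subst h; rw [Pi.single_eq_same]; exact F₀.one_mem
  · rw [Pi.single_eq_of_ne h]; exact F₀.zero_mem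

theorem mulVec_mem_ratVecs {F₀ : Subfield F} {A : Matrix ι ι F} (hA : RatMat F₀ A) {x : ι → F}
    (hx : x ∈ ratVecs ι F₀) : A *ᵥ x ∈ ratVecs ι F₀ :=
  fun i => F₀.sum_mem fun k _ => F₀.mul_mem (hA i k) (hx k)

theorem ratMat_of_mulVec {F₀ : Subfield F} {A : Matrix ι ι F}
    (h : ∀ x ∈ ratVecs ι F₀, A *ᵥ x ∈ ratVecs ι F₀) : RatMat F₀ A := fun i j => by
  have := h _ (single_mem_ratVecs F₀ j) i
  rwa [mulVec_single_one] at this

theorem finrank_ratVecs (ι : Type) [Fintype ι] [DecidableEq ι] (F₀ : Subfield F) :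
    Module.finrank F₀ (ratVecs ι F₀) = Fintype.card ι := by
  let e : ratVecs ι F₀ ≃ₗ[F₀] (ι → F₀) :=
    { toFun := fun x i => ⟨x.1 i, x.2 i⟩
      map_add' := fun _ _ => rfl
      map_smul' := fun _ _ => rfl
      invFun := fun y => ⟨fun i => (y i : F), fun i => (y i).2⟩
      left_inv := fun _ => rfl
      right_inv := fun _ => rfl }
  rw [e.finrank_eq, Module.finrank_fintype_fun_eq_card]

/-- The hypotheses on the form. -/
structure Setting (F₀ : Subfield F) (σ : F ≃+* F) (ε : F) (c₀ : F)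
    (f : (ι → F) → (ι → F) → F) : Prop where
  sesq : SesqForm σ f
  eps : ε * ε = 1
  sigma_sigma : ∀ a, σ (σ a) = a
  sigma_eps : σ ε = ε
  herm : ∀ u v, f v u = ε * σ (f u v)
  rat : ∀ u ∈ ratVecs ι F₀, ∀ v ∈ ratVecs ι F₀, f u v ∈ F₀
  sigma_mem : ∀ x ∈ F₀, σ x ∈ F₀
  c₀_ne : c₀ ≠ 0
  c₀_trace : c₀ + ε * σ c₀ = 0
  exists_iso : ∀ U : Submodule F₀ (ι → F), U ≤ ratVecs ι F₀ → 3 ≤ Module.finrank F₀ U →
    ∃ z ∈ U, z ≠ 0 ∧ f z z = 0
  exists_iso₂ : c₀ ∈ F₀ → ∀ U : Submodule F₀ (ι → F), U ≤ ratVecs ι F₀ →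
    2 ≤ Module.finrank F₀ U → ∃ z ∈ U, z ≠ 0 ∧ f z z = 0
  shift : ∀ v ∈ ratVecs ι F₀, ∀ e ∈ ratVecs ι F₀, f e e = 0 → f v e ≠ 0 →
    ∃ t ∈ F₀, f (v + t • e) (v + t • e) = 0
  trace_gen : ∀ c, c + ε * σ c = 0 →
    c ∈ AddSubgroup.closure (Set.range fun a => c₀ * (a * σ a))

/-- The map `x ↦ x + c f(x, e) e`. -/
noncomputable def T (f : (ι → F) → (ι → F) → F) (e : ι → F) (c : F) : GL ι F :=
  tv (c • e) (leftVec f e)

/-- The map `x ↦ x + a f(x, w) e - ε σ a f(x, e) w`. -/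
noncomputable def S (σ : F ≃+* F) (ε : F) (f : (ι → F) → (ι → F) → F) (e w : ι → F) (a : F) :
    GL ι F :=
  tv (a • e) (leftVec f w) * tv ((-(ε * σ a)) • w) (leftVec f e)

/-- Preservation of the form. -/
def Iso (f : (ι → F) → (ι → F) → F) (g : GL ι F) : Prop :=
  ∀ u v, f ((g : Matrix ι ι F) *ᵥ u) ((g : Matrix ι ι F) *ᵥ v) = f u v

theorem Iso.inv {f : (ι → F) → (ι → F) → F} {g : GL ι F} (hg : Iso f g) : Iso f g⁻¹ := fun u v => by
  have := hg (((g⁻¹ : GL ι F) : Matrix ι ι F) *ᵥ u) (((g⁻¹ : GL ι F) : Matrix ι ι F) *ᵥ v)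
  rw [mulVec_mulVec, Units.mul_inv, one_mulVec, mulVec_mulVec, Units.mul_inv, one_mulVec] at this
  exact this.symm

theorem ext_mulVec {g h : GL ι F}
    (hgh : ∀ x, (g : Matrix ι ι F) *ᵥ x = (h : Matrix ι ι F) *ᵥ x) : g = h :=
  Units.ext (Matrix.ext_iff_mulVec.mpr hgh)

theorem mulVec_inv_mulVec (g : GL ι F) (x : ι → F) :
    (g : Matrix ι ι F) *ᵥ (((g⁻¹ : GL ι F) : Matrix ι ι F) *ᵥ x) = x := by
  rw [mulVec_mulVec, Units.mul_inv, one_mulVec]

theorem mulVec_ne_zero (g : GL ι F) {x : ι → F} (hx : x ≠ 0) : (g : Matrix ι ι F) *ᵥ x ≠ 0 := by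
  intro h
  apply hx
  have := congrArg (fun z => ((g⁻¹ : GL ι F) : Matrix ι ι F) *ᵥ z) h
  simpa [mulVec_mulVec] using this

namespace Setting

variable {F₀ : Subfield F} {σ : F ≃+* F} {ε c₀ : F} {f : (ι → F) → (ι → F) → F}
  (hs : Setting F₀ σ ε c₀ f)

include hs

theorem eps_ne : ε ≠ 0 := fun h => one_ne_zero (by
  have := hs.eps; rw [h, mul_zero] at this; exact this.symm)

theorem eps_mem : ε ∈ F₀ := by
  rcases mul_self_eq_one_iff.mp hs.eps with h | h <;> rw [h]
  · exact F₀.one_mem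
  · exact F₀.neg_mem F₀.one_mem

theorem orth_symm {u v : ι → F} (h : f u v = 0) : f v u = 0 := by
  rw [hs.herm, h, map_zero, mul_zero]

theorem ne_symm {u v : ι → F} (h : f u v ≠ 0) : f v u ≠ 0 := fun h' => h (hs.orth_symm h')

theorem sigma_f (u v : ι → F) : σ (f u v) = ε * f v u := by
  rw [hs.herm u v, ← mul_assoc, hs.eps, one_mul]

/-- A vector orthogonal to all rational vectors is zero. -/
theorem eq_zero_of_orth_rat {z : ι → F} (h : ∀ u ∈ ratVecs ι F₀, f u z = 0) : z = 0 := by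
  by_contra hz
  exact hs.sesq.leftVec_ne_zero hz (funext fun j => h _ (single_mem_ratVecs F₀ j))

theorem T_dot {e : ι → F} (he : f e e = 0) (c : F) : leftVec f e ⬝ᵥ (c • e) = 0 := by
  rw [dotProduct_smul, hs.sesq.dot_leftVec, he, smul_zero]

theorem T_mulVec {e : ι → F} (he : f e e = 0) (c : F) (x : ι → F) :
    (T f e c : Matrix ι ι F) *ᵥ x = x + (c * f x e) • e := by
  rw [T, tv_mulVec (hs.T_dot he c), hs.sesq.dot_leftVec, smul_smul, mul_comm]

theorem S_mulVec {e w : ι → F} (hw : f w w = 0) (he : f e e = 0) (hew : f e w = 0) (a : F)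
    (x : ι → F) : (S σ ε f e w a : Matrix ι ι F) *ᵥ x =
      x + (a * f x w) • e - (ε * σ a * f x e) • w := by
  have hwe := hs.orth_symm hew
  have h1 : leftVec f w ⬝ᵥ (a • e) = 0 := by
    rw [dotProduct_smul, hs.sesq.dot_leftVec, hew, smul_zero]
  have h2 : leftVec f e ⬝ᵥ ((-(ε * σ a)) • w) = 0 := by
    rw [dotProduct_smul, hs.sesq.dot_leftVec, hwe, smul_zero]
  rw [S, Units.val_mul, ← mulVec_mulVec, tv_mulVec h2, tv_mulVec h1, hs.sesq.dot_leftVec,
    hs.sesq.dot_leftVec, hs.sesq.add_left, hs.sesq.smul_left, hs.sesq.smul_left, hw]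
  module

theorem T_iso {e : ι → F} (he : f e e = 0) {c : F} (hc : c + ε * σ c = 0) : Iso f (T f e c) := by
  intro u v
  rw [hs.T_mulVec he, hs.T_mulVec he, hs.sesq.add_left, hs.sesq.add_right, hs.sesq.add_right,
    hs.sesq.smul_left, hs.sesq.smul_left, hs.sesq.smul_right, hs.sesq.smul_right, he, map_mul,
    hs.sigma_f v e]
  linear_combination (f u e * f e v) * hc

theorem S_iso {e w : ι → F} (hw : f w w = 0) (he : f e e = 0) (hew : f e w = 0) (a : F) :
    Iso f (S σ ε f e w a) := by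
  intro u v
  have hwe := hs.orth_symm hew
  rw [hs.S_mulVec hw he hew, hs.S_mulVec hw he hew]
  simp only [hs.sesq.sub_left, hs.sesq.sub_right, hs.sesq.add_left, hs.sesq.add_right,
    hs.sesq.smul_left, hs.sesq.smul_right, map_mul, map_add, map_sub, hs.sigma_f, hw, he, hew, hwe,
    hs.sigma_eps, hs.sigma_sigma]
  linear_combination (-(a * f u w * f e v)) * hs.eps

theorem conj_T {g : GL ι F} (hg : Iso f g) {e : ι → F} (he : f e e = 0) (c : F) :
    g * T f e c * g⁻¹ = T f ((g : Matrix ι ι F) *ᵥ e) c := by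
  refine ext_mulVec fun x => ?_
  have e1 := hg (((g⁻¹ : GL ι F) : Matrix ι ι F) *ᵥ x) e
  rw [mulVec_inv_mulVec] at e1
  rw [hs.T_mulVec (by rw [hg]; exact he), Units.val_mul, Units.val_mul, ← mulVec_mulVec,
    ← mulVec_mulVec, hs.T_mulVec he, mulVec_add, mulVec_smul, mulVec_inv_mulVec, e1]

theorem conj_S {g : GL ι F} (hg : Iso f g) {e w : ι → F} (hw : f w w = 0) (he : f e e = 0)
    (hew : f e w = 0) (a : F) :
    g * S σ ε f e w a * g⁻¹ =
      S σ ε f ((g : Matrix ι ι F) *ᵥ e) ((g : Matrix ι ι F) *ᵥ w) a := by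
  refine ext_mulVec fun x => ?_
  have e1 := hg (((g⁻¹ : GL ι F) : Matrix ι ι F) *ᵥ x) e
  have e2 := hg (((g⁻¹ : GL ι F) : Matrix ι ι F) *ᵥ x) w
  rw [mulVec_inv_mulVec] at e1 e2
  rw [hs.S_mulVec (by rw [hg]; exact hw) (by rw [hg]; exact he) (by rw [hg]; exact hew),
    Units.val_mul, Units.val_mul, ← mulVec_mulVec, ← mulVec_mulVec, hs.S_mulVec hw he hew,
    mulVec_sub, mulVec_add, mulVec_smul, mulVec_smul, mulVec_inv_mulVec, e1, e2]

theorem T_add {e : ι → F} (he : f e e = 0) (c d : F) : T f e c * T f e d = T f e (c + d) := by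
  refine ext_mulVec fun x => ?_
  rw [Units.val_mul, ← mulVec_mulVec, hs.T_mulVec he, hs.T_mulVec he, hs.T_mulVec he,
    hs.sesq.add_left, hs.sesq.smul_left, he]
  module

theorem S_add {e w : ι → F} (hw : f w w = 0) (he : f e e = 0) (hew : f e w = 0) (a b : F) :
    S σ ε f e w a * S σ ε f e w b = S σ ε f e w (a + b) := by
  refine ext_mulVec fun x => ?_
  rw [Units.val_mul, ← mulVec_mulVec, hs.S_mulVec hw he hew, hs.S_mulVec hw he hew,
    hs.S_mulVec hw he hew]
  simp only [hs.sesq.sub_left, hs.sesq.add_left, hs.sesq.smul_left, hw, he, hew,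
    hs.orth_symm hew, map_add]
  module

theorem S_swap {e w : ι → F} (hw : f w w = 0) (he : f e e = 0) (hew : f e w = 0) (a : F) :
    S σ ε f w e a = S σ ε f e w (-(ε * σ a)) := by
  refine ext_mulVec fun x => ?_
  rw [hs.S_mulVec he hw (hs.orth_symm hew), hs.S_mulVec hw he hew, map_neg, map_mul,
    hs.sigma_eps, hs.sigma_sigma]
  have : ε * -(ε * a) = -a := by linear_combination (-a) * hs.eps
  rw [this]
  module

theorem S_smul_right {e w : ι → F} (hw : f w w = 0) (he : f e e = 0) (hew : f e w = 0) (k a : F) :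
    S σ ε f e (k • w) a = S σ ε f e w (a * σ k) := by
  refine ext_mulVec fun x => ?_
  rw [hs.S_mulVec (by rw [hs.sesq.smul_left, hs.sesq.smul_right, hw]; ring) he
      (by rw [hs.sesq.smul_right, hew, mul_zero]),
    hs.S_mulVec hw he hew, hs.sesq.smul_right, map_mul, hs.sigma_sigma]
  module

theorem S_smul_left {e w : ι → F} (hw : f w w = 0) (he : f e e = 0) (hew : f e w = 0) (k a : F) :
    S σ ε f (k • e) w a = S σ ε f e w (a * k) := by
  refine ext_mulVec fun x => ?_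
  rw [hs.S_mulVec hw (by rw [hs.sesq.smul_left, hs.sesq.smul_right, he]; ring)
      (by rw [hs.sesq.smul_left, hew, mul_zero]),
    hs.S_mulVec hw he hew, hs.sesq.smul_right, map_mul]
  module

theorem S_add_right {e w₁ w₂ : ι → F} (h₁ : f w₁ w₁ = 0) (h₂ : f w₂ w₂ = 0) (he : f e e = 0)
    (he₁ : f e w₁ = 0) (he₂ : f e w₂ = 0) (h12 : f w₁ w₂ = 0) (a : F) :
    S σ ε f e w₁ a * S σ ε f e w₂ a = S σ ε f e (w₁ + w₂) a := by
  refine ext_mulVec fun x => ?_
  have h21 := hs.orth_symm h12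
  rw [Units.val_mul, ← mulVec_mulVec, hs.S_mulVec h₁ he he₁, hs.S_mulVec h₂ he he₂,
    hs.S_mulVec (by simp only [hs.sesq.add_left, hs.sesq.add_right, h₁, h₂, h12, h21, add_zero])
      he (by rw [hs.sesq.add_right, he₁, he₂, add_zero])]
  simp only [hs.sesq.sub_left, hs.sesq.add_left, hs.sesq.add_right, hs.sesq.smul_left,
    he, h21, he₁, hs.orth_symm he₂]
  module

theorem T_smul {e : ι → F} (he : f e e = 0) (k c : F) :
    T f (k • e) c = T f e (c * (k * σ k)) := by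
  refine ext_mulVec fun x => ?_
  rw [hs.T_mulVec (by rw [hs.sesq.smul_left, hs.sesq.smul_right, he]; ring), hs.T_mulVec he,
    hs.sesq.smul_right]
  module

/-- `T_{w + e}` splits for an orthogonal pair. -/
theorem T_add_vec {e w : ι → F} (hw : f w w = 0) (he : f e e = 0) (hew : f e w = 0) {c : F}
    (hc : c + ε * σ c = 0) :
    T f (e + w) c = T f e c * T f w c * S σ ε f e w c := by
  refine ext_mulVec fun x => ?_
  have hwe := hs.orth_symm hew
  have hcc : ε * σ c = -c := by linear_combination hc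
  rw [hs.T_mulVec (by simp only [hs.sesq.add_left, hs.sesq.add_right, he, hw, hew, hwe, add_zero]),
    Units.val_mul, Units.val_mul, ← mulVec_mulVec, ← mulVec_mulVec, hs.S_mulVec hw he hew,
    hs.T_mulVec hw, hs.T_mulVec he, hs.sesq.add_right, hcc]
  simp only [hs.sesq.sub_left, hs.sesq.add_left, hs.sesq.smul_left, he, hw, hew, hwe]
  module

theorem ratMat_T {e : ι → F} (he : e ∈ ratVecs ι F₀) (he' : f e e = 0) {c : F} (hc : c ∈ F₀) :
    RatMat F₀ (T f e c : Matrix ι ι F) := ratMat_of_mulVec fun x hx => by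
  rw [hs.T_mulVec he']
  exact Submodule.add_mem _ hx (smul_mem_ratVecs (F₀.mul_mem hc (hs.rat x hx e he)) he)

theorem ratMat_S {e w : ι → F} (he : e ∈ ratVecs ι F₀) (hwR : w ∈ ratVecs ι F₀) (hw : f w w = 0)
    (he' : f e e = 0) (hew : f e w = 0) {a : F} (ha : a ∈ F₀) :
    RatMat F₀ (S σ ε f e w a : Matrix ι ι F) := ratMat_of_mulVec fun x hx => by
  rw [hs.S_mulVec hw he' hew]
  exact Submodule.sub_mem _
    (Submodule.add_mem _ hx (smul_mem_ratVecs (F₀.mul_mem ha (hs.rat x hx w hwR)) he))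
    (smul_mem_ratVecs (F₀.mul_mem (F₀.mul_mem hs.eps_mem (hs.sigma_mem a ha)) (hs.rat x hx e he))
      hwR)

/-- The rational vectors orthogonal to a family. -/
def perp {k : ℕ} (_hs : Setting F₀ σ ε c₀ f) (s : Fin k → ι → F) : Submodule F₀ (ι → F) where
  carrier := {x | x ∈ ratVecs ι F₀ ∧ ∀ i, f x (s i) = 0}
  add_mem' {x y} hx hy := ⟨Submodule.add_mem _ hx.1 hy.1, fun i => by
    rw [_hs.sesq.add_left, hx.2, hy.2, add_zero]⟩
  zero_mem' := ⟨Submodule.zero_mem _, fun i => _hs.sesq.zero_left _⟩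
  smul_mem' c x hx := ⟨Submodule.smul_mem _ c hx.1, fun i => by
    show f ((c : F) • x) (s i) = 0
    rw [_hs.sesq.smul_left, hx.2, mul_zero]⟩

theorem finrank_perp [Finite F] {k : ℕ} (s : Fin k → ι → F) (hR : ∀ i, s i ∈ ratVecs ι F₀) :
    Fintype.card ι ≤ Module.finrank F₀ (hs.perp s) + k := by
  haveI : Module.Finite F₀ (ratVecs ι F₀) := Module.Finite.of_finite
  haveI : Module.Finite F₀ (hs.perp s) := Module.Finite.of_finite
  let L : ratVecs ι F₀ →ₗ[F₀] (Fin k → F₀) :=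
    { toFun := fun x i => ⟨f x.1 (s i), hs.rat _ x.2 _ (hR i)⟩
      map_add' := fun x y => funext fun i => Subtype.ext (hs.sesq.add_left _ _ _)
      map_smul' := fun c x => funext fun i => Subtype.ext (hs.sesq.smul_left _ _ _) }
  have h1 := L.finrank_range_add_finrank_ker
  have h2 := Submodule.finrank_le L.range
  rw [Module.finrank_fin_fun] at h2
  rw [finrank_ratVecs] at h1
  have h3 : Module.finrank F₀ L.ker ≤ Module.finrank F₀ (hs.perp s) := by
    let E : L.ker →ₗ[F₀] hs.perp s :=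
      { toFun := fun x => ⟨x.1.1, x.1.2, fun i =>
          congrArg Subtype.val (congrFun (LinearMap.mem_ker.1 x.2) i)⟩
        map_add' := fun _ _ => rfl
        map_smul' := fun _ _ => rfl }
    exact LinearMap.finrank_le_finrank_of_injective (f := E) fun x y h =>
      Subtype.ext (Subtype.ext (congrArg (fun z : hs.perp s => (z : ι → F)) h))
  omega

end Setting

end CfsgLib.FormSubfield
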