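import Cfsg.Agent.FormSubfield.Rigidity
import Cfsg.Agent.SubfieldMax.AnyDim

/-!
# Subfield groups among isometry groups: the dichotomy

An overgroup of the subfield group inside the isometries of determinant one either lies in the
subfield group or contains every isotropic transvection. If a conjugate transvection has its
centre orthogonal to no rational isotropic vector, then Dickson's lemma in odd characteristic,
and a dihedral group in characteristic two, lead to a contradiction.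
-/

set_option autoImplicit false
set_option linter.unusedSectionVars false

namespace CfsgLib.FormSubfield

open Matrix Cfsg.Geo CfsgLib.MaxSub
open scoped MatrixGroups

variable {ι : Type} [Fintype ι] [DecidableEq ι] {F : Type*} [Field F] [Finite F]
variable {F₀ : Subfield F} {σ : F ≃+* F} {ε c₀ : F} {f : (ι → F) → (ι → F) → F}

/-- Two transvections with irrational product of pairings give an irrational transvection. -/
theorem exists_tv_irrational [Fintype F] {r : ℕ} (hr : r.Prime) (hr2 : r ≠ 2)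
    (hcard : Fintype.card F = Nat.card F₀ ^ r) (h2 : (2 : F) ≠ 0) {v₁ φ₁ v₂ φ₂ : ι → F}
    (h11 : φ₁ ⬝ᵥ v₁ = 0) (h22 : φ₂ ⬝ᵥ v₂ = 0) (hlam : φ₁ ⬝ᵥ v₂ * (φ₂ ⬝ᵥ v₁) ∉ F₀)
    {M : Subgroup (GL ι F)} (ht₁ : tv v₁ φ₁ ∈ M) (ht₂ : tv v₂ φ₂ ∈ M) :
    tv ((φ₁ ⬝ᵥ v₂ * (φ₂ ⬝ᵥ v₁))⁻¹ • v₁) φ₁ ∈ M := by
  classical
  set lam := φ₁ ⬝ᵥ v₂ * (φ₂ ⬝ᵥ v₁) with hlam'
  set c := φ₂ ⬝ᵥ v₁ with hc
  have hlam0 : lam ≠ 0 := fun h => hlam (h ▸ F₀.zero_mem)
  have hc0 : c ≠ 0 := right_ne_zero_of_mul hlam0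
  let U : Matrix ι (Fin 2) F := (Matrix.of ![v₁, c • v₂])ᵀ
  let U' : Matrix (Fin 2) ι F := Matrix.of ![c⁻¹ • φ₂, lam⁻¹ • φ₁]
  have hU : U' * U = 1 := by
    ext k l
    show (![c⁻¹ • φ₂, lam⁻¹ • φ₁] k) ⬝ᵥ (![v₁, c • v₂] l) = _
    fin_cases k <;> fin_cases l <;> simp [smul_dotProduct, dotProduct_smul, h11, h22, ← hc, hc0]
    rw [hlam']
    field_simp
    exact div_self (left_ne_zero_of_mul hlam0)
  set Φ := SubfieldMax.embedTwo U U' hU with hΦ
  have hup : ∀ μ : F, Φ (DicksonPSL2.upSL μ) = tv ((μ / lam) • v₁) φ₁ := by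
    intro μ
    apply Units.ext
    rw [hΦ, SubfieldMax.embedTwo_val, tv_coe (by rw [dotProduct_smul, h11, smul_zero]),
      DicksonPSL2.coe_upSL]
    congr 1
    ext i j
    simp [U, U', mul_apply, Fin.sum_univ_two, vecMulVec_apply, div_eq_mul_inv]
    ring
  have hlo : Φ DicksonPSL2.loOne = tv v₂ φ₂ := by
    apply Units.ext
    rw [hΦ, SubfieldMax.embedTwo_val, tv_coe h22, DicksonPSL2.coe_loOne]
    congr 1
    ext i j
    simp [U, U', mul_apply, Fin.sum_univ_two, vecMulVec_apply]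
    field_simp
  let F₁ : Subfield F := Subfield.closure {lam}
  let lam₁ : F₁ := ⟨lam, Subfield.subset_closure rfl⟩
  have hgen : Subfield.closure ({lam₁} : Set F₁) = ⊤ := by
    rw [eq_top_iff]
    rintro ⟨x, hx⟩ -
    have hle : F₁ ≤ (Subfield.closure ({lam₁} : Set F₁)).map F₁.subtype := by
      rw [Subfield.closure_le, Set.singleton_subset_iff]
      exact ⟨lam₁, Subfield.subset_closure rfl, rfl⟩
    obtain ⟨y, hy, hyx⟩ := hle hx
    exact (Subtype.ext hyx : y = ⟨x, hx⟩) ▸ hy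
  obtain ⟨p, hp⟩ := CharP.exists F₁
  have : Fact p.Prime := ⟨CharP.char_is_prime F₁ p⟩
  have : Fintype F₁ := Fintype.ofFinite _
  have h21 : (2 : F₁) ≠ 0 := fun h => h2 (congrArg Subtype.val h)
  have hnotnine : ¬ lam₁ ^ 2 = -1 := by
    intro h
    have hsq : lam ^ 2 = -1 := congrArg Subtype.val h
    have : Fintype F₀ := Fintype.ofFinite _
    have hF : IsSquare (-1 : F) := ⟨lam, by rw [← hsq, pow_two]⟩
    rw [FiniteField.isSquare_neg_one_iff, hcard, Nat.card_eq_fintype_card] at hF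
    have hF0 : IsSquare (-1 : F₀) := by
      rw [FiniteField.isSquare_neg_one_iff]
      intro h3
      apply hF
      obtain ⟨k, hk⟩ := hr.odd_of_ne_two hr2
      rw [hk, pow_succ, pow_mul, Nat.mul_mod, Nat.pow_mod, Nat.pow_mod (Fintype.card F₀) 2, h3]
      norm_num
    obtain ⟨μ, hμ⟩ := hF0
    have hμ' : (μ : F) * μ = -1 := (congrArg Subtype.val hμ).symm
    have : (lam - μ) * (lam + μ) = 0 := by linear_combination hsq - hμ'
    rcases mul_eq_zero.mp this with h' | h'
    · exact hlam (by rw [sub_eq_zero.mp h']; exact μ.2)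
    · exact hlam (by rw [eq_neg_of_add_eq_zero_left h']; exact F₀.neg_mem μ.2)
  rcases DicksonPSL2.transvections_generate p h21 (lam := lam₁) (fun h => hlam0 (congrArg Subtype.val h))
      hgen with ⟨htop, -⟩ | ⟨-, h, -⟩
  swap
  · exact absurd h hnotnine
  let Ψ := Φ.comp (Matrix.SpecialLinearGroup.map F₁.subtype)
  have hmapup : ∀ μ : F₁, Matrix.SpecialLinearGroup.map F₁.subtype (DicksonPSL2.upSL μ)
      = DicksonPSL2.upSL (μ : F) := by
    intro μ
    ext i j
    rw [Matrix.SpecialLinearGroup.map_apply_coe, RingHom.mapMatrix_apply, Matrix.map_apply]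
    fin_cases i <;> fin_cases j <;> simp [DicksonPSL2.upSL]
  have hmaplo : Matrix.SpecialLinearGroup.map F₁.subtype (DicksonPSL2.loOne (F := F₁))
      = DicksonPSL2.loOne := by
    ext i j
    rw [Matrix.SpecialLinearGroup.map_apply_coe, RingHom.mapMatrix_apply, Matrix.map_apply]
    fin_cases i <;> fin_cases j <;> simp [DicksonPSL2.loOne]
  have hall : ∀ A : SL(2, F₁), Ψ A ∈ M := by
    have hle : Subgroup.closure ({DicksonPSL2.loOne, DicksonPSL2.upSL lam₁} : Set SL(2, F₁))
        ≤ M.comap Ψ := by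
      rw [Subgroup.closure_le]
      rintro A (rfl | rfl)
      · show Φ _ ∈ M
        rw [hmaplo, hlo]; exact ht₂
      · show Φ _ ∈ M
        rw [hmapup, hup]
        show tv ((lam / lam) • v₁) φ₁ ∈ M
        rw [div_self hlam0, one_smul]; exact ht₁
    rw [htop] at hle
    exact fun A => hle (Subgroup.mem_top A)
  have := hall (DicksonPSL2.upSL 1)
  rw [MonoidHom.comp_apply, hmapup, hup] at this
  simpa using this

/-- An automorphism squaring to one which fixes a subfield of odd degree is trivial. -/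
theorem eq_self_of_fix [Fintype F] {r : ℕ} (hr : r.Prime) (hr2 : r ≠ 2)
    (hcard : Fintype.card F = Nat.card F₀ ^ r) (hinv : ∀ a, σ (σ a) = a)
    (hfix : ∀ x ∈ F₀, σ x = x) (x : F) : σ x = x := by
  haveI : Fintype F₀ := Fintype.ofFinite _
  let τ : F ≃ₐ[F₀] F := AlgEquiv.ofRingEquiv (f := σ) fun a : F₀ => hfix a a.2
  by_contra hne
  have hτ : τ ≠ 1 := fun h1 => hne (AlgEquiv.congr_fun h1 x)
  have hτ2 : orderOf τ = 2 := orderOf_eq_prime (p := 2) (by
    rw [pow_two]
    exact AlgEquiv.ext fun a => hinv a) hτ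
  have hfin : Module.finrank F₀ F = r := by
    have h1 := Module.card_eq_pow_finrank (K := F₀) (V := F)
    rw [hcard, Nat.card_eq_fintype_card] at h1
    exact (Nat.pow_right_injective Fintype.one_lt_card h1).symm
  have h3 : orderOf τ ∣ Nat.card (F ≃ₐ[F₀] F) := orderOf_dvd_natCard τ
  rw [IsGalois.card_aut_eq_finrank, hfin, hτ2] at h3
  exact hr2 ((Nat.prime_dvd_prime_iff_eq Nat.prime_two hr).1 h3).symm

namespace Setting

variable (hs : Setting F₀ σ ε c₀ f)

include hs

/-- Vectors with a dual family are independent. -/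
theorem coeff_eq_zero {k : ℕ} (a q : Fin k → ι → F)
    (hq : ∀ i j, f (q j) (a i) = if i = j then 1 else 0) (c : Fin k → F)
    (h : ∑ i, c i • a i = 0) (j : Fin k) : c j = 0 := by
  have h1 : ∀ i, f (a i) (q j) = if i = j then ε else 0 := fun i => by
    rw [hs.herm, hq]; split_ifs <;> simp
  have h2 := congrArg (fun y => f y (q j)) h
  simp only [hs.sesq.zero_left] at h2
  let K : (ι → F) →ₗ[F] F :=
    { toFun := fun y => f y (q j)
      map_add' := fun y z => hs.sesq.add_left y z _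
      map_smul' := fun c y => hs.sesq.smul_left c y _ }
  change K (∑ i, c i • a i) = 0 at h2
  rw [map_sum] at h2
  simp only [map_smul, smul_eq_mul] at h2
  change ∑ i, c i * f (a i) (q j) = 0 at h2
  simp only [h1, mul_ite, mul_zero, Finset.sum_ite_eq', Finset.mem_univ, if_true] at h2
  exact (mul_eq_zero.mp h2).resolve_right hs.eps_ne

/-- Kernels of pairings with `k` independent vectors. -/
theorem finrank_fix_of_dual {k : ℕ} (a q : Fin k → ι → F)
    (hq : ∀ i j, f (q j) (a i) = if i = j then 1 else 0)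
    {W : Submodule F (ι → F)} (hW : ∀ x, x ∈ W ↔ ∀ i, f x (a i) = 0) :
    Module.finrank F W + k = Fintype.card ι := by
  let L : (ι → F) →ₗ[F] (Fin k → F) :=
    { toFun := fun x i => f x (a i)
      map_add' := fun x y => funext fun i => hs.sesq.add_left _ _ _
      map_smul' := fun c x => funext fun i => hs.sesq.smul_left _ _ _ }
  have hker : L.ker = W := by
    ext x
    rw [LinearMap.mem_ker, hW]
    exact funext_iff
  have hsurj : L.range = ⊤ := LinearMap.range_eq_top.mpr fun y => ⟨∑ j, y j • q j, by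
    rw [map_sum]
    funext i
    rw [Finset.sum_apply]
    simp only [map_smul, Pi.smul_apply, smul_eq_mul]
    show ∑ j, y j * f (q j) (a i) = y i
    simp [hq]⟩
  have h := L.finrank_range_add_finrank_ker
  rw [hker, hsurj, finrank_top, Module.finrank_fin_fun, Module.finrank_fintype_fun_eq_card] at h
  omega

/-- An element of determinant one fixing a hyperplane: the displacement is fixed and orthogonal. -/
theorem exists_radical_of_fix {j : GL ι F} (hj : RatMat F₀ (j : Matrix ι ι F)) (hI : Iso f j)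
    (hdet : j ∈ specialLinear ι F) (hj1 : j ≠ 1) (hn : 2 ≤ Fintype.card ι)
    (hfix : Module.finrank F (fixSp (j : Matrix ι ι F)) + 1 = Fintype.card ι) :
    ∃ r ∈ ratVecs ι F₀, r ≠ 0 ∧ ((j : Matrix ι ι F) - 1) *ᵥ r = 0 ∧
      ∀ v, ((j : Matrix ι ι F) - 1) *ᵥ v = 0 → f v r = 0 := by
  set W := fixSp (j : Matrix ι ι F) with hW
  obtain ⟨i, hi⟩ : ∃ i, (Pi.single i 1 : ι → F) ∉ W := by
    by_contra h
    push Not at h
    refine hj1 (fixSp_eq_top_iff.1 (Submodule.eq_top_iff'.2 fun x => ?_))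
    rw [← Finset.univ_sum_single x]
    refine Submodule.sum_mem _ fun i _ => ?_
    rw [show Pi.single i (x i) = x i • (Pi.single i (1 : F) : ι → F) by
      rw [← Pi.single_smul, smul_eq_mul, mul_one]]
    exact Submodule.smul_mem _ _ (h i)
  set x : ι → F := Pi.single i 1 with hx
  set r := ((j : Matrix ι ι F) - 1) *ᵥ x with hr
  have hxR : x ∈ ratVecs ι F₀ := single_mem_ratVecs F₀ i
  have hrR : r ∈ ratVecs ι F₀ := mulVec_mem_ratVecs hj.sub_one hxR
  have hr' : r = (j : Matrix ι ι F) *ᵥ x - x := by rw [hr, sub_mulVec, one_mulVec]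
  have hr0 : r ≠ 0 := fun h => hi (mem_fixSp.2 (sub_eq_zero.1 (hr'.symm.trans h)))
  have horth : ∀ v, ((j : Matrix ι ι F) - 1) *ᵥ v = 0 → f v r = 0 := by
    intro v hv
    rw [sub_mulVec, one_mulVec, sub_eq_zero] at hv
    rw [hr', hs.sesq.sub_right]
    nth_rewrite 1 [← hv]
    rw [hI, sub_self]
  refine ⟨r, hrR, hr0, ?_, horth⟩
  -- `j - 1` has rank one; its trace vanishes by the determinant
  have hsup : W ⊔ Submodule.span F {x} = ⊤ := by
    refine Submodule.eq_top_of_finrank_eq ?_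
    have h1 := Submodule.finrank_sup_add_finrank_inf_eq W (Submodule.span F {x})
    have h2 : W ⊓ Submodule.span F {x} = ⊥ := by
      rw [eq_bot_iff]
      intro y hy
      obtain ⟨c, rfl⟩ := Submodule.mem_span_singleton.1 hy.2
      by_contra hne
      have hc : c ≠ 0 := fun h => hne (by rw [Submodule.mem_bot, h, zero_smul])
      exact hi ((W.smul_mem_iff hc).1 hy.1)
    have h3 : x ≠ 0 := fun h => hi (h ▸ W.zero_mem)
    rw [h2, finrank_bot, finrank_span_singleton h3] at h1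
    rw [Module.finrank_fintype_fun_eq_card]
    omega
  have hdec : ∀ y, ∃ c : F, ((j : Matrix ι ι F) - 1) *ᵥ y = c • r := by
    intro y
    have hy : y ∈ W ⊔ Submodule.span F {x} := hsup ▸ Submodule.mem_top
    obtain ⟨w, hw, z, hz, rfl⟩ := Submodule.mem_sup.1 hy
    obtain ⟨c, rfl⟩ := Submodule.mem_span_singleton.1 hz
    exact ⟨c, by rw [mulVec_add, mulVec_smul, ← hr, sub_mulVec _ _ w, one_mulVec,
      mem_fixSp.1 hw, sub_self, zero_add]⟩
  choose α hα using hdec
  let w : ι → F := fun k => α (Pi.single k 1)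
  have hN : (j : Matrix ι ι F) - 1 = vecMulVec r w := by
    ext k l
    have := congrFun (hα (Pi.single l 1)) k
    rw [mulVec_single_one] at this
    rw [vecMulVec_apply, mul_comm]
    exact this
  have hwr : w ⬝ᵥ r = 0 := by
    have h1 : (j : Matrix ι ι F) = 1 + replicateCol Unit r * replicateRow Unit w := by
      rw [← vecMulVec_eq, ← hN]; abel
    rw [specialLinear, MonoidHom.mem_ker] at hdet
    have h2 : (j : Matrix ι ι F).det = 1 := by
      rw [← GeneralLinearGroup.val_det_apply, hdet, Units.val_one]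
    rw [h1, det_one_add_replicateCol_mul_replicateRow] at h2
    simpa using h2
  rw [hN, vecMulVec_mulVec', hwr, zero_smul]

/-- In characteristic two a centre orthogonal to no rational isotropic vector does not occur. -/
theorem false_of_two [Fintype F] (hc₀ : c₀ ∈ F₀) (h2 : (2 : F) = 0) {r : ℕ} (hr : r.Prime)
    (hr2 : r ≠ 2) (hcard : Fintype.card F = Nat.card F₀ ^ r) {M : Subgroup (GL ι F)}
    (hb : Between F₀ f M) (hA : ∀ a ∈ coeffs F₀ σ ε f M, a ∈ F₀) {y : ι → F} (hy0 : y ≠ 0)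
    (hyy : f y y = 0) (hty : T f y c₀ ∈ M)
    (hno : ∀ x ∈ ratVecs ι F₀, x ≠ 0 → f x x = 0 → f x y ≠ 0) : False := by
  have hn := hb.dim
  have hn' : Module.finrank F (ι → F) = Fintype.card ι := Module.finrank_fintype_fun_eq_card F
  obtain ⟨a, ha, a', ha', haa, -, ha'a⟩ := hs.exists_pair₂ hc₀ ![] (fun i => i.elim0) (by omega)
  obtain ⟨b, hb₁, b', hb₁', hbb, -, hb'b⟩ := hs.exists_pair₂ hc₀ ![a, a'] (fun i => by
    fin_cases i
    · exact ha.1
    · exact ha'.1) (by omega)
  have hba : f b a = 0 := hb₁.2 0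
  have hab := hs.orth_symm hba
  have hsq : ∀ {e : ι → F}, f e e = 0 → T f e c₀ * T f e c₀ = 1 := fun he => by
    rw [hs.T_add he, ← two_mul, h2, zero_mul, T, zero_smul, tv_zero_left]
  set A := T f a c₀ with hA'
  set B := T f b c₀ with hB'
  set t := T f y c₀ with ht
  set i₂ := A * B with hi₂
  have hcom : A * B = B * A := by
    have h3 := hs.conj_T (hs.T_iso haa hs.c₀_trace) hbb c₀
    rw [hs.T_mulVec haa, hba] at h3
    simp only [mul_zero, zero_smul, add_zero] at h3
    rw [mul_inv_eq_iff_eq_mul] at h3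
    exact h3
  have hi₂2 : i₂ * i₂ = 1 := by
    rw [hi₂]
    nth_rewrite 2 [hcom]
    rw [mul_assoc, ← mul_assoc B, hsq hbb, one_mul, hsq haa]
  have hi₂M : i₂ ∈ M := M.mul_mem (hs.T_mem hb ha.1 haa hc₀ hs.c₀_trace)
    (hs.T_mem hb hb₁.1 hbb hc₀ hs.c₀_trace)
  have hi₂R : RatMat F₀ (i₂ : Matrix ι ι F) := by
    rw [hi₂, Units.val_mul]
    exact (hs.ratMat_T ha.1 haa hc₀).mul (hs.ratMat_T hb₁.1 hbb hc₀)
  have hdual₂ : ∀ i j, f (![a', b'] j) (![a, b] i) = if i = j then (1 : F) else 0 := by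
    intro i j
    fin_cases i <;> fin_cases j
    · simpa using ha'a
    · simpa using hb₁'.2 0
    · simpa using hs.orth_symm (hb₁.2 1)
    · simpa using hb'b
  have hi₂x : ∀ x, (i₂ : Matrix ι ι F) *ᵥ x = x + (c₀ * f x a) • a + (c₀ * f x b) • b := fun x => by
    rw [hi₂, Units.val_mul, ← mulVec_mulVec, hs.T_mulVec hbb, hs.T_mulVec haa, hs.sesq.add_left,
      hs.sesq.smul_left, hba]
    module
  have hd₂ : Module.finrank F (fixSp (i₂ : Matrix ι ι F)) + 2 = Fintype.card ι := by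
    refine hs.finrank_fix_of_dual ![a, b] ![a', b'] hdual₂ fun x => ?_
    rw [mem_fixSp, hi₂x]
    constructor
    · intro h
      have h0 : ∑ i, ![c₀ * f x a, c₀ * f x b] i • ![a, b] i = 0 := by
        rw [Fin.sum_univ_two]
        simp only [Matrix.cons_val_zero, Matrix.cons_val_one]
        linear_combination (norm := module) h
      have := hs.coeff_eq_zero _ _ hdual₂ _ h0
      intro i; fin_cases i
      · simpa [hs.c₀_ne] using this 0
      · simpa [hs.c₀_ne] using this 1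
    · intro h
      rw [show f x a = 0 from h 0, show f x b = 0 from h 1]
      simp
  obtain ⟨q, hq, hqy⟩ : ∃ q ∈ ratVecs ι F₀, f q y ≠ 0 := by
    by_contra h
    push Not at h
    exact hy0 (hs.eq_zero_of_orth_rat h)
  have hdt : Module.finrank F (fixSp (t : Matrix ι ι F)) + 1 = Fintype.card ι := by
    refine hs.finrank_fix_of_dual ![y] ![(f q y)⁻¹ • q] (fun i j => ?_) fun x => ?_
    · rw [if_pos (Subsingleton.elim i j), Subsingleton.elim i 0, Subsingleton.elim j 0]
      show f ((f q y)⁻¹ • q) y = 1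
      rw [hs.sesq.smul_left, inv_mul_cancel₀ hqy]
    · rw [mem_fixSp, hs.T_mulVec hyy, add_eq_left, smul_eq_zero, or_iff_left hy0, mul_eq_zero,
        or_iff_right hs.c₀_ne]
      exact ⟨fun h i => by fin_cases i; exact h, fun h => h 0⟩
  obtain ⟨m, hm1, hmt, hmi⟩ := exists_central_of_not_conj (t := t) (hsq hyy) hi₂2 fun x hx => by
    rw [← hx, finrank_fixSp_conj] at hdt
    omega
  set j := (t * i₂) ^ m with hj
  have hjM : j ∈ M := M.pow_mem (M.mul_mem hty hi₂M) m
  have hbig : Fintype.card ι ≤ Module.finrank F (fixSp (j : Matrix ι ι F)) + 3 := by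
    have h1 := Submodule.finrank_sup_add_finrank_inf_eq (fixSp (t : Matrix ι ι F))
      (fixSp (i₂ : Matrix ι ι F))
    have h2 := Submodule.finrank_le (fixSp (t : Matrix ι ι F) ⊔ fixSp (i₂ : Matrix ι ι F))
    have h3 : fixSp (t : Matrix ι ι F) ⊓ fixSp (i₂ : Matrix ι ι F) ≤
        fixSp (j : Matrix ι ι F) := by
      rintro x ⟨hx1, hx2⟩
      rw [SetLike.mem_coe, mem_fixSp] at hx1 hx2
      rw [mem_fixSp]
      exact fixSp_pow (by rw [Units.val_mul, ← mulVec_mulVec, hx2, hx1]) m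
    have h4 := Submodule.finrank_mono h3
    omega
  have hcommutes : ∀ x y : GL ι F, y * x = x * y → ∀ v,
      ((y : Matrix ι ι F) - 1) *ᵥ v = 0 → ((y : Matrix ι ι F) - 1) *ᵥ ((x : Matrix ι ι F) *ᵥ v) = 0 := by
    intro x y hcomm v hv
    rw [sub_mulVec, one_mulVec, sub_eq_zero] at hv ⊢
    rw [mulVec_mulVec, ← Units.val_mul, hcomm, Units.val_mul, ← mulVec_mulVec, hv]
  have hr3 : 3 ≤ r := by have := hr.two_le; omega
  have hjK : j ∈ subfieldSubgroup F₀ (1 : GL ι F) :=
    hs.mem_of_stab hb hA hc₀ hjM hi₂R.sub_one (hcommutes j i₂ hmi)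
      (Or.inl ⟨show 2 ≤ Module.finrank F (fixSp (i₂ : Matrix ι ι F)) by omega,
        show Module.finrank F (fixSp (i₂ : Matrix ι ι F)) + 2 ≤ _ by omega⟩)
  have hjr := SubfieldMax.ratMat_of_fix hr hcard hjK (by
    have := Nat.mul_le_mul_right (Module.finrank F (fixSp (j : Matrix ι ι F))) hr3
    omega)
  have hjdim : (2 ≤ Module.finrank F (fixSp (j : Matrix ι ι F)) ∧
      Module.finrank F (fixSp (j : Matrix ι ι F)) + 2 ≤ Fintype.card ι) ∨
      ∃ x ∈ ratVecs ι F₀, x ≠ 0 ∧ ((j : Matrix ι ι F) - 1) *ᵥ x = 0 ∧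
        ∀ v, ((j : Matrix ι ι F) - 1) *ᵥ v = 0 → f v x = 0 := by
    by_cases h2 : Module.finrank F (fixSp (j : Matrix ι ι F)) + 2 ≤ Fintype.card ι
    · exact Or.inl ⟨by omega, h2⟩
    · have hlt : fixSp (j : Matrix ι ι F) ≠ ⊤ := fun h => hm1 (fixSp_eq_top_iff.1 h)
      have := Submodule.finrank_lt hlt
      rw [hn'] at this
      exact Or.inr (hs.exists_radical_of_fix hjr (hb.iso j hjM) (hb.det hjM) hm1 (by omega) (by omega))
  have htK := hs.mem_of_stab hb hA hc₀ hty hjr.sub_one (hcommutes t j hmt.symm) hjdim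
  have htr := SubfieldMax.ratMat_of_fix hr hcard htK (by
    have := Nat.mul_le_mul_right (Module.finrank F (fixSp (t : Matrix ι ι F))) hr3
    omega)
  -- the centre is rational, hence orthogonal to a rational isotropic vector
  have hy' : (c₀ * f q y) • y ∈ ratVecs ι F₀ := by
    have h1 := Submodule.sub_mem _ (mulVec_mem_ratVecs htr hq) hq
    rwa [hs.T_mulVec hyy, add_sub_cancel_left] at h1
  refine hno _ hy' (smul_ne_zero (mul_ne_zero hs.c₀_ne hqy) hy0) ?_ ?_ <;>
    simp [hs.sesq.smul_left, hs.sesq.smul_right, hyy]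

/-- In odd characteristic a centre orthogonal to no rational isotropic vector does not occur. -/
theorem false_of_odd [Fintype F] (hc₀ : c₀ ∈ F₀) (h2 : (2 : F) ≠ 0) {r : ℕ} (hr : r.Prime)
    (hr2 : r ≠ 2) (hcard : Fintype.card F = Nat.card F₀ ^ r) {M : Subgroup (GL ι F)}
    (hb : Between F₀ f M) (hA : ∀ a ∈ coeffs F₀ σ ε f M, a ∈ F₀) {y : ι → F}
    (hyy : f y y = 0) (hty : T f y c₀ ∈ M)
    (hno : ∀ x ∈ ratVecs ι F₀, x ≠ 0 → f x x = 0 → f x y ≠ 0) : False := by
  have hn := hb.dim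
  -- every norm of a pairing with `y` is rational
  have hN : ∀ x ∈ ratVecs ι F₀, f x x = 0 → f x y * σ (f x y) ∈ F₀ := by
    intro x hx hxx
    by_cases hx0 : x = 0
    · rw [hx0, hs.sesq.zero_left, zero_mul]; exact F₀.zero_mem
    by_contra hnot
    have hlam : leftVec f x ⬝ᵥ (c₀ • y) * (leftVec f y ⬝ᵥ (c₀ • x)) =
        c₀ * c₀ * ε * (f x y * σ (f x y)) := by
      rw [hs.sesq.dot_leftVec, hs.sesq.dot_leftVec, hs.sesq.smul_left, hs.sesq.smul_left, hs.herm x y]
      ring
    set lam := c₀ * c₀ * ε * (f x y * σ (f x y)) with hlam'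
    have hcε : c₀ * c₀ * ε ≠ 0 := mul_ne_zero (mul_ne_zero hs.c₀_ne hs.c₀_ne) hs.eps_ne
    have hlamF : lam ∉ F₀ := fun h => hnot (by
      have := F₀.mul_mem (F₀.inv_mem (F₀.mul_mem (F₀.mul_mem hc₀ hc₀) hs.eps_mem)) h
      rwa [hlam', inv_mul_cancel_left₀ hcε] at this)
    have h1 := exists_tv_irrational hr hr2 hcard h2
      (v₁ := c₀ • x) (φ₁ := leftVec f x) (v₂ := c₀ • y) (φ₂ := leftVec f y)
      (hs.T_dot hxx c₀) (hs.T_dot hyy c₀) (by rwa [hlam])
      (hs.T_mem hb hx hxx hc₀ hs.c₀_trace) hty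
    rw [hlam, smul_smul] at h1
    have hlamσ : σ lam = lam := by
      have e : σ c₀ = -(ε * c₀) := by linear_combination ε * hs.c₀_trace - σ c₀ * hs.eps
      rw [hlam', map_mul, map_mul, map_mul, map_mul, hs.sigma_eps, hs.sigma_sigma, e]
      linear_combination (c₀ * c₀ * ε * (f x y * σ (f x y))) * hs.eps
    have h3 := hs.T_coeff_rat hb hA hc₀ hx hx0 hxx (c := lam⁻¹ * c₀) (by
      rw [map_mul, map_inv₀, hlamσ]
      linear_combination lam⁻¹ * hs.c₀_trace) h1
    have h4 := F₀.mul_mem h3 (F₀.inv_mem hc₀)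
    rw [mul_inv_cancel_right₀ hs.c₀_ne] at h4
    have h5 := F₀.inv_mem h4
    rw [inv_inv] at h5
    exact hlamF h5
  -- two orthogonal isotropic vectors have proportional pairings
  obtain ⟨a, ha, a', ha', haa, -, ha'a⟩ := hs.exists_pair₂ hc₀ ![] (fun i => i.elim0) (by omega)
  obtain ⟨b, hb₁, b', hb₁', hbb, -, hb'b⟩ := hs.exists_pair₂ hc₀ ![a, a'] (fun i => by
    fin_cases i
    · exact ha.1
    · exact ha'.1) (by omega)
  have hba : f b a = 0 := hb₁.2 0
  have hab := hs.orth_symm hba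
  have hb0 : b ≠ 0 := fun h => by rw [h, hs.sesq.zero_right] at hb'b; exact zero_ne_one hb'b
  set u := f a y with hu
  set v := f b y with hv
  have hv0 : v ≠ 0 := hno b hb₁.1 hb0 hbb
  have hX : ∀ t ∈ F₀, σ t * (u * σ v) + t * (v * σ u) ∈ F₀ := by
    intro t ht
    have h1 := hN (a + t • b) (Submodule.add_mem _ ha.1 (smul_mem_ratVecs ht hb₁.1)) (by
      simp only [hs.sesq.add_left, hs.sesq.add_right, hs.sesq.smul_left, hs.sesq.smul_right, haa,
        hbb, hab, hba]
      ring)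
    rw [hs.sesq.add_left, hs.sesq.smul_left, ← hu, ← hv] at h1
    have h3 := F₀.sub_mem (F₀.sub_mem h1 (hN a ha.1 haa))
      (F₀.mul_mem (F₀.mul_mem ht (hs.sigma_mem t ht)) (hN b hb₁.1 hbb))
    convert h3 using 1
    rw [map_add, map_mul, ← hu, ← hv]
    ring
  have hXF : u * σ v ∈ F₀ := by
    have h1 := hX 1 F₀.one_mem
    rw [map_one, one_mul, one_mul] at h1
    by_cases hfix : ∀ x ∈ F₀, σ x = x
    · have hid := eq_self_of_fix hr hr2 hcard hs.sigma_sigma hfix
      rw [hid] at h1 ⊢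
      rw [hid, mul_comm v u, ← two_mul] at h1
      have := F₀.mul_mem (F₀.inv_mem (ofNat_mem F₀ 2)) h1
      rwa [inv_mul_cancel_left₀ h2] at this
    · push Not at hfix
      obtain ⟨t, ht, htσ⟩ := hfix
      have h3 := F₀.sub_mem (hX t ht) (F₀.mul_mem ht h1)
      have h4 := F₀.mul_mem (F₀.inv_mem (F₀.sub_mem (hs.sigma_mem t ht) ht)) h3
      convert h4 using 1
      field_simp [sub_ne_zero.mpr htσ]
      ring
  set k := u * σ v * (v * σ v)⁻¹ with hk
  have hkF : k ∈ F₀ := F₀.mul_mem hXF (F₀.inv_mem (hN b hb₁.1 hbb))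
  refine hno (a - k • b) (Submodule.sub_mem _ ha.1 (smul_mem_ratVecs hkF hb₁.1)) (fun h => ?_) ?_ ?_
  · have h1 := congrArg (fun z => f z a') h
    simp only [hs.sesq.sub_left, hs.sesq.smul_left, hs.sesq.zero_left,
      show f b a' = 0 from hb₁.2 1, mul_zero, sub_zero] at h1
    exact hs.ne_symm (by rw [ha'a]; exact one_ne_zero) h1
  · simp only [hs.sesq.sub_left, hs.sesq.sub_right, hs.sesq.smul_left, hs.sesq.smul_right, haa,
      hbb, hab, hba]
    ring
  · have hσv : σ v ≠ 0 := by simpa using hv0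
    rw [hs.sesq.sub_left, hs.sesq.smul_left, ← hu, ← hv, hk]
    field_simp
    ring

/-- The dichotomy. -/
theorem le_or_forall_T [Fintype F] (hc₀ : c₀ ∈ F₀) {r : ℕ} (hr : r.Prime)
    (hcard : Fintype.card F = Nat.card F₀ ^ r) {M : Subgroup (GL ι F)} (hb : Between F₀ f M) :
    M ≤ subfieldSubgroup F₀ (1 : GL ι F) ∨
      ∀ z, f z z = 0 → ∀ c, c + ε * σ c = 0 → T f z c ∈ M := by
  by_cases hA : ∀ a ∈ coeffs F₀ σ ε f M, a ∈ F₀
  swap
  · push Not at hA
    obtain ⟨a, ha, ha'⟩ := hA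
    exact Or.inr fun z hz c hc =>
      hs.forall_T_mem hb hc₀ (hs.coeffs_eq_univ hb hc₀ hr hcard ha ha') hz hc
  refine Or.inl fun g hg => ?_
  have hn := hb.dim
  obtain ⟨e, he, e', -, hee, -, he'e⟩ := hs.exists_pair₂ hc₀ ![] (fun i => i.elim0) (by omega)
  have he0 : e ≠ 0 := fun h => by rw [h, hs.sesq.zero_right] at he'e; exact zero_ne_one he'e
  set y := (g : Matrix ι ι F) *ᵥ e with hy
  by_cases hex : ∃ x ∈ ratVecs ι F₀, x ≠ 0 ∧ f x x = 0 ∧ f x y = 0
  · obtain ⟨x, hx, hx0, hxx, hxy⟩ := hex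
    exact hs.mem_of_orth hb hA hc₀ hg he.1 he0 hee hx hx0 hxx hxy
  push Not at hex
  exfalso
  have hyy : f y y = 0 := by rw [hy, hb.iso g hg, hee]
  have hty : T f y c₀ ∈ M := by
    rw [hy, ← hs.conj_T (hb.iso g hg) hee]
    exact M.mul_mem (M.mul_mem hg (hs.T_mem hb he.1 hee hc₀ hs.c₀_trace)) (M.inv_mem hg)
  by_cases hr2 : r = 2
  · -- the rational vectors orthogonal to `y` have dimension at least `n - 2`
    subst hr2
    haveI : Module.Finite F₀ (ι → F) := Module.Finite.of_finite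
    haveI : Module.Finite F₀ (ratVecs ι F₀) := Module.Finite.of_finite
    haveI : Fintype F₀ := Fintype.ofFinite _
    have hfin : Module.finrank F₀ F = 2 := by
      have h1 := Module.card_eq_pow_finrank (K := F₀) (V := F)
      rw [hcard, Nat.card_eq_fintype_card] at h1
      exact (Nat.pow_right_injective Fintype.one_lt_card h1).symm
    let L : ratVecs ι F₀ →ₗ[F₀] F :=
      { toFun := fun x => f x.1 y
        map_add' := fun x z => hs.sesq.add_left _ _ _
        map_smul' := fun c x => hs.sesq.smul_left _ _ _ }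
    have h1 := L.finrank_range_add_finrank_ker
    have h2 := Submodule.finrank_le L.range
    rw [hfin] at h2
    rw [finrank_ratVecs] at h1
    obtain ⟨x, hx, hx0, hxx⟩ := hs.exists_iso₂ hc₀ (L.ker.map (ratVecs ι F₀).subtype)
      (Submodule.map_subtype_le _ _) (by rw [Submodule.finrank_map_subtype_eq]; omega)
    obtain ⟨x, hxk, rfl⟩ := Submodule.mem_map.1 hx
    exact hex _ x.2 hx0 hxx (LinearMap.mem_ker.1 hxk)
  by_cases h2 : (2 : F) = 0
  · exact hs.false_of_two hc₀ h2 hr hr2 hcard hb hA (mulVec_ne_zero g he0) hyy hty hex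
  · exact hs.false_of_odd hc₀ h2 hr hr2 hcard hb hA hyy hty hex

end Setting

end CfsgLib.FormSubfield
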