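import Cfsg.Agent.FormSubfield.Main
import Cfsg.Agent.MaxSub.SymplecticBasic
import Cfsg.Agent.MaxSub.HermStandard
import Cfsg.Agent.Forms.UnitaryTransvections

/-!
# Subfield groups are maximal in `Sp` and in `SU`
-/

set_option autoImplicit false
set_option linter.unusedSectionVars false

namespace CfsgLib.FormSubfield

open Matrix Cfsg.Geo CfsgLib.MaxSub

variable {ι : Type} [Fintype ι] [DecidableEq ι] {F : Type*} [Field F] [Fintype F]

/-- The transported and rescaled form. -/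
def pullForm (f : (ι → F) → (ι → F) → F) (ζ : F) (P : GL ι F) (u v : ι → F) : F :=
  ζ * f ((P : Matrix ι ι F) *ᵥ u) ((P : Matrix ι ι F) *ᵥ v)

theorem sesq_pullForm {σ : F ≃+* F} {f : (ι → F) → (ι → F) → F} (hf : SesqForm σ f) {ζ : F}
    (hζ : ζ ≠ 0) (P : GL ι F) : SesqForm σ (pullForm f ζ P) := by
  refine ⟨fun x y v => ?_, fun c x v => ?_, fun v x y => ?_, fun c v x => ?_, fun v hv => ?_⟩
  · simp only [pullForm, mulVec_add, hf.add_left, mul_add]
  · simp only [pullForm, mulVec_smul, hf.smul_left]; ring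
  · simp only [pullForm, mulVec_add, hf.add_right, mul_add]
  · simp only [pullForm, mulVec_smul, hf.smul_right]; ring
  · obtain ⟨⟨x, hx⟩, ⟨y, hy⟩⟩ := hf.nondegenerate _ (mulVec_ne_zero P hv)
    exact ⟨⟨((P⁻¹ : GL ι F) : Matrix ι ι F) *ᵥ x, by
        rw [pullForm, mulVec_inv_mulVec]; exact mul_ne_zero hζ hx⟩,
      ⟨((P⁻¹ : GL ι F) : Matrix ι ι F) *ᵥ y, by
        rw [pullForm, mulVec_inv_mulVec]; exact mul_ne_zero hζ hy⟩⟩

theorem pullForm_mem {f : (ι → F) → (ι → F) → F} {F₀ : Subfield F} {ζ : F} {P : GL ι F}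
    (hP : IsFormRationalStructure f F₀ ζ P) :
    ∀ u ∈ ratVecs ι F₀, ∀ v ∈ ratVecs ι F₀, pullForm f ζ P u v ∈ F₀ :=
  fun u hu v hv => hP u v hu hv

theorem exists_notMem {F₀ : Subfield F} {r : ℕ} (hr : r.Prime)
    (hcard : Fintype.card F = Nat.card F₀ ^ r) : ∃ z : F, z ∉ F₀ := by
  by_contra h
  push Not at h
  haveI : Fintype F₀ := Fintype.ofFinite _
  have h1 : Nat.card F₀ = Fintype.card F := by
    rw [Nat.card_eq_fintype_card]
    exact Fintype.card_congr ⟨Subtype.val, fun x => ⟨x, h x⟩, fun _ => rfl, fun _ => rfl⟩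
  rw [h1] at hcard
  exact absurd (Nat.pow_eq_self_iff Fintype.one_lt_card |>.1 hcard.symm) hr.ne_one

/-- The general maximality statement. -/
theorem isMaximalIn_of_setting {f : (ι → F) → (ι → F) → F} {σ : F ≃+* F} (hf : SesqForm σ f)
    {F₀ : Subfield F} {ε c₀ ζ : F} (hζ : ζ ≠ 0) (P : GL ι F)
    (hs : Setting F₀ σ ε c₀ (pullForm f ζ P)) {r : ℕ} (hr : r.Prime)
    (hcard : Fintype.card F = Nat.card F₀ ^ r)
    (hdich : ∀ M : Subgroup (GL ι F), Between F₀ (pullForm f ζ P) M →
      M ≤ subfieldSubgroup F₀ (1 : GL ι F) ∨ ∀ z, pullForm f ζ P z z = 0 → ∀ c,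
        c + ε * σ c = 0 → T (pullForm f ζ P) z c ∈ M) (hn : 6 ≤ Fintype.card ι)
    (Ω : Subgroup (GL ι F))
    (hΩ : ∀ g, g ∈ Ω ↔ Iso f g ∧ g ∈ specialLinear ι F)
    (hgen : ∀ M : Subgroup (GL ι F),
      (∀ z, f z z = 0 → ∀ c, c / ζ + ε * σ (c / ζ) = 0 → tv (c • z) (leftVec f z) ∈ M) → Ω ≤ M) :
    IsMaximalIn Ω (subfieldSubgroup F₀ P ⊓ Ω) := by
  haveI : (specialLinear ι F).Normal := MonoidHom.normal_ker _
  have hK : ∀ x, x ∈ subfieldSubgroup F₀ P ↔ P⁻¹ * x * P ∈ subfieldSubgroup F₀ (1 : GL ι F) := by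
    intro x
    simp only [subfieldSubgroup, map_one, Subgroup.mem_map]
    constructor
    · rintro ⟨y, hy, rfl⟩
      exact ⟨y, hy, by simp [mul_assoc]⟩
    · rintro ⟨y, hy, e⟩
      exact ⟨y, hy, by
        have e' : y = P⁻¹ * x * P := by simpa using e
        subst e'
        simp [mul_assoc]⟩
  have hsl : ∀ x, x ∈ specialLinear ι F → P * x * P⁻¹ ∈ specialLinear ι F := fun x h =>
    Subgroup.Normal.conj_mem inferInstance x h P
  have hiso : ∀ x, Iso (pullForm f ζ P) x ↔ Iso f (P * x * P⁻¹) := by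
    intro x
    constructor
    · intro h u v
      have := h (((P⁻¹ : GL ι F) : Matrix ι ι F) *ᵥ u) (((P⁻¹ : GL ι F) : Matrix ι ι F) *ᵥ v)
      simp only [pullForm, mulVec_inv_mulVec] at this
      have := mul_left_cancel₀ hζ this
      simpa only [Units.val_mul, ← mulVec_mulVec] using this
    · intro h u v
      have := h ((P : Matrix ι ι F) *ᵥ u) ((P : Matrix ι ι F) *ᵥ v)
      simp only [Units.val_mul, ← mulVec_mulVec] at this
      simp only [mulVec_mulVec _ (P⁻¹ : GL ι F).val, Units.inv_mul, one_mulVec] at this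
      rw [pullForm, pullForm, this]
  have hT : ∀ z, pullForm f ζ P z z = 0 → ∀ c, P * T (pullForm f ζ P) z c * P⁻¹ =
      tv ((c * ζ) • ((P : Matrix ι ι F) *ᵥ z)) (leftVec f ((P : Matrix ι ι F) *ᵥ z)) := by
    intro z hz c
    have hz' : f ((P : Matrix ι ι F) *ᵥ z) ((P : Matrix ι ι F) *ᵥ z) = 0 :=
      (mul_eq_zero.mp hz).resolve_left hζ
    refine ext_mulVec fun x => ?_
    rw [tv_mulVec (by rw [dotProduct_smul, hf.dot_leftVec, hz', smul_zero]), hf.dot_leftVec,
      Units.val_mul, Units.val_mul, ← mulVec_mulVec, ← mulVec_mulVec, hs.T_mulVec hz, mulVec_add,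
      mulVec_smul, mulVec_inv_mulVec, pullForm, mulVec_inv_mulVec, smul_smul]
    congr 2
    ring
  refine isMaximalIn_of inf_le_right ?_ fun M hHM hMK g hg hg' => ?_
  · -- an irrational transvection
    obtain ⟨δ, hδ⟩ := exists_notMem hr hcard
    obtain ⟨e, he, e', he', hee, he'e', he'e⟩ := hs.exists_pair ![] (fun i => i.elim0) (by omega)
    obtain ⟨w, hw, w', hw', hww, -, hw'w⟩ := hs.exists_pair_hyp hs.exists_iso ![e, e'] (fun i => by
      fin_cases i
      · exact he.1
      · exact he'.1) 1 0 he'e' hee (by simp [he'e]) (by omega)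
    set f' := pullForm f ζ P
    have hwe : f' w e = 0 := hw.2 0
    have hwe' : f' w e' = 0 := hw.2 1
    set z := e + δ • w with hz
    have hzz : f' z z = 0 := by
      simp only [hz, hs.sesq.add_left, hs.sesq.add_right, hs.sesq.smul_left, hs.sesq.smul_right,
        hee, hww, hwe, hs.orth_symm hwe]
      ring
    refine ⟨P * T f' z c₀ * P⁻¹, (hΩ _).2
      ⟨(hiso _).1 (hs.T_iso hzz hs.c₀_trace), hsl _ (T_mem_specialLinear _ _ _)⟩, fun hmem => ?_⟩
    have h1 := (hK _).1 hmem.1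
    rw [show P⁻¹ * (P * T f' z c₀ * P⁻¹) * P = T f' z c₀ by group] at h1
    obtain ⟨k, hk, hkt⟩ := mem_subfieldSubgroup_one_iff.1 h1
    have he0 : e ≠ 0 := fun h => by rw [h, hs.sesq.zero_right] at he'e; exact zero_ne_one he'e
    have hfe : (T f' z c₀ : Matrix ι ι F) *ᵥ e = e := by
      rw [hs.T_mulVec hzz, hz, hs.sesq.add_right, hs.sesq.smul_right, hee, hs.orth_symm hwe]
      simp
    have hkF : k ∈ F₀ := by
      obtain ⟨i, hi⟩ := Function.ne_iff.mp he0
      have h2 := mulVec_mem_ratVecs hkt he.1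
      rw [smul_mulVec, hfe] at h2
      have h3 := F₀.div_mem (h2 i) (he.1 i)
      rwa [Pi.smul_apply, smul_eq_mul, mul_div_assoc, div_self hi, mul_one] at h3
    have h2 := Submodule.sub_mem _
      (smul_mem_ratVecs (F₀.inv_mem hkF) (mulVec_mem_ratVecs hkt he'.1)) he'.1
    rw [smul_mulVec, inv_smul_smul₀ hk, hs.T_mulVec hzz, add_sub_cancel_left] at h2
    have hval : f' e' z = 1 := by
      rw [hz, hs.sesq.add_right, hs.sesq.smul_right, he'e, hs.orth_symm hwe', mul_zero, add_zero]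
    rw [hval, mul_one] at h2
    have hc₀ : c₀ ∈ F₀ := by
      have h3 := hs.rat _ h2 e' he'.1
      rw [hz, hs.sesq.smul_left, hs.sesq.add_left, hs.sesq.smul_left, hwe', mul_zero, add_zero,
        show f' e e' = ε by rw [hs.herm, he'e, map_one, mul_one]] at h3
      have h4 := F₀.mul_mem h3 hs.eps_mem
      rwa [mul_assoc, hs.eps, mul_one] at h4
    have h3 := smul_mem_ratVecs (F₀.inv_mem hc₀) h2
    rw [inv_smul_smul₀ hs.c₀_ne] at h3
    have h4 := hs.rat z h3 w' hw'.1
    have hew' : f' e w' = 0 := hs.orth_symm (hw'.2 0)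
    rw [hz, hs.sesq.add_left, hs.sesq.smul_left, hew', zero_add,
      show f' w w' = ε by rw [hs.herm, hw'w, map_one, mul_one]] at h4
    apply hδ
    have h5 := F₀.mul_mem h4 hs.eps_mem
    rwa [mul_assoc, hs.eps, mul_one] at h5
  · let M' : Subgroup (GL ι F) := M.comap (MulAut.conj P).toMonoidHom
    have hmem : ∀ x, x ∈ M' ↔ P * x * P⁻¹ ∈ M := fun x => Iff.rfl
    have hb : Between F₀ (pullForm f ζ P) M' := by
      refine ⟨fun x hxI hxd hxK => (hmem x).2 (hHM ⟨(hK _).2 ?_, (hΩ _).2 ⟨(hiso x).1 hxI, hsl x hxd⟩⟩),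
        fun x hx => (hiso x).2 ((hΩ _).1 (hMK ((hmem x).1 hx))).1, fun x hx => ?_, hn⟩
      · rwa [show P⁻¹ * (P * x * P⁻¹) * P = x by group]
      · have h1 := ((hΩ _).1 (hMK ((hmem x).1 hx))).2
        have h2 := Subgroup.Normal.conj_mem inferInstance _ h1 P⁻¹
        rwa [show P⁻¹ * (P * x * P⁻¹) * P⁻¹⁻¹ = x by group] at h2
    rcases hdich M' hb with h | h
    · refine absurd ⟨(hK g).2 (h ((hmem _).2 ?_)), hMK hg⟩ hg'
      rwa [show P * (P⁻¹ * g * P) * P⁻¹ = g by group]
    · refine hgen M fun z hz c hc => ?_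
      set z' := ((P⁻¹ : GL ι F) : Matrix ι ι F) *ᵥ z with hz'
      have hz'0 : pullForm f ζ P z' z' = 0 := by rw [pullForm, hz', mulVec_inv_mulVec, hz, mul_zero]
      have h1 := (hmem _).1 (h z' hz'0 (c / ζ) hc)
      rw [hT z' hz'0, hz', mulVec_inv_mulVec, div_mul_cancel₀ c hζ] at h1
      exact h1

/-! ### The symplectic case -/

theorem spGL_le_specialLinear {m : ℕ} : Cfsg.spGL m F ≤ specialLinear (Fin m ⊕ Fin m) F :=
  spGL_le_of_forall_spTv fun v c => tv_mem_specialLinear _ _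

theorem sq_closure (c : F) :
    c ∈ AddSubgroup.closure (Set.range fun a : F => (1 : F) * (a * a)) := by
  have hsq : ∀ a : F, a * a ∈ AddSubgroup.closure (Set.range fun a : F => (1 : F) * (a * a)) :=
    fun a => AddSubgroup.subset_closure ⟨a, one_mul _⟩
  by_cases h2 : (2 : F) = 0
  · haveI : CharP F 2 := (CharP.charP_iff_prime_eq_zero Nat.prime_two).2 (by exact_mod_cast h2)
    obtain ⟨a, rfl⟩ := (bijective_frobenius F 2).surjective c
    rw [frobenius_def, pow_two]
    exact hsq a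
  · have e : c = (c / 2 + 1) * (c / 2 + 1) - c / 2 * (c / 2) - 1 * 1 := by
      field_simp
      ring
    rw [e]
    exact sub_mem (sub_mem (hsq _) (hsq _)) (hsq 1)

theorem isMaximalIn_spSubfield (m : ℕ) (hm : 3 ≤ m) (F₀ : Subfield F) (r : ℕ) (hr : r.Prime)
    (hcard : Fintype.card F = Nat.card F₀ ^ r) (P : GL (Fin m ⊕ Fin m) F) (ζ : F) (hζ : ζ ≠ 0)
    (hP : IsFormRationalStructure (Cfsg.sympForm m F) F₀ ζ P) :
    IsMaximalIn (Cfsg.spGL m F) (subfieldSubgroup F₀ P ⊓ Cfsg.spGL m F) := by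
  have hω := sesq_sympForm (m := m) (F := F)
  have hiso : ∀ U : Submodule F₀ (Fin m ⊕ Fin m → F), U ≤ ratVecs (Fin m ⊕ Fin m) F₀ →
      2 ≤ Module.finrank F₀ U →
      ∃ z ∈ U, z ≠ 0 ∧ pullForm (Cfsg.sympForm m F) ζ P z z = 0 := by
    intro U hU h2
    have hne : U ≠ ⊥ := fun h => by rw [h, finrank_bot] at h2; omega
    obtain ⟨z, hz, hz0⟩ := Submodule.exists_mem_ne_zero_of_ne_bot hne
    exact ⟨z, hz, hz0, by rw [pullForm, Forms.sympForm_self, mul_zero]⟩
  have hs : Setting F₀ (RingEquiv.refl F) (-1) 1 (pullForm (Cfsg.sympForm m F) ζ P) := by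
    refine
      { sesq := sesq_pullForm hω hζ P, eps := by ring, sigma_sigma := fun a => rfl,
        sigma_eps := rfl, herm := fun u v => ?_, rat := pullForm_mem hP,
        sigma_mem := fun x hx => hx, c₀_ne := one_ne_zero,
        c₀_trace := by simp, exists_iso := fun U hU h2 => hiso U hU (by omega), exists_iso₂ := fun _ => hiso, shift := fun v hv e he _ _ => ?_,
        trace_gen := fun c _ => sq_closure c }
    · show ζ * _ = -1 * (ζ * _)
      rw [Forms.sympForm_swap]
      ring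
    · exact ⟨0, F₀.zero_mem, by rw [pullForm, Forms.sympForm_self, mul_zero]⟩
  refine isMaximalIn_of_setting hω hζ P hs hr hcard
    (fun M hb => hs.le_or_forall_T F₀.one_mem hr hcard hb)
    (by simp only [Fintype.card_sum, Fintype.card_fin]; omega) _
    (fun g => ⟨fun h => ⟨h, spGL_le_specialLinear h⟩, fun h => h.1⟩) fun M hM =>
    spGL_le_of_forall_spTv fun v c => hM v (Forms.sympForm_self v) c (by simp)

/-! ### The unitary cases -/

theorem su_le_of_forall_tv {n q : ℕ} (hn : 4 ≤ n) (hF : Fintype.card F = q ^ 2) {σ : F ≃+* F}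
    (hσ : ∀ a, σ a = a ^ q) {M : Subgroup (GL (Fin n) F)}
    (hM : ∀ z, Cfsg.hermForm n F q z z = 0 → ∀ c, c + σ c = 0 →
      tv (c • z) (leftVec (Cfsg.hermForm n F q) z) ∈ M) :
    Cfsg.GU n F q ⊓ specialLinear (Fin n) F ≤ M := by
  obtain ⟨C, rfl⟩ := RepBounds.Unit.exists_conjField q hF
  have hCσ : ∀ a, C.σ a = σ a := fun a => by rw [C.pow, hσ]
  have hne : σ ≠ RingEquiv.refl F := fun h =>
    C.ne_id (RingHom.ext fun a => by rw [hCσ, h]; rfl)
  have hinv : ∀ a, σ (σ a) = a := fun a => by rw [← hCσ, ← hCσ, C.invol]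
  have hf := isUnitaryForm_hermForm (n := n) hne hinv hσ
  have hs := sesqForm_of_unitary hf
  intro g hg'
  obtain ⟨hg, hdet⟩ := Subgroup.mem_inf.1 hg'
  have hd : (g : Matrix (Fin n) (Fin n) F).det = 1 := by
    rw [specialLinear, MonoidHom.mem_ker] at hdet
    rw [← GeneralLinearGroup.val_det_apply, hdet, Units.val_one]
  let A : RepBounds.Unit.suG C (Fin n) := ⟨⟨(g : Matrix (Fin n) (Fin n) F), hd⟩, fun u v => by
    have := mem_GU_iff_forall.mp hg u v
    rwa [RepBounds.Unit.hermForm_eq] at this⟩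
  have key : ∀ A : RepBounds.Unit.suG C (Fin n), Matrix.SpecialLinearGroup.toGL A.1 ∈ M := by
    intro A
    have hA : A ∈ RepBounds.Unit.transvs C (Fin n) := by
      rw [RepBounds.Unit.transvs_eq_top C (by rw [Fintype.card_fin]; omega)]
      exact Subgroup.mem_top A
    induction hA using Subgroup.closure_induction with
    | mem A hA =>
      obtain ⟨v, c, hv, hc, hA⟩ := hA
      rw [← RepBounds.Unit.hermForm_eq] at hv
      have h1 := hM v hv c (by rw [← hCσ]; exact C.mem_skew.1 hc)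
      have e : Matrix.SpecialLinearGroup.toGL A.1 =
          tv (c • v) (leftVec (Cfsg.hermForm n F C.q) v) := ext_mulVec fun x => by
        rw [tv_mulVec (by rw [dotProduct_smul, hs.dot_leftVec, hv, smul_zero]), hs.dot_leftVec,
          smul_smul, mul_comm _ c, RepBounds.Unit.hermForm_eq]
        exact hA x
      rw [e]; exact h1
    | one => rw [Subgroup.coe_one, map_one]; exact M.one_mem
    | mul A B _ _ hA hB => rw [Subgroup.coe_mul, map_mul]; exact M.mul_mem hA hB
    | inv A _ hA => rw [Subgroup.coe_inv, map_inv]; exact M.inv_mem hA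
  have := key A
  rwa [show Matrix.SpecialLinearGroup.toGL A.1 = g from Units.ext rfl] at this

theorem isMaximalIn_suSubfield_odd (n q : ℕ) (hF : Fintype.card F = q ^ 2) (hn : 6 ≤ n)
    (F₀ : Subfield F) (r : ℕ) (hr : r.Prime) (hro : Odd r)
    (hcard : Fintype.card F = Nat.card F₀ ^ r) (P : GL (Fin n) F)
    (hP : IsFormRationalStructure (Cfsg.hermForm n F q) F₀ 1 P) :
    IsMaximalIn (Cfsg.GU n F q ⊓ specialLinear (Fin n) F)
      (subfieldSubgroup F₀ P ⊓ (Cfsg.GU n F q ⊓ specialLinear (Fin n) F)) := by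
  obtain ⟨σ, hne, hinv, hσ⟩ := exists_conjEquiv hF
  have hf := isUnitaryForm_hermForm (n := n) hne hinv hσ
  have hh := sesqForm_of_unitary hf
  have hmem : ∀ x ∈ F₀, σ x ∈ F₀ := fun x hx => by rw [hσ]; exact F₀.pow_mem hx q
  let σ₀ : F₀ ≃+* F₀ :=
    { toFun := fun x => ⟨σ x, hmem x x.2⟩
      invFun := fun x => ⟨σ x, hmem x x.2⟩
      left_inv := fun x => Subtype.ext (hinv x)
      right_inv := fun x => Subtype.ext (hinv x)
      map_mul' := fun x y => Subtype.ext (map_mul σ _ _)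
      map_add' := fun x y => Subtype.ext (map_add σ _ _) }
  have hinv₀ : ∀ a, σ₀ (σ₀ a) = a := fun a => Subtype.ext (hinv a)
  have hne₀ : σ₀ ≠ RingEquiv.refl F₀ := by
    intro h
    have hfix : ∀ a : F₀, σ a = a := fun a =>
      congrArg (fun x : F₀ => (x : F)) (RingEquiv.congr_fun h a)
    haveI : Fintype F₀ := Fintype.ofFinite _
    let τ : F ≃ₐ[F₀] F := AlgEquiv.ofRingEquiv (f := σ) hfix
    have hτ : τ ≠ 1 := fun h1 => hne (RingEquiv.ext fun a => by
      exact AlgEquiv.congr_fun h1 a)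
    have hτ2 : orderOf τ = 2 := orderOf_eq_prime (p := 2) (by
      rw [pow_two]
      exact AlgEquiv.ext fun a => hinv a) hτ
    have hfin : Module.finrank F₀ F = r := by
      have h1 := Module.card_eq_pow_finrank (K := F₀) (V := F)
      rw [hcard, Nat.card_eq_fintype_card] at h1
      exact (Nat.pow_right_injective Fintype.one_lt_card h1).symm
    have h3 : orderOf τ ∣ Nat.card (F ≃ₐ[F₀] F) := orderOf_dvd_natCard τ
    rw [IsGalois.card_aut_eq_finrank, hfin, hτ2] at h3
    have h4 := (Nat.prime_dvd_prime_iff_eq Nat.prime_two hr).1 h3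
    rw [← h4] at hro
    exact absurd hro (by decide)
  obtain ⟨c₀, hc₀, hc₀'⟩ := exists_traceZero hne₀ hinv₀
  have hc₀F : σ (c₀ : F) = -(c₀ : F) := congrArg Subtype.val hc₀'
  have hc₀0 : (c₀ : F) ≠ 0 := fun h => hc₀ (Subtype.ext h)
  set f' := pullForm (Cfsg.hermForm n F q) 1 P with hf'
  have hs' : SesqForm σ f' := sesq_pullForm hh one_ne_zero P
  have hherm : ∀ u v, f' v u = σ (f' u v) := fun u v => by
    rw [hf', pullForm, pullForm, one_mul, one_mul, hf.herm]
  have hrat := pullForm_mem hP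
  rw [← hf'] at hrat
  have hiso : ∀ U : Submodule F₀ (Fin n → F), U ≤ ratVecs (Fin n) F₀ →
      2 ≤ Module.finrank F₀ U → ∃ z ∈ U, z ≠ 0 ∧ f' z z = 0 := by
    intro U hU h2
    haveI : Module.Finite F₀ (Fin n → F) := Module.Finite.of_finite
    have hne' : U ≠ ⊥ := fun h => by rw [h, finrank_bot] at h2; omega
    obtain ⟨w, hw, hw0⟩ := Submodule.exists_mem_ne_zero_of_ne_bot hne'
    by_cases hww : f' w w = 0
    · exact ⟨w, hw, hw0, hww⟩
    obtain ⟨v, hv, hvw⟩ : ∃ v ∈ U, v ∉ Submodule.span F₀ {w} := by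
      by_contra h
      push Not at h
      have := Submodule.finrank_mono (h : U ≤ Submodule.span F₀ {w})
      rw [finrank_span_singleton hw0] at this
      omega
    have ha : f' v w / f' w w ∈ F₀ :=
      F₀.div_mem (hrat v (hU hv) w (hU hw)) (hrat w (hU hw) w (hU hw))
    set t := v - (f' v w / f' w w) • w with ht
    have htU : t ∈ U := U.sub_mem hv (U.smul_mem (⟨_, ha⟩ : F₀) hw)
    have htw : f' t w = 0 := by
      rw [ht, hs'.sub_left, hs'.smul_left, div_mul_cancel₀ _ hww, sub_self]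
    have hwt : f' w t = 0 := by rw [hherm t w, htw, map_zero]
    have ht0 : t ≠ 0 := fun h => hvw (Submodule.mem_span_singleton.mpr
      ⟨(⟨_, ha⟩ : F₀), (sub_eq_zero.mp h).symm⟩)
    obtain ⟨l, hl⟩ := norm_surjective hne₀ hinv₀
      (a := (⟨- f' t t / f' w w, F₀.div_mem (F₀.neg_mem (hrat t (hU htU) t (hU htU)))
        (hrat w (hU hw) w (hU hw))⟩ : F₀)) (Subtype.ext (by
          show σ (- f' t t / f' w w) = _
          rw [map_div₀, map_neg, ← hherm, ← hherm]))
    have hlF : (l : F) * σ l = - f' t t / f' w w := congrArg Subtype.val hl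
    refine ⟨t + (l : F) • w, U.add_mem htU (U.smul_mem l hw), fun h => hvw ?_, ?_⟩
    · refine Submodule.mem_span_singleton.mpr
        ⟨((⟨_, ha⟩ : F₀) - l), ?_⟩
      show (f' v w / f' w w - (l : F)) • w = v
      rw [ht] at h
      linear_combination (norm := module) -h
    · rw [hs'.add_left, hs'.add_right, hs'.add_right, hs'.smul_right, hs'.smul_left,
        hs'.smul_left, hs'.smul_right, htw, hwt, ← mul_assoc, hlF, div_mul_cancel₀ _ hww]
      ring
  have hs : Setting F₀ σ 1 (c₀ : F) f' := by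
    refine
      { sesq := hs', eps := one_mul 1, sigma_sigma := hinv, sigma_eps := map_one σ,
        herm := fun u v => by rw [one_mul]; exact hherm u v, rat := hrat, sigma_mem := hmem,
        c₀_ne := hc₀0,
        c₀_trace := by rw [hc₀F]; ring, exists_iso := fun U hU h2 => hiso U hU (by omega), exists_iso₂ := fun _ => hiso,
        shift := fun v hv e he hee hve => ?_, trace_gen := fun c hc => ?_ }
    · obtain ⟨m, hm⟩ := trace_surjective hne₀ hinv₀
        (a := (⟨- f' v v, F₀.neg_mem (hrat v hv v hv)⟩ : F₀)) (Subtype.ext (by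
          show σ (- f' v v) = _
          rw [map_neg, ← hherm]))
      have hmF : (m : F) + σ m = - f' v v := congrArg Subtype.val hm
      have hev : f' e v ≠ 0 := fun h => hve (by rw [hherm e v, h, map_zero])
      refine ⟨(m : F) / f' e v, F₀.div_mem m.2 (hrat e he v hv), ?_⟩
      rw [hs'.add_left, hs'.add_right, hs'.add_right, hs'.smul_left, hs'.smul_right, hs'.smul_left,
        hs'.smul_right, hee, mul_zero, mul_zero, add_zero, map_div₀, ← hherm e v,
        div_mul_cancel₀ _ hev, div_mul_cancel₀ _ hve]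
      linear_combination hmF
    · rw [one_mul] at hc
      obtain ⟨t, ht⟩ := norm_surjective hne hinv (a := c / (c₀ : F)) (by
        rw [map_div₀, hc₀F, eq_neg_of_add_eq_zero_right hc, neg_div_neg_eq])
      exact AddSubgroup.subset_closure ⟨t, by
        show (c₀ : F) * (t * σ t) = c
        rw [ht, mul_div_cancel₀ _ hc₀0]⟩
  exact isMaximalIn_of_setting hh one_ne_zero P hs hr hcard
    (fun M hb => hs.le_or_forall_T c₀.2 hr hcard hb) (by simpa using hn) _
    (fun g => Iff.rfl) fun M hM => su_le_of_forall_tv (by omega) hF hσ fun z hz c hc =>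
      hM z hz c (by rw [div_one, one_mul]; exact hc)

theorem isMaximalIn_suSubfield_symp (n q : ℕ) (hF : Fintype.card F = q ^ 2) (hn : 6 ≤ n)
    (F₀ : Subfield F) (hcard : Fintype.card F = Nat.card F₀ ^ 2) (ζ : F) (hζ0 : ζ ≠ 0)
    (hζ : ζ + ζ ^ q = 0) (P : GL (Fin n) F)
    (hP : IsFormRationalStructure (Cfsg.hermForm n F q) F₀ ζ P)
    (halt : ∀ u : Fin n → F, (∀ i, u i ∈ F₀) →
      Cfsg.hermForm n F q ((P : Matrix (Fin n) (Fin n) F) *ᵥ u)
        ((P : Matrix (Fin n) (Fin n) F) *ᵥ u) = 0) :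
    IsMaximalIn (Cfsg.GU n F q ⊓ specialLinear (Fin n) F)
      (subfieldSubgroup F₀ P ⊓ (Cfsg.GU n F q ⊓ specialLinear (Fin n) F)) := by
  obtain ⟨σ, hne, hinv, hσ⟩ := exists_conjEquiv hF
  have hf := isUnitaryForm_hermForm (n := n) hne hinv hσ
  have hh := sesqForm_of_unitary hf
  have hσζ : σ ζ = -ζ := by rw [hσ]; linear_combination hζ
  have hmem : ∀ x ∈ F₀, σ x ∈ F₀ := fun x hx => by rw [hσ]; exact F₀.pow_mem hx q
  have hq : Nat.card F₀ = q := Nat.pow_left_injective two_ne_zero (hcard.symm.trans hF)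
  have hfix : ∀ x ∈ F₀, σ x = x := fun x hx => by
    haveI : Fintype F₀ := Fintype.ofFinite _
    rw [hσ, ← hq, Nat.card_eq_fintype_card]
    exact congrArg Subtype.val (FiniteField.pow_card (⟨x, hx⟩ : F₀))
  set f' := pullForm (Cfsg.hermForm n F q) ζ P with hf'
  have hself : ∀ u ∈ ratVecs (Fin n) F₀, f' u u = 0 := fun u hu => by
    rw [hf', pullForm, halt u hu, mul_zero]
  have hiso : ∀ U : Submodule F₀ (Fin n → F), U ≤ ratVecs (Fin n) F₀ →
      2 ≤ Module.finrank F₀ U → ∃ z ∈ U, z ≠ 0 ∧ f' z z = 0 := by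
    intro U hU h2
    have hne' : U ≠ ⊥ := fun h => by rw [h, finrank_bot] at h2; omega
    obtain ⟨z, hz, hz0⟩ := Submodule.exists_mem_ne_zero_of_ne_bot hne'
    exact ⟨z, hz, hz0, hself z (hU hz)⟩
  have hs : Setting F₀ σ (-1) 1 f' := by
    refine
      { sesq := sesq_pullForm hh hζ0 P, eps := by ring, sigma_sigma := hinv,
        sigma_eps := by rw [map_neg, map_one], herm := fun u v => ?_, rat := pullForm_mem hP,
        sigma_mem := hmem, c₀_ne := one_ne_zero, c₀_trace := by simp,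
        exists_iso := fun U hU h2 => hiso U hU (by omega), exists_iso₂ := fun _ => hiso, shift := fun v hv e he _ _ => ?_,
        trace_gen := fun c hc => ?_ }
    · show ζ * _ = -1 * σ (ζ * _)
      rw [map_mul, hσζ, ← hf.herm]
      ring
    · exact ⟨0, F₀.zero_mem, by rw [zero_smul, add_zero]; exact hself v hv⟩
    · obtain ⟨t, ht⟩ := norm_surjective hne hinv (a := c) (by linear_combination -hc)
      exact AddSubgroup.subset_closure ⟨t, by
        show (1 : F) * (t * σ t) = c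
        rw [ht, one_mul]⟩
  exact isMaximalIn_of_setting hh hζ0 P hs Nat.prime_two hcard
    (fun M hb => hs.le_or_forall_T F₀.one_mem Nat.prime_two hcard hb) (by simpa using hn) _
    (fun g => Iff.rfl) fun M hM => su_le_of_forall_tv (by omega) hF hσ fun z hz c hc =>
      hM z hz c (by
        rw [map_div₀, hσζ, eq_neg_of_add_eq_zero_right hc]
        field_simp
        ring)

end CfsgLib.FormSubfield
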