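import Cfsg.Agent.FormSubfield.Ring

/-!
# Radical elements and reflections for a symmetric form on the rational vectors

`R f e v d` is the element of the unipotent radical at an isotropic vector `e` with translation
part `v`; `refl f a` is the reflection in an anisotropic vector `a`. Also: subspaces of rational
vectors that are more than half of the space are not totally isotropic.
-/

set_option autoImplicit false
set_option linter.unusedSectionVars false

namespace CfsgLib.FormSubfield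

open Matrix Cfsg.Geo CfsgLib.MaxSub

variable {ι : Type} [Fintype ι] [DecidableEq ι] {F : Type*} [Field F] [Finite F]
variable {F₀ : Subfield F} {σ : F ≃+* F} {c₀ : F} {f : (ι → F) → (ι → F) → F}

/-- The map `x ↦ x + f(x, v) e - f(x, e) v + d f(x, e) e`. -/
noncomputable def R (f : (ι → F) → (ι → F) → F) (e v : ι → F) (d : F) : GL ι F :=
  tv e (leftVec f v) * tv (-v) (leftVec f e) * T f e (d + f v v)

/-- The matrix of the reflection in `a`. -/
def reflMat (f : (ι → F) → (ι → F) → F) (a : ι → F) : Matrix ι ι F :=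
  1 - vecMulVec ((2 / f a a) • a) (leftVec f a)

open Classical in
/-- The reflection in `a` (the identity if it is degenerate). -/
noncomputable def refl (f : (ι → F) → (ι → F) → F) (a : ι → F) : GL ι F :=
  if h : (reflMat f a).det ≠ 0 then GeneralLinearGroup.mkOfDetNeZero (reflMat f a) h else 1

theorem R_mem_specialLinear (f : (ι → F) → (ι → F) → F) (e v : ι → F) (d : F) :
    R f e v d ∈ specialLinear ι F :=
  Subgroup.mul_mem _ (Subgroup.mul_mem _ (tv_mem_specialLinear _ _) (tv_mem_specialLinear _ _))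
    (T_mem_specialLinear f e _)

namespace Setting

variable (hs : Setting F₀ σ 1 c₀ f)

include hs

theorem herm' (u v : ι → F) : f v u = σ (f u v) := by rw [hs.herm, one_mul]

theorem sigma_f' (u v : ι → F) : σ (f u v) = f v u := (hs.herm' u v).symm

theorem sigma_c₀ : σ c₀ = -c₀ := by linear_combination hs.c₀_trace

/-! ### Radical elements -/

theorem R_mulVec {e v : ι → F} (he : f e e = 0) (hve : f v e = 0) (d : F) (x : ι → F) :
    (R f e v d : Matrix ι ι F) *ᵥ x = x + f x v • e - f x e • v + (d * f x e) • e := by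
  have hev := hs.orth_symm hve
  have h1 : leftVec f v ⬝ᵥ e = 0 := by rw [hs.sesq.dot_leftVec, hev]
  have h2 : leftVec f e ⬝ᵥ (-v) = 0 := by
    rw [dotProduct_neg, hs.sesq.dot_leftVec, hve, neg_zero]
  rw [R, Units.val_mul, Units.val_mul, ← mulVec_mulVec, ← mulVec_mulVec, hs.T_mulVec he,
    tv_mulVec h2, tv_mulVec h1, hs.sesq.dot_leftVec, hs.sesq.dot_leftVec]
  simp only [hs.sesq.add_left, hs.sesq.smul_left, smul_neg, ← sub_eq_add_neg, hs.sesq.sub_left, he,
    hev]
  module

theorem R_iso {e v : ι → F} (he : f e e = 0) (hve : f v e = 0) {d : F}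
    (hd : d + σ d = - f v v) : Iso f (R f e v d) := by
  intro a b
  have hev := hs.orth_symm hve
  rw [hs.R_mulVec he hve, hs.R_mulVec he hve]
  simp only [hs.sesq.sub_left, hs.sesq.sub_right, hs.sesq.add_left, hs.sesq.add_right,
    hs.sesq.smul_left, hs.sesq.smul_right, map_mul, hs.sigma_f', he, hve, hev]
  linear_combination (f a e * f e b) * hd

theorem conj_R {g : GL ι F} (hg : Iso f g) {e v : ι → F} (he : f e e = 0) (hve : f v e = 0) (d : F) :
    g * R f e v d * g⁻¹ = R f ((g : Matrix ι ι F) *ᵥ e) ((g : Matrix ι ι F) *ᵥ v) d := by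
  refine ext_mulVec fun x => ?_
  have e1 := hg (((g⁻¹ : GL ι F) : Matrix ι ι F) *ᵥ x) e
  have e2 := hg (((g⁻¹ : GL ι F) : Matrix ι ι F) *ᵥ x) v
  rw [mulVec_inv_mulVec] at e1 e2
  rw [hs.R_mulVec (by rw [hg]; exact he) (by rw [hg]; exact hve), Units.val_mul, Units.val_mul,
    ← mulVec_mulVec, ← mulVec_mulVec, hs.R_mulVec he hve, mulVec_add, mulVec_sub, mulVec_add,
    mulVec_smul, mulVec_smul, mulVec_smul, mulVec_inv_mulVec, e1, e2]

theorem R_smul {e v : ι → F} (he : f e e = 0) (hve : f v e = 0) (a d : F) :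
    R f (a • e) v d = R f e (σ a • v) (d * (a * σ a)) := by
  refine ext_mulVec fun x => ?_
  rw [hs.R_mulVec (by rw [hs.sesq.smul_left, hs.sesq.smul_right, he]; ring)
      (by rw [hs.sesq.smul_right, hve, mul_zero]),
    hs.R_mulVec he (by rw [hs.sesq.smul_left, hve, mul_zero]), hs.sesq.smul_right,
    hs.sesq.smul_right, hs.sigma_sigma]
  module

theorem R_mul {e v w : ι → F} (he : f e e = 0) (hve : f v e = 0) (hwe : f w e = 0) (d k : F) :
    R f e v d * R f e w k = R f e (v + w) (d + k - f w v) := by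
  refine ext_mulVec fun x => ?_
  have hev := hs.orth_symm hve
  rw [Units.val_mul, ← mulVec_mulVec, hs.R_mulVec he hwe, hs.R_mulVec he hve,
    hs.R_mulVec he (by rw [hs.sesq.add_left, hve, hwe, add_zero])]
  simp only [hs.sesq.sub_left, hs.sesq.add_left, hs.sesq.smul_left, hs.sesq.add_right, he, hwe, hev]
  module

theorem R_zero {e : ι → F} (he : f e e = 0) (d : F) : R f e 0 d = T f e d := by
  refine ext_mulVec fun x => ?_
  rw [hs.R_mulVec he (hs.sesq.zero_left e), hs.T_mulVec he, hs.sesq.zero_right]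
  module

theorem R_inv {e v : ι → F} (he : f e e = 0) (hve : f v e = 0) (d : F) :
    (R f e v d)⁻¹ = R f e (-v) (-d - f v v) := by
  have hnv : f (-v) e = 0 := by
    rw [← neg_one_smul F v, hs.sesq.smul_left, hve, mul_zero]
  refine inv_eq_of_mul_eq_one_right ?_
  rw [hs.R_mul he hve hnv, add_neg_cancel, hs.R_zero he,
    show f (-v) v = - f v v by rw [← neg_one_smul F v, hs.sesq.smul_left, neg_one_mul],
    show d + (-d - f v v) - -f v v = 0 by ring, T, zero_smul, tv_zero_left]

theorem R_self {e : ι → F} (he : f e e = 0) (k : F) : R f e (k • e) (k - σ k) = 1 := by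
  refine ext_mulVec fun x => ?_
  rw [hs.R_mulVec he (by rw [hs.sesq.smul_left, he, mul_zero]), hs.sesq.smul_right, Units.val_one,
    one_mulVec]
  module

theorem S_eq_R {e w : ι → F} (hw : f w w = 0) (he : f e e = 0) (hew : f e w = 0) (a : F) :
    S σ 1 f e w a = R f e (σ a • w) 0 := by
  refine ext_mulVec fun x => ?_
  rw [hs.S_mulVec hw he hew,
    hs.R_mulVec he (by rw [hs.sesq.smul_left, hs.orth_symm hew, mul_zero]), hs.sesq.smul_right,
    hs.sigma_sigma]
  module

theorem ratMat_R {e v : ι → F} (he : e ∈ ratVecs ι F₀) (hv : v ∈ ratVecs ι F₀) (hee : f e e = 0)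
    (hve : f v e = 0) {d : F} (hd : d ∈ F₀) : RatMat F₀ (R f e v d : Matrix ι ι F) :=
  ratMat_of_mulVec fun x hx => by
    rw [hs.R_mulVec hee hve]
    exact Submodule.add_mem _ (Submodule.sub_mem _
      (Submodule.add_mem _ hx (smul_mem_ratVecs (hs.rat x hx v hv) he))
      (smul_mem_ratVecs (hs.rat x hx e he) hv))
      (smul_mem_ratVecs (F₀.mul_mem hd (hs.rat x hx e he)) he)

/-! ### Reflections -/

theorem reflMat_mulVec (a x : ι → F) :
    reflMat f a *ᵥ x = x - (2 * f x a / f a a) • a := by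
  rw [reflMat, sub_mulVec, one_mulVec, vecMulVec_mulVec', hs.sesq.dot_leftVec, smul_smul]
  congr 2
  ring

theorem det_reflMat {a : ι → F} (ha : f a a ≠ 0) : (reflMat f a).det = -1 := by
  have e : reflMat f a =
      1 + replicateCol Unit (-((2 / f a a) • a)) * replicateRow Unit (leftVec f a) := by
    rw [← vecMulVec_eq]
    ext i j
    simp [reflMat, vecMulVec_apply]
    ring
  rw [e, det_one_add_replicateCol_mul_replicateRow, dotProduct_neg, dotProduct_smul,
    hs.sesq.dot_leftVec, smul_eq_mul, div_mul_cancel₀ _ ha]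
  ring

theorem refl_val {a : ι → F} (ha : f a a ≠ 0) : (refl f a : Matrix ι ι F) = reflMat f a := by
  rw [refl, dif_pos (by rw [hs.det_reflMat ha]; exact neg_ne_zero.2 one_ne_zero)]
  rfl

theorem refl_mulVec {a : ι → F} (ha : f a a ≠ 0) (x : ι → F) :
    (refl f a : Matrix ι ι F) *ᵥ x = x - (2 * f x a / f a a) • a := by
  rw [hs.refl_val ha, hs.reflMat_mulVec]

theorem refl_iso {a : ι → F} (ha : f a a ≠ 0) : Iso f (refl f a) := by
  intro u v
  rw [hs.refl_mulVec ha, hs.refl_mulVec ha, hs.sesq.sub_left, hs.sesq.sub_right, hs.sesq.sub_right,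
    hs.sesq.smul_left, hs.sesq.smul_right, hs.sesq.smul_left, hs.sesq.smul_right, map_div₀,
    map_mul, map_ofNat, hs.sigma_f', hs.sigma_f']
  field_simp
  ring

theorem refl_refl {a : ι → F} (ha : f a a ≠ 0) : refl f a * refl f a = 1 := by
  refine ext_mulVec fun x => ?_
  rw [Units.val_mul, ← mulVec_mulVec, hs.refl_mulVec ha, hs.refl_mulVec ha, hs.sesq.sub_left,
    hs.sesq.smul_left, div_mul_cancel₀ _ ha, Units.val_one, one_mulVec, sub_sub, ← add_smul]
  rw [show 2 * f x a / f a a + 2 * (f x a - 2 * f x a) / f a a = 0 by field_simp; ring, zero_smul,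
    sub_zero]

theorem conj_refl {g : GL ι F} (hg : Iso f g) {a : ι → F} (ha : f a a ≠ 0) :
    g * refl f a * g⁻¹ = refl f ((g : Matrix ι ι F) *ᵥ a) := by
  refine ext_mulVec fun x => ?_
  have e1 := hg (((g⁻¹ : GL ι F) : Matrix ι ι F) *ᵥ x) a
  rw [mulVec_inv_mulVec] at e1
  rw [hs.refl_mulVec (by rw [hg]; exact ha), Units.val_mul, Units.val_mul, ← mulVec_mulVec,
    ← mulVec_mulVec, hs.refl_mulVec ha, mulVec_sub, mulVec_smul, mulVec_inv_mulVec, hg, e1]

theorem refl_smul {a : ι → F} (ha : f a a ≠ 0) {k : F} (hk : k ≠ 0) :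
    refl f (k • a) = refl f a := by
  refine ext_mulVec fun x => ?_
  have hk' : σ k ≠ 0 := by simpa using hk
  have e : f (k • a) (k • a) = k * σ k * f a a := by
    rw [hs.sesq.smul_left, hs.sesq.smul_right, mul_assoc]
  rw [hs.refl_mulVec (by rw [e]; exact mul_ne_zero (mul_ne_zero hk hk') ha), hs.refl_mulVec ha, e,
    hs.sesq.smul_right, smul_smul]
  congr 2
  field_simp

theorem ratMat_refl {a : ι → F} (ha : a ∈ ratVecs ι F₀) (ha' : f a a ≠ 0) :
    RatMat F₀ (refl f a : Matrix ι ι F) :=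
  ratMat_of_mulVec fun x hx => by
    rw [hs.refl_mulVec ha']
    exact Submodule.sub_mem _ hx (smul_mem_ratVecs
      (F₀.div_mem (F₀.mul_mem (ofNat_mem F₀ 2) (hs.rat x hx a ha)) (hs.rat a ha a ha)) ha)

theorem refl₂_mem_specialLinear {a b : ι → F} (ha : f a a ≠ 0) (hb : f b b ≠ 0) :
    refl f a * refl f b ∈ specialLinear ι F := by
  rw [specialLinear, MonoidHom.mem_ker]
  apply Units.ext
  rw [GeneralLinearGroup.val_det_apply, Units.val_mul, hs.refl_val ha, hs.refl_val hb, det_mul,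
    hs.det_reflMat ha, hs.det_reflMat hb, Units.val_one]
  ring

theorem refl₂_iso {a b : ι → F} (ha : f a a ≠ 0) (hb : f b b ≠ 0) :
    Iso f (refl f a * refl f b) := fun u v => by
  rw [Units.val_mul, ← mulVec_mulVec, ← mulVec_mulVec, hs.refl_iso ha, hs.refl_iso hb]

theorem ratMat_refl₂ {a b : ι → F} (ha : a ∈ ratVecs ι F₀) (hb : b ∈ ratVecs ι F₀)
    (haa : f a a ≠ 0) (hbb : f b b ≠ 0) :
    RatMat F₀ ((refl f a * refl f b : GL ι F) : Matrix ι ι F) := by
  rw [Units.val_mul]; exact (hs.ratMat_refl ha haa).mul (hs.ratMat_refl hb hbb)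

theorem refl₂_mulVec {a b : ι → F} (ha : f a a ≠ 0) (hb : f b b ≠ 0) (hab : f a b = 0)
    (x : ι → F) : ((refl f a * refl f b : GL ι F) : Matrix ι ι F) *ᵥ x =
      x - (2 * f x a / f a a) • a - (2 * f x b / f b b) • b := by
  rw [Units.val_mul, ← mulVec_mulVec, hs.refl_mulVec hb, hs.refl_mulVec ha, hs.sesq.sub_left,
    hs.sesq.smul_left, hs.orth_symm hab, mul_zero, sub_zero]
  module

/-! ### Decomposition over the rational vectors -/

variable (hfx : ∀ x, σ x = x → x ∈ F₀) (hfx' : ∀ x ∈ F₀, σ x = x) (h2 : (2 : F) ≠ 0)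

include hfx hfx' h2

theorem c₀_notMem : c₀ ∉ F₀ := fun h => by
  have h1 := hfx' _ h
  rw [hs.sigma_c₀] at h1
  have : (2 : F) * c₀ = 0 := by linear_combination -h1
  exact hs.c₀_ne ((mul_eq_zero.mp this).resolve_left h2)

theorem comp_eq_zero {a b : F} (ha : a ∈ F₀) (hb : b ∈ F₀) (h : a + c₀ * b = 0) :
    a = 0 ∧ b = 0 := by
  have h1 := congrArg σ h
  rw [map_add, map_mul, hfx' a ha, hfx' b hb, hs.sigma_c₀, map_zero] at h1
  have ha' : a = 0 := (mul_eq_zero.mp (show (2 : F) * a = 0 by linear_combination h + h1)).resolve_left h2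
  rw [ha', zero_add] at h
  exact ⟨ha', (mul_eq_zero.mp h).resolve_left hs.c₀_ne⟩

theorem exists_decomp (v : ι → F) :
    ∃ p ∈ ratVecs ι F₀, ∃ q ∈ ratVecs ι F₀, v = p + c₀ • q := by
  refine ⟨fun i => (v i + σ (v i)) / 2, fun i => hfx _ ?_,
    fun i => (v i - σ (v i)) / (2 * c₀), fun i => hfx _ ?_, funext fun i => ?_⟩
  · rw [map_div₀, map_add, hs.sigma_sigma, map_ofNat, add_comm]
  · rw [map_div₀, map_sub, map_mul, hs.sigma_sigma, map_ofNat, hs.sigma_c₀, mul_neg, div_neg,
      ← neg_div, neg_sub]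
  · have := hs.c₀_ne
    show v i = (v i + σ (v i)) / 2 + c₀ * ((v i - σ (v i)) / (2 * c₀))
    field_simp
    ring

theorem decomp_orth {x p q : ι → F} (hx : x ∈ ratVecs ι F₀) (hp : p ∈ ratVecs ι F₀)
    (hq : q ∈ ratVecs ι F₀) : f x (p + c₀ • q) = 0 ↔ f x p = 0 ∧ f x q = 0 := by
  have e : f x (p + c₀ • q) = f x p + c₀ * -(f x q) := by
    rw [hs.sesq.add_right, hs.sesq.smul_right, hs.sigma_c₀]; ring
  rw [e]
  refine ⟨fun h => ?_, fun h => by rw [h.1, h.2]; ring⟩
  obtain ⟨h1, h3⟩ := hs.comp_eq_zero hfx hfx' h2 (hs.rat x hx p hp)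
    (F₀.neg_mem (hs.rat x hx q hq)) h
  exact ⟨h1, neg_eq_zero.1 h3⟩

/-! ### Anisotropic vectors -/

theorem symm_rat {u v : ι → F} (hu : u ∈ ratVecs ι F₀) (hv : v ∈ ratVecs ι F₀) :
    f u v = f v u := by rw [hs.herm' u v, hfx' _ (hs.rat u hu v hv)]

/-- Subspaces orthogonal to each other. -/
theorem finrank_add_le {U W : Submodule F₀ (ι → F)} (hU : U ≤ ratVecs ι F₀)
    (hW : W ≤ ratVecs ι F₀) (h : ∀ x ∈ U, ∀ y ∈ W, f x y = 0) :
    Module.finrank F₀ U + Module.finrank F₀ W ≤ Fintype.card ι := by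
  haveI : Module.Finite F₀ (ι → F) := Module.Finite.of_finite
  obtain ⟨Q, hQ⟩ := Submodule.exists_isCompl W
  set Q' := Q ⊓ ratVecs ι F₀ with hQ'
  have hdQ : Module.finrank F₀ W + Module.finrank F₀ Q' ≤ Fintype.card ι := by
    have h1 := Submodule.finrank_sup_add_finrank_inf_eq W Q'
    have h3 := Submodule.finrank_mono (sup_le hW inf_le_right : W ⊔ Q' ≤ ratVecs ι F₀)
    rw [finrank_ratVecs] at h3
    rw [show W ⊓ Q' = ⊥ from
      eq_bot_iff.2 ((inf_le_inf_left W inf_le_left).trans hQ.inf_eq_bot.le), finrank_bot] at h1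
    omega
  let b := Module.finBasis F₀ Q'
  let L : U →ₗ[F₀] (Fin (Module.finrank F₀ Q') → F₀) :=
    { toFun := fun x i => ⟨f x.1 (b i : ι → F), hs.rat _ (hU x.2) _ (b i).2.2⟩
      map_add' := fun x y => funext fun i => Subtype.ext (hs.sesq.add_left _ _ _)
      map_smul' := fun c x => funext fun i => Subtype.ext (hs.sesq.smul_left _ _ _) }
  have hL : Function.Injective L := by
    rw [injective_iff_map_eq_zero]
    intro x hx
    refine Subtype.ext (hs.eq_zero_of_orth_rat fun u hu => hs.orth_symm ?_)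
    have hu' : u ∈ W ⊔ Q := hQ.sup_eq_top ▸ Submodule.mem_top
    obtain ⟨w, hw, q, hq, rfl⟩ := Submodule.mem_sup.mp hu'
    have hq' : q ∈ Q' := ⟨hq, by simpa using Submodule.sub_mem _ hu (hW hw)⟩
    rw [hs.sesq.add_right, h x.1 x.2 w hw, zero_add]
    let K : Submodule F₀ (ι → F) :=
      { carrier := {y | f x.1 y = 0}
        add_mem' := fun {a b} ha hb => by
          show f _ _ = 0
          rw [hs.sesq.add_right, ha, hb, add_zero]
        zero_mem' := hs.sesq.zero_right _
        smul_mem' := fun c y hy => by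
          show f _ ((c : F) • y) = 0
          rw [hs.sesq.smul_right, hy, mul_zero] }
    have hle : Q' ≤ K := by
      intro y hy
      have hrep := congrArg Q'.subtype (b.sum_repr ⟨y, hy⟩)
      simp only [map_sum, map_smul, Submodule.subtype_apply] at hrep
      rw [← hrep]
      exact K.sum_mem fun i _ => K.smul_mem _ (congrArg Subtype.val (congrFun hx i))
    exact hle hq'
  have := LinearMap.finrank_le_finrank_of_injective hL
  rw [Module.finrank_fin_fun] at this
  omega

theorem polar_zero {U : Submodule F₀ (ι → F)} (hU : U ≤ ratVecs ι F₀)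
    (h : ∀ x ∈ U, f x x = 0) {x y : ι → F} (hx : x ∈ U) (hy : y ∈ U) : f x y = 0 := by
  have h1 := h _ (U.add_mem hx hy)
  rw [hs.sesq.add_left, hs.sesq.add_right, hs.sesq.add_right, h x hx, h y hy,
    hs.symm_rat hfx hfx' h2 (hU hy) (hU hx)] at h1
  exact (mul_eq_zero.mp (show (2 : F) * f x y = 0 by linear_combination h1)).resolve_left h2

/-- Rational vectors orthogonal to fewer than half as many vectors: one is anisotropic. -/
theorem exists_aniso_perp {k : ℕ} (s : Fin k → ι → F) (hR : ∀ i, s i ∈ ratVecs ι F₀)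
    (hk : 2 * k < Fintype.card ι) : ∃ a ∈ hs.perp s, f a a ≠ 0 := by
  by_contra h
  push Not at h
  have hPR : hs.perp s ≤ ratVecs ι F₀ := fun x hx => hx.1
  have h1 := hs.finrank_add_le hfx hfx' h2 hPR hPR
    fun x hx y hy => hs.polar_zero hfx hfx' h2 hPR h hx hy
  have h3 := hs.finrank_perp s hR
  omega

/-- The same when one of the vectors is anisotropic. -/
theorem exists_aniso_perp' {k : ℕ} (s : Fin k → ι → F) (hR : ∀ i, s i ∈ ratVecs ι F₀) (j : Fin k)
    (hj : f (s j) (s j) ≠ 0) (hk : 2 * k ≤ Fintype.card ι) : ∃ a ∈ hs.perp s, f a a ≠ 0 := by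
  by_contra h
  push Not at h
  haveI : Module.Finite F₀ (ι → F) := Module.Finite.of_finite
  set P := hs.perp s with hP
  have hPR : P ≤ ratVecs ι F₀ := fun x hx => hx.1
  have hpol : ∀ x ∈ P, ∀ y ∈ P, f x y = 0 :=
    fun x hx y hy => hs.polar_zero hfx hfx' h2 hPR h hx hy
  have hj0 : s j ≠ 0 := fun h0 => hj (by rw [h0, hs.sesq.zero_left])
  have h1 := hs.finrank_add_le hfx hfx' h2 hPR
    (sup_le hPR (Submodule.span_le.mpr (Set.singleton_subset_iff.2 (hR j))) :
      P ⊔ Submodule.span F₀ {s j} ≤ ratVecs ι F₀) (by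
    intro x hx y hy
    obtain ⟨p, hp, z, hz, rfl⟩ := Submodule.mem_sup.1 hy
    obtain ⟨c, rfl⟩ := Submodule.mem_span_singleton.1 hz
    rw [hs.sesq.add_right, hpol x hx p hp, zero_add]
    show f x ((c : F) • s j) = 0
    rw [hs.sesq.smul_right, hx.2 j, mul_zero])
  have h3 := hs.finrank_perp s hR
  have h4 := Submodule.finrank_sup_add_finrank_inf_eq P (Submodule.span F₀ {s j})
  have h5 : P ⊓ Submodule.span F₀ {s j} = ⊥ := by
    rw [eq_bot_iff]
    rintro x ⟨hx, hxs⟩
    obtain ⟨c, rfl⟩ := Submodule.mem_span_singleton.1 hxs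
    have h6 : f ((c : F) • s j) (s j) = 0 := hx.2 j
    rw [hs.sesq.smul_left] at h6
    rw [Submodule.mem_bot, show c = 0 from Subtype.ext ((mul_eq_zero.mp h6).resolve_right hj),
      zero_smul]
  rw [h5, finrank_bot, finrank_span_singleton hj0] at h4
  rw [← hP] at h3
  omega

/-- A singular vector plus or minus an anisotropic one is anisotropic. -/
theorem aniso_add_or_sub {v a : ι → F} (ha : f a a ≠ 0) (hv : f v v = 0) :
    f (v + a) (v + a) ≠ 0 ∨ f (v - a) (v - a) ≠ 0 := by
  by_contra h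
  push Not at h
  obtain ⟨h1, h3⟩ := h
  simp only [hs.sesq.add_left, hs.sesq.add_right, hs.sesq.sub_left, hs.sesq.sub_right, hv] at h1 h3
  exact ha ((mul_eq_zero.mp (show (2 : F) * f a a = 0 by linear_combination h1 + h3)).resolve_left h2)

end Setting

end CfsgLib.FormSubfield
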