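import Cfsg.Agent.FormSubfield.OrthRigidity

/-!
# An irrational radical element generates everything

One radical element with irrational translation part at an isotropic rational vector gives, by
conjugation with rational reflection pairs, the whole radical there, and then at every isotropic
rational vector.
-/

set_option autoImplicit false
set_option linter.unusedSectionVars false

namespace CfsgLib.FormSubfield

open Matrix Cfsg.Geo CfsgLib.MaxSub

variable {ι : Type} [Fintype ι] [DecidableEq ι] {F : Type*} [Field F] [Finite F]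
variable {F₀ : Subfield F} {σ : F ≃+* F} {c₀ : F} {f : (ι → F) → (ι → F) → F}
variable {M : Subgroup (GL ι F)}

/-- `M` contains the whole unipotent radical at `e`. -/
def FullAt (σ : F ≃+* F) (f : (ι → F) → (ι → F) → F) (M : Subgroup (GL ι F)) (e : ι → F) : Prop :=
  ∀ v, f v e = 0 → ∀ d, d + σ d = - f v v → R f e v d ∈ M

namespace Setting

variable (hs : Setting F₀ σ 1 c₀ f) (hfx : ∀ x, σ x = x → x ∈ F₀) (hfx' : ∀ x ∈ F₀, σ x = x)
  (h2 : (2 : F) ≠ 0) (hb : Between F₀ f M)

include hs hfx hfx' h2 hb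

theorem trace_of_mem {e v : ι → F} (he : e ∈ ratVecs ι F₀) (he0 : e ≠ 0) (hee : f e e = 0)
    (hve : f v e = 0) {d : F} (h : R f e v d ∈ M) : d + σ d = - f v v := by
  obtain ⟨e₁, -, he₁e₁, he₁e⟩ := hs.exists_partner he he0 hee
  have h1 := hb.iso _ h e₁ e₁
  have hev := hs.orth_symm hve
  have hee₁ : f e e₁ = 1 := by rw [hs.herm' e₁ e, he₁e, map_one]
  rw [hs.R_mulVec hee hve, he₁e₁] at h1
  simp only [hs.sesq.add_left, hs.sesq.add_right, hs.sesq.sub_left, hs.sesq.sub_right,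
    hs.sesq.smul_left, hs.sesq.smul_right, map_mul, map_one, hs.sigma_f', he₁e₁, he₁e, hee₁, hee,
    hve, hev] at h1
  linear_combination h1

theorem inRadical_add {e v w : ι → F} (hee : f e e = 0) (hve : f v e = 0) (hwe : f w e = 0)
    (hv : InRadical f M e v) (hw : InRadical f M e w) : InRadical f M e (v + w) := by
  obtain ⟨d, hd⟩ := hv
  obtain ⟨k, hk⟩ := hw
  exact ⟨d + k - f w v, by rw [← hs.R_mul hee hve hwe]; exact M.mul_mem hd hk⟩

theorem inRadical_conj {e v : ι → F} (hee : f e e = 0) (hve : f v e = 0)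
    (hv : InRadical f M e v) {h : GL ι F} (hh : h ∈ M) {k : F}
    (hhe : (h : Matrix ι ι F) *ᵥ e = k • e) (hk : k ≠ 0) :
    InRadical f M e (σ k • ((h : Matrix ι ι F) *ᵥ v)) := by
  obtain ⟨d, hd⟩ := hv
  have hI := hb.iso h hh
  have hsk : σ k ≠ 0 := by simpa using hk
  have hhve : f ((h : Matrix ι ι F) *ᵥ v) e = 0 := by
    have h1 := hI v e
    rw [hhe, hve, hs.sesq.smul_right] at h1
    exact (mul_eq_zero.mp h1).resolve_left hsk
  refine ⟨d * (k * σ k), ?_⟩
  rw [← hs.R_smul hee hhve, ← hhe, ← hs.conj_R hI hee hve]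
  exact M.mul_mem (M.mul_mem hh hd) (M.inv_mem hh)

/-- An irrational radical element gives the whole radical. -/
theorem fullAt_of_irrational {e : ι → F} (he : e ∈ ratVecs ι F₀) (he0 : e ≠ 0) (hee : f e e = 0)
    {v : ι → F} (hve : f v e = 0) (hv : InRadical f M e v) {u : ι → F} (hu : u ∈ ratVecs ι F₀)
    (hue : f u e = 0) (hvu : f v u ∉ F₀) : FullAt σ f M e := by
  have hd := hb.dim
  let X : AddSubgroup (ι → F) :=
    { carrier := {x | f x e = 0 ∧ InRadical f M e (c₀ • x)}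
      add_mem' := fun {x y} hx hy => ⟨by rw [hs.sesq.add_left, hx.1, hy.1, add_zero], by
        rw [smul_add]
        exact hs.inRadical_add hfx hfx' h2 hb hee (by rw [hs.sesq.smul_left, hx.1, mul_zero])
          (by rw [hs.sesq.smul_left, hy.1, mul_zero]) hx.2 hy.2⟩
      zero_mem' := ⟨hs.sesq.zero_left e, 0, by
        rw [smul_zero, hs.R_zero hee, T, zero_smul, tv_zero_left]; exact M.one_mem⟩
      neg_mem' := fun {x} hx => ⟨by
          rw [← neg_one_smul F x, hs.sesq.smul_left, hx.1, mul_zero], by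
        obtain ⟨d, hd⟩ := hx.2
        refine ⟨-d - f (c₀ • x) (c₀ • x), ?_⟩
        rw [smul_neg, ← hs.R_inv hee (by rw [hs.sesq.smul_left, hx.1, mul_zero])]
        exact M.inv_mem hd⟩ }
  have hXe : ∀ t : F, t • e ∈ X := fun t => ⟨by rw [hs.sesq.smul_left, hee, mul_zero], by
    refine ⟨c₀ * t - σ (c₀ * t), ?_⟩
    rw [smul_smul, hs.R_self hee]
    exact M.one_mem⟩
  -- the irrational part of `v`
  obtain ⟨p, hp, q, hq, hpq⟩ := hs.exists_decomp hfx hfx' h2 v
  have hev := hs.orth_symm hve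
  rw [hpq, hs.decomp_orth hfx hfx' h2 he hp hq] at hev
  have hpe : f p e = 0 := hs.orth_symm hev.1
  have hqe : f q e = 0 := hs.orth_symm hev.2
  have hqX : q ∈ X := by
    refine ⟨hqe, ?_⟩
    have h1 := hs.inRadical_add hfx hfx' h2 hb hee
      (v := -p) (w := v) (by rw [← neg_one_smul F p, hs.sesq.smul_left, hpe, mul_zero]) hve
      ⟨_, hs.rat_radical_mem hfx hfx' h2 hb he (Submodule.neg_mem _ hp) hee
        (by rw [← neg_one_smul F p, hs.sesq.smul_left, hpe, mul_zero])⟩ hv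
    rwa [hpq, neg_add_cancel_left] at h1
  have hqu : f q u ≠ 0 := fun h => hvu (by
    rw [hpq, hs.sesq.add_left, hs.sesq.smul_left, h, mul_zero, add_zero]
    exact hs.rat p hp u hu)
  -- scalars
  have hscale : ∀ x ∈ X, x ∈ ratVecs ι F₀ → ∀ k ∈ F₀, k • x ∈ X := by
    intro x hx hxR k hk
    rcases eq_or_ne k 0 with rfl | hk0
    · rw [zero_smul]; exact X.zero_mem
    obtain ⟨l, hl⟩ : ∃ l, l = k⁻¹ := ⟨_, rfl⟩
    have hlF : l ∈ F₀ := hl ▸ F₀.inv_mem hk
    have hl0 : l ≠ 0 := hl ▸ inv_ne_zero hk0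
    obtain ⟨e₁, he₁, he₁e₁, he₁e⟩ := hs.exists_partner he he0 hee
    have hee₁ : f e e₁ = 1 := by rw [hs.herm' e₁ e, he₁e, map_one]
    set a := e - e₁ with ha
    set b := e - l • e₁ with hb'
    have haa : f a a = -2 := by
      simp only [ha, hs.sesq.sub_left, hs.sesq.sub_right, hee, he₁e₁, he₁e, hee₁]; ring
    have hbb : f b b = -2 * l := by
      simp only [hb', hs.sesq.sub_left, hs.sesq.sub_right, hs.sesq.smul_left, hs.sesq.smul_right,
        hfx' l hlF, hee, he₁e₁, he₁e, hee₁]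
      ring
    have haa0 : f a a ≠ 0 := by rw [haa]; exact neg_ne_zero.2 h2
    have hbb0 : f b b ≠ 0 := by rw [hbb]; exact mul_ne_zero (neg_ne_zero.2 h2) hl0
    have haR : a ∈ ratVecs ι F₀ := Submodule.sub_mem _ he he₁
    have hbR : b ∈ ratVecs ι F₀ := Submodule.sub_mem _ he (smul_mem_ratVecs hlF he₁)
    set x₀ := x - f x e₁ • e with hx₀
    have hx₀e : f x₀ e = 0 := by
      rw [hx₀, hs.sesq.sub_left, hs.sesq.smul_left, hx.1, hee, mul_zero, sub_zero]
    have hx₀e₁ : f x₀ e₁ = 0 := by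
      rw [hx₀, hs.sesq.sub_left, hs.sesq.smul_left, hee₁, mul_one, sub_self]
    have hfix : ((refl f b * refl f a : GL ι F) : Matrix ι ι F) *ᵥ x₀ = x₀ := by
      have h1 : f x₀ a = 0 := by rw [ha, hs.sesq.sub_right, hx₀e, hx₀e₁, sub_zero]
      have h3 : f x₀ b = 0 := by
        rw [hb', hs.sesq.sub_right, hs.sesq.smul_right, hx₀e, hx₀e₁, mul_zero, sub_zero]
      rw [Units.val_mul, ← mulVec_mulVec, hs.refl_mulVec haa0, h1]
      simp only [mul_zero, zero_div, zero_smul, sub_zero]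
      rw [hs.refl_mulVec hbb0, h3]
      simp
    have himg : ((refl f b * refl f a : GL ι F) : Matrix ι ι F) *ᵥ e = k • e := by
      have h1 : (refl f a : Matrix ι ι F) *ᵥ e = e₁ := by
        rw [hs.refl_mulVec haa0, haa, show f e a = -1 by
          rw [ha, hs.sesq.sub_right, hee, hee₁, zero_sub], ha]
        match_scalars <;> field_simp <;> ring
      rw [Units.val_mul, ← mulVec_mulVec, h1, hs.refl_mulVec hbb0, hbb, show f e₁ b = 1 by
          rw [hb', hs.sesq.sub_right, hs.sesq.smul_right, he₁e₁, he₁e, mul_zero, sub_zero], hb']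
      subst hl
      match_scalars <;> field_simp <;> ring
    have h3 : x₀ ∈ X := X.sub_mem hx (hXe _)
    have h4 := hs.inRadical_conj hfx hfx' h2 hb hee (by rw [hs.sesq.smul_left, h3.1, mul_zero]) h3.2
      (hs.refl₂_mem hfx hfx' h2 hb hbR haR hbb0 haa0) himg hk0
    rw [mulVec_smul, hfix, hfx' k hk, smul_comm] at h4
    have h5 : k • x₀ ∈ X := ⟨by rw [hs.sesq.smul_left, h3.1, mul_zero], h4⟩
    have h6 := X.add_mem h5 (hXe (k * f x e₁))
    rwa [hx₀, smul_sub, smul_smul, sub_add_cancel] at h6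
  -- projections
  have hdiff : ∀ x ∈ X, ∀ a ∈ ratVecs ι F₀, ∀ b ∈ ratVecs ι F₀, f a e = 0 → f b e = 0 →
      f a a ≠ 0 → f b b ≠ 0 → f a b = 0 →
      (2 * f x a / f a a) • a + (2 * f x b / f b b) • b ∈ X := by
    intro x hx a ha b hb' hae hbe haa hbb hab
    have h4 := hs.inRadical_conj hfx hfx' h2 hb hee (by rw [hs.sesq.smul_left, hx.1, mul_zero]) hx.2
      (hs.refl₂_mem hfx hfx' h2 hb ha hb' haa hbb) (k := 1)
      (by rw [hs.refl₂_mulVec haa hbb hab, hs.orth_symm hae, hs.orth_symm hbe]; simp) one_ne_zero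
    rw [map_one, one_smul, mulVec_smul, hs.refl₂_mulVec haa hbb hab] at h4
    have h5 : x - (2 * f x a / f a a) • a - (2 * f x b / f b b) • b ∈ X :=
      ⟨by simp only [hs.sesq.sub_left, hs.sesq.smul_left, hx.1, hae, hbe, mul_zero, sub_zero], h4⟩
    have h6 := X.sub_mem hx h5
    convert h6 using 1
    abel
  have hone : ∀ x ∈ X, x ∈ ratVecs ι F₀ → ∀ a ∈ ratVecs ι F₀, f a e = 0 → f a a ≠ 0 →
      f x a ≠ 0 → a ∈ X := by
    intro x hx hxR a ha hae haa hxa
    obtain ⟨b, hb', hbb⟩ := hs.exists_aniso_perp' hfx hfx' h2 ![e, a]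
      (by intro i; fin_cases i <;> assumption) 1 haa (by omega)
    have hbe : f b e = 0 := hb'.2 0
    have hba : f b a = 0 := hb'.2 1
    obtain ⟨c, hc, hcc⟩ := hs.exists_aniso_perp' hfx hfx' h2 ![e, a, b] (fun i => by
      fin_cases i
      · exact he
      · exact ha
      · exact hb'.1) 1 haa (by omega)
    have hce : f c e = 0 := hc.2 0
    have hca : f c a = 0 := hc.2 1
    have hcb : f c b = 0 := hc.2 2
    have h1 := X.sub_mem
      (X.add_mem (hdiff x hx a ha b hb'.1 hae hbe haa hbb (hs.orth_symm hba))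
        (hdiff x hx a ha c hc.1 hae hce haa hcc (hs.orth_symm hca)))
      (hdiff x hx b hb'.1 c hc.1 hbe hce hbb hcc (hs.orth_symm hcb))
    have h3 : (2 * (2 * f x a / f a a)) • a ∈ X := by
      convert h1 using 1
      module
    have hm : 2 * (2 * f x a / f a a) ∈ F₀ := F₀.mul_mem (ofNat_mem F₀ 2)
      (F₀.div_mem (F₀.mul_mem (ofNat_mem F₀ 2) (hs.rat x hxR a ha)) (hs.rat a ha a ha))
    have h4 := hscale _ h3 (smul_mem_ratVecs hm ha) _ (F₀.inv_mem hm)
    rwa [inv_smul_smul₀ (mul_ne_zero h2 (div_ne_zero (mul_ne_zero h2 hxa) haa))] at h4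
  obtain ⟨a₀, ha₀, ha₀e, ha₀0, hqa₀⟩ : ∃ a ∈ ratVecs ι F₀, f a e = 0 ∧ f a a ≠ 0 ∧ f q a ≠ 0 := by
    by_cases huu : f u u = 0
    · obtain ⟨a, ha, haa⟩ := hs.exists_aniso_perp hfx hfx' h2 ![e]
        (fun i => by fin_cases i; exact he) (by omega)
      have hae : f a e = 0 := ha.2 0
      by_cases hqa : f q a = 0
      · rcases hs.aniso_add_or_sub hfx hfx' h2 haa huu with h | h
        · exact ⟨u + a, Submodule.add_mem _ hu ha.1, by rw [hs.sesq.add_left, hue, hae, add_zero],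
            h, by rwa [hs.sesq.add_right, hqa, add_zero]⟩
        · exact ⟨u - a, Submodule.sub_mem _ hu ha.1, by rw [hs.sesq.sub_left, hue, hae, sub_zero],
            h, by rwa [hs.sesq.sub_right, hqa, sub_zero]⟩
      · exact ⟨a, ha.1, hae, haa, hqa⟩
    · exact ⟨u, hu, hue, huu, hqu⟩
  have ha₀X := hone q hqX hq a₀ ha₀ ha₀e ha₀0 hqa₀
  have haniso : ∀ a ∈ ratVecs ι F₀, f a e = 0 → f a a ≠ 0 → a ∈ X := by
    intro a ha hae haa
    by_cases h : f a₀ a = 0
    swap
    · exact hone a₀ ha₀X ha₀ a ha hae haa h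
    have h' := hs.orth_symm h
    obtain ⟨z, hz, hze, hzz, hz1, hz3⟩ : ∃ z ∈ ratVecs ι F₀, f z e = 0 ∧ f z z ≠ 0 ∧
        f a₀ z ≠ 0 ∧ f z a ≠ 0 := by
      by_cases hsum : f (a₀ + a) (a₀ + a) = 0
      · obtain ⟨b, hb', hbb⟩ := hs.exists_aniso_perp' hfx hfx' h2 ![e, a₀, a] (fun i => by
          fin_cases i
          · exact he
          · exact ha₀
          · exact ha) 1 ha₀0 (by omega)
        have hbe : f b e = 0 := hb'.2 0
        have hba₀ : f b a₀ = 0 := hb'.2 1
        have hba : f b a = 0 := hb'.2 2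
        refine ⟨a₀ + a + b, Submodule.add_mem _ (Submodule.add_mem _ ha₀ ha) hb'.1, ?_, ?_, ?_, ?_⟩
        · rw [hs.sesq.add_left, hs.sesq.add_left, ha₀e, hae, hbe, add_zero, add_zero]
        · simp only [hs.sesq.add_left, hs.sesq.add_right, h, h', hba₀, hba, hs.orth_symm hba₀,
            hs.orth_symm hba, add_zero, zero_add] at hsum ⊢
          rwa [hsum, zero_add]
        · rwa [hs.sesq.add_right, hs.sesq.add_right, h, hs.orth_symm hba₀, add_zero, add_zero]
        · rwa [hs.sesq.add_left, hs.sesq.add_left, h, hba, zero_add, add_zero]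
      · exact ⟨a₀ + a, Submodule.add_mem _ ha₀ ha, by rw [hs.sesq.add_left, ha₀e, hae, add_zero],
          hsum, by rwa [hs.sesq.add_right, h, add_zero], by rwa [hs.sesq.add_left, h, zero_add]⟩
    exact hone z (hone a₀ ha₀X ha₀ z hz hze hzz hz1) hz a ha hae haa hz3
  have hall : ∀ x ∈ ratVecs ι F₀, f x e = 0 → x ∈ X := by
    intro x hx hxe
    by_cases hxx : f x x = 0
    · rcases hs.aniso_add_or_sub hfx hfx' h2 ha₀0 hxx with h | h
      · have h1 := X.sub_mem (haniso _ (Submodule.add_mem _ hx ha₀)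
          (by rw [hs.sesq.add_left, hxe, ha₀e, add_zero]) h) ha₀X
        rwa [add_sub_cancel_right] at h1
      · have h1 := X.add_mem (haniso _ (Submodule.sub_mem _ hx ha₀)
          (by rw [hs.sesq.sub_left, hxe, ha₀e, sub_zero]) h) ha₀X
        rwa [sub_add_cancel] at h1
    · exact haniso x hx hxe hxx
  have hrad : ∀ w, f w e = 0 → InRadical f M e w := by
    intro w hwe
    obtain ⟨p', hp', q', hq', hpq'⟩ := hs.exists_decomp hfx hfx' h2 w
    have hew := hs.orth_symm hwe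
    rw [hpq', hs.decomp_orth hfx hfx' h2 he hp' hq'] at hew
    rw [hpq']
    exact hs.inRadical_add hfx hfx' h2 hb hee (hs.orth_symm hew.1)
      (by rw [hs.sesq.smul_left, hs.orth_symm hew.2, mul_zero])
      ⟨_, hs.rat_radical_mem hfx hfx' h2 hb he hp' hee (hs.orth_symm hew.1)⟩
      (hall q' hq' (hs.orth_symm hew.2)).2
  -- transvections at `e`
  have hT : ∀ c, c + σ c = 0 → T f e c ∈ M := by
    intro c hc
    obtain ⟨k, hk⟩ : ∃ k, k = -c / (2 * f a₀ a₀) := ⟨_, rfl⟩
    have hke : f (k • a₀) e = 0 := by rw [hs.sesq.smul_left, ha₀e, mul_zero]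
    obtain ⟨d₁, hd₁⟩ := hrad a₀ ha₀e
    obtain ⟨d₂, hd₂⟩ := hrad _ hke
    have h1 := M.mul_mem (M.mul_mem hd₁ hd₂) (M.inv_mem (M.mul_mem hd₂ hd₁))
    rw [hs.R_mul hee ha₀e hke, hs.R_mul hee hke ha₀e, add_comm (k • a₀) a₀,
      hs.R_inv hee (by rw [hs.sesq.add_left, ha₀e, hke, add_zero]),
      hs.R_mul hee (by rw [hs.sesq.add_left, ha₀e, hke, add_zero])
        (by rw [← neg_one_smul F (a₀ + k • a₀), hs.sesq.smul_left, hs.sesq.add_left, ha₀e, hke,
          add_zero, mul_zero]), add_neg_cancel, hs.R_zero hee] at h1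
    convert h1 using 2
    rw [← neg_one_smul F (a₀ + k • a₀), hs.sesq.smul_left (-1) (a₀ + k • a₀) (a₀ + k • a₀),
      hs.sesq.smul_left, hs.sesq.smul_right, hk, map_div₀, map_mul, map_neg, map_ofNat,
      hs.sigma_f', show σ c = -c by linear_combination hc]
    field_simp
    ring
  intro w hwe d hd'
  obtain ⟨d₀, hd₀⟩ := hrad w hwe
  have h0 := hs.trace_of_mem hfx hfx' h2 hb he he0 hee hwe hd₀
  have h1 := M.mul_mem (hT (d - d₀) (by rw [map_sub]; linear_combination hd' - h0)) hd₀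
  rw [← hs.R_zero hee, hs.R_mul hee (hs.sesq.zero_left e) hwe, zero_add, hs.sesq.zero_right,
    sub_zero, sub_add_cancel] at h1
  exact h1

theorem fullAt_smul {e : ι → F} (hee : f e e = 0) (h : FullAt σ f M e) {k : F} (hk : k ≠ 0) :
    FullAt σ f M (k • e) := by
  intro v hv d hd
  have hsk : σ k ≠ 0 := by simpa using hk
  rw [hs.sesq.smul_right] at hv
  have hve := (mul_eq_zero.mp hv).resolve_left hsk
  rw [hs.R_smul hee hve]
  refine h _ (by rw [hs.sesq.smul_left, hve, mul_zero]) _ ?_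
  rw [hs.sesq.smul_left, hs.sesq.smul_right, hs.sigma_sigma, map_mul, map_mul, hs.sigma_sigma]
  linear_combination (k * σ k) * hd

/-- The whole radical at one isotropic rational vector gives it at every non-orthogonal one. -/
theorem fullAt_of_ne {e e'' : ι → F} (he : e ∈ ratVecs ι F₀) (hee : f e e = 0)
    (h : FullAt σ f M e) (he'' : e'' ∈ ratVecs ι F₀) (he''e'' : f e'' e'' = 0)
    (hne : f e'' e ≠ 0) : FullAt σ f M e'' := by
  have hd := hb.dim
  set k := (f e'' e)⁻¹ with hk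
  have hkF : k ∈ F₀ := F₀.inv_mem (hs.rat e'' he'' e he)
  have hk0 : k ≠ 0 := inv_ne_zero hne
  set z := k • e'' with hz
  have hzR : z ∈ ratVecs ι F₀ := smul_mem_ratVecs hkF he''
  have hzz : f z z = 0 := by rw [hz, hs.sesq.smul_left, hs.sesq.smul_right, he''e'']; ring
  have hze : f z e = 1 := by rw [hz, hs.sesq.smul_left, inv_mul_cancel₀ hne]
  have hez : f e z = 1 := by rw [hs.herm' z e, hze, map_one]
  set a := e - z with ha
  have haa : f a a = -2 := by
    simp only [ha, hs.sesq.sub_left, hs.sesq.sub_right, hee, hzz, hze, hez]; ring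
  have haa0 : f a a ≠ 0 := by rw [haa]; exact neg_ne_zero.2 h2
  obtain ⟨b, hb', hbb⟩ := hs.exists_aniso_perp hfx hfx' h2 ![e, z]
    (by intro i; fin_cases i <;> assumption) (by omega)
  have hbe : f b e = 0 := hb'.2 0
  set g := refl f a * refl f b with hg
  have hgM : g ∈ M := hs.refl₂_mem hfx hfx' h2 hb (Submodule.sub_mem _ he hzR) hb'.1 haa0 hbb
  have hge : (g : Matrix ι ι F) *ᵥ e = z := by
    rw [hg, Units.val_mul, ← mulVec_mulVec, hs.refl_mulVec hbb, hs.orth_symm hbe]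
    simp only [mul_zero, zero_div, zero_smul, sub_zero]
    rw [hs.refl_mulVec haa0, haa, show f e a = -1 by rw [ha, hs.sesq.sub_right, hee, hez, zero_sub],
      ha]
    match_scalars <;> field_simp <;> ring
  have hI := hb.iso g hgM
  have hfull : FullAt σ f M z := by
    intro v hv d hd'
    set v' := ((g⁻¹ : GL ι F) : Matrix ι ι F) *ᵥ v with hv'
    have e1 : (g : Matrix ι ι F) *ᵥ v' = v := mulVec_inv_mulVec g v
    have h1 : f v' e = 0 := by rw [← hI v' e, e1, hge, hv]
    have h3 : f v' v' = f v v := by rw [← hI v' v', e1]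
    rw [← hge, ← e1, ← hs.conj_R hI hee h1]
    exact M.mul_mem (M.mul_mem hgM (h v' h1 d (by rw [h3]; exact hd'))) (M.inv_mem hgM)
  have := hs.fullAt_smul hfx hfx' h2 hb hzz hfull (inv_ne_zero hk0)
  rwa [hz, inv_smul_smul₀ hk0] at this

/-- An irrational radical element gives all isotropic transvections. -/
theorem orth_forall_T (hR : ¬ RadRat F₀ f M) {z : ι → F} (hz : f z z = 0) {c : F}
    (hc : c + 1 * σ c = 0) : T f z c ∈ M := by
  have hd := hb.dim
  unfold RadRat at hR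
  push Not at hR
  obtain ⟨e, he, he0, hee, v, hve, hv, u, hu, hue, hvu⟩ := hR
  have hfull := hs.fullAt_of_irrational hfx hfx' h2 hb he he0 hee hve hv hu hue hvu
  have hallFull : ∀ e' ∈ ratVecs ι F₀, f e' e' = 0 → e' ≠ 0 → FullAt σ f M e' := by
    intro e' he' he'e' he'0
    by_cases h : f e' e = 0
    swap
    · exact hs.fullAt_of_ne hfx hfx' h2 hb he hee hfull he' he'e' h
    -- an isotropic vector orthogonal to neither
    obtain ⟨e₁, he₁, he₁e₁, he₁e⟩ := hs.exists_partner he he0 hee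
    obtain ⟨e₂, he₂, he₂e₂, he₂e'⟩ := hs.exists_partner he' he'0 he'e'
    obtain ⟨p, hp, hpp, hpe, hpe'⟩ : ∃ p ∈ ratVecs ι F₀, f p p = 0 ∧ f p e ≠ 0 ∧ f p e' ≠ 0 := by
      by_cases h1 : f e₁ e' = 0
      swap
      · exact ⟨e₁, he₁, he₁e₁, by rw [he₁e]; exact one_ne_zero, h1⟩
      by_cases h3 : f e₂ e = 0
      swap
      · exact ⟨e₂, he₂, he₂e₂, h3, by rw [he₂e']; exact one_ne_zero⟩
      have hse : f (e₁ + e₂) e = 1 := by rw [hs.sesq.add_left, he₁e, h3, add_zero]
      obtain ⟨t, ht, hiso⟩ := hs.shift (e₁ + e₂) (Submodule.add_mem _ he₁ he₂) e he hee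
        (by rw [hse]; exact one_ne_zero)
      refine ⟨_, Submodule.add_mem _ (Submodule.add_mem _ he₁ he₂) (smul_mem_ratVecs ht he), hiso,
        ?_, ?_⟩
      · rw [hs.sesq.add_left, hse, hs.sesq.smul_left, hee, mul_zero, add_zero]
        exact one_ne_zero
      · rw [hs.sesq.add_left, hs.sesq.add_left, hs.sesq.smul_left, h1, he₂e', hs.orth_symm h,
          mul_zero, add_zero, zero_add]
        exact one_ne_zero
    exact hs.fullAt_of_ne hfx hfx' h2 hb hp hpp
      (hs.fullAt_of_ne hfx hfx' h2 hb he hee hfull hp hpp hpe) he' he'e' (hs.ne_symm hpe')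
  have hall : ∀ a, a ∈ coeffs F₀ σ 1 f M := by
    rintro a e' w ⟨he', hw, he'e', hww, he'w⟩
    rw [hs.S_eq_R hww he'e' he'w]
    rcases eq_or_ne e' 0 with rfl | he'0
    · convert M.one_mem
      refine ext_mulVec fun x => ?_
      rw [hs.R_mulVec (hs.sesq.zero_left 0) (hs.sesq.zero_right _), hs.sesq.zero_right]
      simp
    refine hallFull e' he' he'e' he'0 _ (by rw [hs.sesq.smul_left, hs.orth_symm he'w, mul_zero]) 0 ?_
    rw [hs.sesq.smul_left, hs.sesq.smul_right, hww, map_zero]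
    ring
  refine hs.forall_T_mem_of_rat hb hall (fun e' he' he'e' he'0 c' hc' => ?_) hz hc
  rw [← hs.R_zero he'e']
  exact hallFull e' he' he'e' he'0 0 (hs.sesq.zero_left e') c'
    (by rw [hs.sesq.zero_left, neg_zero]; linear_combination hc')

end Setting

end CfsgLib.FormSubfield
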