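import Cfsg.Agent.FormSubfield.OrthGenerate
import Cfsg.Agent.FormSubfield.Maximal

/-!
# Orthogonal subfield groups are maximal in `SU`
-/

set_option autoImplicit false
set_option linter.unusedSectionVars false

namespace CfsgLib.FormSubfield

open Matrix Cfsg.Geo CfsgLib.MaxSub Polynomial

variable {ι : Type} [Fintype ι] [DecidableEq ι] {F : Type*} [Field F] [Fintype F]
variable {F₀ : Subfield F} {σ : F ≃+* F} {c₀ : F} {f : (ι → F) → (ι → F) → F}

theorem Setting.orth_le_or_forall_T (hs : Setting F₀ σ 1 c₀ f) (hfx : ∀ x, σ x = x → x ∈ F₀)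
    (hfx' : ∀ x ∈ F₀, σ x = x) (h2 : (2 : F) ≠ 0) {M : Subgroup (GL ι F)} (hb : Between F₀ f M) :
    M ≤ subfieldSubgroup F₀ (1 : GL ι F) ∨
      ∀ z, f z z = 0 → ∀ c, c + 1 * σ c = 0 → T f z c ∈ M := by
  by_cases hR : RadRat F₀ f M
  · exact Or.inl (hs.orth_le_subfield hfx hfx' h2 hb hR)
  · exact Or.inr fun z hz c hc => hs.orth_forall_T hfx hfx' h2 hb hR hz hc

/-- A symmetric form in three variables over a finite field of odd order has an isotropic
vector. -/
theorem exists_iso_of_three (h2 : (2 : F) ≠ 0) (hσ : ∀ x ∈ F₀, σ x = x) (hf : SesqForm σ f)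
    (hsymm : ∀ u ∈ ratVecs ι F₀, ∀ v ∈ ratVecs ι F₀, f u v = f v u)
    (hrat : ∀ u ∈ ratVecs ι F₀, ∀ v ∈ ratVecs ι F₀, f u v ∈ F₀)
    (U : Submodule F₀ (ι → F)) (hU : U ≤ ratVecs ι F₀) (h3 : 3 ≤ Module.finrank F₀ U) :
    ∃ z ∈ U, z ≠ 0 ∧ f z z = 0 := by
  classical
  by_contra hcon
  push Not at hcon
  haveI : Module.Finite F₀ (ι → F) := Module.Finite.of_finite
  haveI : Fintype F₀ := Fintype.ofFinite _
  -- orthogonal vectors
  have step : ∀ (k : ℕ) (w : Fin k → U), k < 3 → (∀ i j, i ≠ j → f (w i : ι → F) (w j) = 0) →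
      ∃ x ∈ U, x ≠ 0 ∧ ∀ i, f x (w i : ι → F) = 0 := by
    intro k w hk _
    let L : U →ₗ[F₀] (Fin k → F₀) :=
      { toFun := fun x i => ⟨f x.1 (w i : ι → F), hrat _ (hU x.2) _ (hU (w i).2)⟩
        map_add' := fun x y => funext fun i => Subtype.ext (hf.add_left _ _ _)
        map_smul' := fun c x => funext fun i => Subtype.ext (hf.smul_left _ _ _) }
    have h1 := L.finrank_range_add_finrank_ker
    have h4 := Submodule.finrank_le L.range
    rw [Module.finrank_fin_fun] at h4
    obtain ⟨x, hx, hx0⟩ := Submodule.exists_mem_ne_zero_of_ne_bot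
      (show L.ker ≠ ⊥ from fun h => by rw [h, finrank_bot] at h1; omega)
    exact ⟨x, x.2, fun h => hx0 (Subtype.ext h), fun i =>
      congrArg Subtype.val (congrFun (LinearMap.mem_ker.1 hx) i)⟩
  obtain ⟨a, ha, ha0, -⟩ := step 0 Fin.elim0 (by norm_num) (fun i => i.elim0)
  obtain ⟨b, hb, hb0, hba⟩ := step 1 ![⟨a, ha⟩] (by norm_num) (fun i j h => absurd (Subsingleton.elim i j) h)
  have hba' : f b a = 0 := hba 0
  have hab : f a b = 0 := by rw [hsymm a (hU ha) b (hU hb), hba']
  obtain ⟨c, hc, hc0, hcab⟩ := step 2 ![⟨a, ha⟩, ⟨b, hb⟩] (by norm_num) (fun i j h => by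
    fin_cases i <;> fin_cases j <;> simp_all)
  have hca : f c a = 0 := hcab 0
  have hcb : f c b = 0 := hcab 1
  have hac : f a c = 0 := by rw [hsymm a (hU ha) c (hU hc), hca]
  have hbc : f b c = 0 := by rw [hsymm b (hU hb) c (hU hc), hcb]
  set A : F₀ := ⟨f a a, hrat a (hU ha) a (hU ha)⟩ with hA
  set B : F₀ := ⟨f b b, hrat b (hU hb) b (hU hb)⟩ with hB
  set K : F₀ := ⟨f c c, hrat c (hU hc) c (hU hc)⟩ with hK
  have hA0 : A ≠ 0 := fun h => hcon a ha ha0 (congrArg Subtype.val h)
  have hB0 : B ≠ 0 := fun h => hcon b hb hb0 (congrArg Subtype.val h)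
  have hodd : Fintype.card F₀ % 2 = 1 := by
    refine FiniteField.odd_card_of_char_ne_two fun h => h2 ?_
    haveI : CharP F₀ 2 := h ▸ ringChar.charP F₀
    have h5 : (2 : F₀) = 0 := CharP.ofNat_eq_zero F₀ 2
    exact congrArg Subtype.val h5
  obtain ⟨x, y, hxy⟩ := FiniteField.exists_root_sum_quadratic
    (f := C A * X ^ 2) (g := C B * X ^ 2 + C K)
    (degree_C_mul_X_pow 2 hA0) (by
      have h6 : degree (C B * X ^ 2) = ((2 : ℕ) : WithBot ℕ) := degree_C_mul_X_pow 2 hB0
      have h7 : degree (C K) < degree (C B * X ^ 2) := by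
        rw [h6]
        exact lt_of_le_of_lt degree_C_le (by exact_mod_cast (show (0 : ℕ) < 2 by norm_num))
      rw [degree_add_eq_left_of_degree_lt h7, h6]; rfl) hodd
  simp only [eval_mul, eval_C, eval_pow, eval_X, eval_add] at hxy
  have h := congrArg Subtype.val hxy
  simp only [hA, hB, hK, AddMemClass.coe_add, MulMemClass.coe_mul, SubmonoidClass.coe_pow,
    ZeroMemClass.coe_zero] at h
  set z := (x : F) • a + (y : F) • b + c with hz
  have hzU : z ∈ U := U.add_mem (U.add_mem (U.smul_mem x ha) (U.smul_mem y hb)) hc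
  have hcc : f c c ≠ 0 := hcon c hc hc0
  refine hcon z hzU (fun h0 => hcc ?_) ?_
  · have h1 := congrArg (fun v => f v c) h0
    simp only [hz, hf.add_left, hf.smul_left, hac, hbc, hf.zero_left, mul_zero, zero_add] at h1
    exact h1
  · rw [hz]
    simp only [hf.add_left, hf.add_right, hf.smul_left, hf.smul_right, hab, hba', hac, hca, hbc,
      hcb, hσ _ x.2, hσ _ y.2]
    linear_combination h

theorem isMaximalIn_suSubfield_orth (n q : ℕ) (hF : Fintype.card F = q ^ 2) (hn : 6 ≤ n)
    (hodd : Odd q) (F₀ : Subfield F) (hcard : Fintype.card F = Nat.card F₀ ^ 2) (P : GL (Fin n) F)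
    (hP : IsFormRationalStructure (Cfsg.hermForm n F q) F₀ 1 P) :
    IsMaximalIn (Cfsg.GU n F q ⊓ specialLinear (Fin n) F)
      (subfieldSubgroup F₀ P ⊓ (Cfsg.GU n F q ⊓ specialLinear (Fin n) F)) := by
  obtain ⟨σ, hne, hinv, hσ⟩ := exists_conjEquiv hF
  have hf := isUnitaryForm_hermForm (n := n) hne hinv hσ
  have hh := sesqForm_of_unitary hf
  have hq : Nat.card F₀ = q := Nat.pow_left_injective two_ne_zero (hcard.symm.trans hF)
  have hfix : ∀ x ∈ F₀, σ x = x := fun x hx => by
    haveI : Fintype F₀ := Fintype.ofFinite _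
    rw [hσ, ← hq, Nat.card_eq_fintype_card]
    exact congrArg Subtype.val (FiniteField.pow_card (⟨x, hx⟩ : F₀))
  have hfix' : ∀ x, σ x = x → x ∈ F₀ := by
    intro x hx
    by_contra hxF
    exact hne (RingEquiv.ext fun y => subring_eq_top_of_prime Nat.prime_two hcard
      { carrier := {a | σ a = a}
        mul_mem' := fun {a b} (ha : σ a = a) (hb : σ b = b) =>
          (by rw [map_mul, ha, hb] : σ (a * b) = a * b)
        one_mem' := map_one σ
        add_mem' := fun {a b} (ha : σ a = a) (hb : σ b = b) =>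
          (by rw [map_add, ha, hb] : σ (a + b) = a + b)
        zero_mem' := map_zero σ
        neg_mem' := fun {a} (ha : σ a = a) => (by rw [map_neg, ha] : σ (-a) = -a) }
      (fun a ha => hfix a ha) hx hxF y)
  have h2 : (2 : F) ≠ 0 := Ring.two_ne_zero fun h => by
    have h1 := FiniteField.even_card_iff_char_two.1 h
    rw [hF, ← Nat.even_iff] at h1
    exact (Nat.not_even_iff_odd.2 hodd.pow) h1
  obtain ⟨δ, hδ0, hδ⟩ := exists_traceZero hne hinv
  set f' := pullForm (Cfsg.hermForm n F q) 1 P with hf'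
  have hs' : SesqForm σ f' := sesq_pullForm hh one_ne_zero P
  have hherm : ∀ u v, f' v u = σ (f' u v) := fun u v => by
    rw [hf', pullForm, pullForm, one_mul, one_mul, hf.herm]
  have hrat := pullForm_mem hP
  rw [← hf'] at hrat
  have hsymm : ∀ u ∈ ratVecs (Fin n) F₀, ∀ v ∈ ratVecs (Fin n) F₀, f' u v = f' v u :=
    fun u hu v hv => by rw [hherm u v, hfix _ (hrat u hu v hv)]
  have hs : Setting F₀ σ 1 δ f' := by
    refine
      { sesq := hs', eps := one_mul 1, sigma_sigma := hinv, sigma_eps := map_one σ,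
        herm := fun u v => by rw [one_mul]; exact hherm u v, rat := hrat,
        sigma_mem := fun x hx => by rwa [hfix x hx], c₀_ne := hδ0,
        c₀_trace := by rw [hδ]; ring,
        exists_iso := exists_iso_of_three h2 hfix hs' hsymm hrat,
        exists_iso₂ := fun h => absurd (hfix δ h) (fun e => hδ0 ((mul_eq_zero.mp
          (show (2 : F) * δ = 0 by linear_combination hδ - e)).resolve_left h2)),
        shift := fun v hv e he hee hve => ?_, trace_gen := fun c hc => ?_ }
    · have ht : - f' v v / (2 * f' v e) ∈ F₀ :=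
        F₀.div_mem (F₀.neg_mem (hrat v hv v hv)) (F₀.mul_mem (ofNat_mem F₀ 2) (hrat v hv e he))
      refine ⟨_, ht, ?_⟩
      rw [hs'.add_left, hs'.add_right, hs'.add_right, hs'.smul_left, hs'.smul_right, hs'.smul_left,
        hs'.smul_right, hee, hfix _ ht, ← hsymm v hv e he]
      field_simp
      ring
    · rw [one_mul] at hc
      obtain ⟨t, ht⟩ := norm_surjective hne hinv (a := c / δ) (by
        rw [map_div₀, hδ, eq_neg_of_add_eq_zero_right hc, neg_div_neg_eq])
      exact AddSubgroup.subset_closure ⟨t, by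
        show δ * (t * σ t) = c
        rw [ht, mul_div_cancel₀ _ hδ0]⟩
  exact isMaximalIn_of_setting hh one_ne_zero P hs Nat.prime_two hcard
    (fun M hb => hs.orth_le_or_forall_T hfix' hfix h2 hb) (by simpa using hn) _
    (fun g => Iff.rfl) fun M hM => su_le_of_forall_tv (by omega) hF hσ fun z hz c hc =>
      hM z hz c (by rw [div_one, one_mul]; exact hc)

end CfsgLib.FormSubfield
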