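import Cfsg.Agent.FormSubfield.OrthElements

/-!
# Rigidity for a symmetric form on the rational vectors

If every element of a unipotent radical in `M` has rational translation part, then `M` is rational
up to scalars: for isotropic rational `e` the rational reflection pairs fixing `g e` are conjugated
by `g⁻¹` to rational elements, so `σ(g) g⁻¹` commutes with them and is a scalar on the rational
vectors orthogonal to `g e`.
-/

set_option autoImplicit false
set_option linter.unusedSectionVars false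

namespace CfsgLib.FormSubfield

open Matrix Cfsg.Geo CfsgLib.MaxSub

variable {ι : Type} [Fintype ι] [DecidableEq ι] {F : Type*} [Field F] [Finite F]
variable {F₀ : Subfield F} {σ : F ≃+* F} {c₀ : F} {f : (ι → F) → (ι → F) → F}
variable {M : Subgroup (GL ι F)}

/-- Some element of the unipotent radical at `e` with translation part `v` lies in `M`. -/
def InRadical (f : (ι → F) → (ι → F) → F) (M : Subgroup (GL ι F)) (e v : ι → F) : Prop :=
  ∃ d : F, R f e v d ∈ M

/-- The radical elements of `M` have rational translation parts. -/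
def RadRat (F₀ : Subfield F) (f : (ι → F) → (ι → F) → F) (M : Subgroup (GL ι F)) : Prop :=
  ∀ e ∈ ratVecs ι F₀, e ≠ 0 → f e e = 0 → ∀ v, f v e = 0 → InRadical f M e v →
    ∀ u ∈ ratVecs ι F₀, f u e = 0 → f v u ∈ F₀

namespace Setting

variable (hs : Setting F₀ σ 1 c₀ f) (hfx : ∀ x, σ x = x → x ∈ F₀) (hfx' : ∀ x ∈ F₀, σ x = x)
  (h2 : (2 : F) ≠ 0)

include hs hfx hfx' h2

/-- A map commuting with the reflection pairs of a rational subspace is a scalar on it. -/
theorem scalar_of_commute {U : Submodule F₀ (ι → F)} (hU : U ≤ ratVecs ι F₀) (Z : Matrix ι ι F)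
    (hcomm : ∀ a ∈ U, ∀ b ∈ U, f a a ≠ 0 → f b b ≠ 0 → f a b = 0 →
      Z * ((refl f a * refl f b : GL ι F) : Matrix ι ι F) =
        ((refl f a * refl f b : GL ι F) : Matrix ι ι F) * Z)
    (hex : ∃ a ∈ U, f a a ≠ 0) (horth : ∀ a ∈ U, f a a ≠ 0 → ∃ b ∈ U, f b b ≠ 0 ∧ f b a = 0)
    (hperp : ∀ a ∈ U, ∀ b ∈ U, ∃ x ∈ U, x ≠ 0 ∧ f x a = 0 ∧ f x b = 0) :
    ∃ c : F, ∀ v ∈ U, Z *ᵥ v = c • v := by
  have hsy : ∀ {u v : ι → F}, u ∈ U → v ∈ U → f u v = f v u :=
    fun hu hv => hs.symm_rat hfx hfx' h2 (hU hu) (hU hv)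
  -- the eigenvalue at an anisotropic vector
  let c : (ι → F) → F := fun a => f (Z *ᵥ a) a / f a a
  have hline : ∀ a ∈ U, f a a ≠ 0 → Z *ᵥ a = c a • a := by
    intro a ha haa
    have hE : ∀ b ∈ U, f b b ≠ 0 → f a b = 0 →
        Z *ᵥ a = c a • a + (f (Z *ᵥ a) b / f b b) • b := by
      intro b hb hbb hab
      have h1 := congrArg (fun W : Matrix ι ι F => W *ᵥ a) (hcomm a ha b hb haa hbb hab)
      simp only [← mulVec_mulVec] at h1
      rw [hs.refl₂_mulVec haa hbb hab, hs.refl₂_mulVec haa hbb hab, hab, mul_div_assoc,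
        div_self haa] at h1
      simp only [mulVec_sub, mulVec_smul, mul_zero, zero_div, zero_smul, sub_zero] at h1
      have h3 : (2 : F) • (Z *ᵥ a - c a • a - (f (Z *ᵥ a) b / f b b) • b) = 0 := by
        linear_combination (norm := module) -h1
      rw [smul_eq_zero, or_iff_right h2] at h3
      linear_combination (norm := module) h3
    obtain ⟨b, hb, hbb, hba⟩ := horth a ha haa
    obtain ⟨x, hx, hx0, hxa, hxb⟩ := hperp a ha b hb
    have hab := hs.orth_symm hba
    suffices f (Z *ᵥ a) b = 0 by simpa [this] using hE b hb hbb hab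
    by_cases hxx : f x x = 0
    · have hb' : f (b + x) (b + x) = f b b := by
        simp only [hs.sesq.add_left, hs.sesq.add_right, hxx, hxb, hs.orth_symm hxb, add_zero]
      have h1 := hE (b + x) (U.add_mem hb hx) (by rw [hb']; exact hbb)
        (by rw [hs.sesq.add_right, hab, hs.orth_symm hxa, add_zero])
      rw [hb'] at h1
      have h3 := congrArg (fun z => f z b) h1
      simp only [hs.sesq.add_left, hs.sesq.smul_left, hab, hxb, mul_zero, add_zero, zero_add,
        div_mul_cancel₀ _ hbb] at h3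
      have h4 := (hE b hb hbb hab).symm.trans h1
      rw [← h3] at h4
      have h5 : (f (Z *ᵥ a) b / f b b) • x = 0 := by linear_combination (norm := module) -h4
      rw [smul_eq_zero, or_iff_left hx0, div_eq_zero_iff, or_iff_left hbb] at h5
      exact h5
    · have h1 := congrArg (fun z => f z b) (hE x hx hxx (hs.orth_symm hxa))
      simpa [hs.sesq.add_left, hs.sesq.smul_left, hab, hxb] using h1
  have hpair : ∀ {a b : ι → F}, f a a ≠ 0 → ∀ {k l : F}, f b a = 0 →
      ∀ {z : ι → F}, z = k • a + l • b → f z a = k * f a a := by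
    intro a b _ k l hba z hz
    rw [hz, hs.sesq.add_left, hs.sesq.smul_left, hs.sesq.smul_left, hba, mul_zero, add_zero]
  have horth' : ∀ a ∈ U, ∀ b ∈ U, f a a ≠ 0 → f b b ≠ 0 → f a b = 0 → c a = c b := by
    intro a ha b hb haa hbb hab
    have hba := hs.orth_symm hab
    by_cases hsum : f (a + b) (a + b) ≠ 0
    · have h1 := hline _ (U.add_mem ha hb) hsum
      rw [mulVec_add, hline a ha haa, hline b hb hbb, smul_add] at h1
      have h3 := congrArg (fun z => f z a) h1
      have h4 := congrArg (fun z => f z b) h1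
      simp only [hs.sesq.add_left, hs.sesq.smul_left, hab, hba, mul_zero, add_zero, zero_add]
        at h3 h4
      rw [mul_right_cancel₀ haa h3, mul_right_cancel₀ hbb h4]
    push Not at hsum
    obtain ⟨x, hx, hx0, hxa, hxb⟩ := hperp a ha b hb
    have hax := hs.orth_symm hxa
    have hbx := hs.orth_symm hxb
    have hsum' : f a a + f b b = 0 := by
      simpa [hs.sesq.add_left, hs.sesq.add_right, hab, hba] using hsum
    by_cases hxx : f x x = 0
    · have h1 := hline (a + x) (U.add_mem ha hx) (by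
        simpa [hs.sesq.add_left, hs.sesq.add_right, hax, hxa, hxx] using haa)
      have h3 := hline (b + x) (U.add_mem hb hx) (by
        simpa [hs.sesq.add_left, hs.sesq.add_right, hbx, hxb, hxx] using hbb)
      rw [mulVec_add, hline a ha haa] at h1
      rw [mulVec_add, hline b hb hbb] at h3
      have h4 : c (a + x) • (a + x) - c (b + x) • (b + x) = c a • a - c b • b := by
        linear_combination (norm := module) h3 - h1
      have h5 := congrArg (fun z => f z a) h4
      have h6 := congrArg (fun z => f z b) h4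
      simp only [hs.sesq.sub_left, hs.sesq.add_left, hs.sesq.smul_left, hab, hba, hxa, hxb,
        mul_zero, add_zero, zero_add, sub_zero, zero_sub, neg_inj] at h5 h6
      rw [mul_right_cancel₀ haa h5, mul_right_cancel₀ hbb h6] at h4
      have h7 : (c a - c b) • x = 0 := by linear_combination (norm := module) h4
      rw [smul_eq_zero, or_iff_left hx0, sub_eq_zero] at h7
      exact h7
    · have hQ : f (a + b + x) (a + b + x) ≠ 0 := by
        simp only [hs.sesq.add_left, hs.sesq.add_right, hab, hba, hax, hxa, hbx, hxb, add_zero,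
          zero_add]
        rw [hsum', zero_add]
        exact hxx
      have h1 := hline _ (U.add_mem (U.add_mem ha hb) hx) hQ
      rw [mulVec_add, mulVec_add, hline a ha haa, hline b hb hbb, hline x hx hxx, smul_add,
        smul_add] at h1
      have h3 := congrArg (fun z => f z a) h1
      have h4 := congrArg (fun z => f z b) h1
      simp only [hs.sesq.add_left, hs.sesq.smul_left, hab, hba, hxa, hxb, mul_zero, add_zero,
        zero_add] at h3 h4
      rw [mul_right_cancel₀ haa h3, mul_right_cancel₀ hbb h4]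
  obtain ⟨a, ha, haa⟩ := hex
  refine ⟨c a, fun v hv => ?_⟩
  have hw : ∀ w ∈ U, f w a = 0 → Z *ᵥ w = c a • w := by
    intro w hw hwa
    by_cases hww : f w w = 0
    · obtain ⟨b, hb, hbb, hba⟩ := horth a ha haa
      have hb' : Z *ᵥ b = c a • b := by
        rw [horth' a ha b hb haa hbb (hs.orth_symm hba)]; exact hline b hb hbb
      rcases hs.aniso_add_or_sub hfx hfx' h2 hbb hww with h | h
      · have h1 := hline _ (U.add_mem hw hb) h
        rw [← horth' a ha _ (U.add_mem hw hb) haa h (hs.orth_symm (by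
          rw [hs.sesq.add_left, hwa, hba, add_zero])), mulVec_add, hb'] at h1
        linear_combination (norm := module) h1
      · have h1 := hline _ (U.sub_mem hw hb) h
        rw [← horth' a ha _ (U.sub_mem hw hb) haa h (hs.orth_symm (by
          rw [hs.sesq.sub_left, hwa, hba, sub_zero])), mulVec_sub, hb'] at h1
        linear_combination (norm := module) h1
    · rw [horth' a ha w hw haa hww (hs.orth_symm hwa)]; exact hline w hw hww
  obtain ⟨k, hk⟩ : ∃ k : F₀, (k : F) = f v a / f a a :=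
    ⟨⟨_, F₀.div_mem (hs.rat v (hU hv) a (hU ha)) (hs.rat a (hU ha) a (hU ha))⟩, rfl⟩
  have h1 := hw (v - (k : F) • a) (U.sub_mem hv (U.smul_mem k ha)) (by
    rw [hs.sesq.sub_left, hs.sesq.smul_left, hk, div_mul_cancel₀ _ haa, sub_self])
  rw [mulVec_sub, mulVec_smul, hline a ha haa] at h1
  linear_combination (norm := module) h1

omit hfx in
/-- An element of the subfield group fixing a non-zero rational vector is rational. -/
theorem ratMat_of_fix {g : GL ι F} (hg : g ∈ subfieldSubgroup F₀ (1 : GL ι F)) {x : ι → F}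
    (hx : x ∈ ratVecs ι F₀) (hx0 : x ≠ 0) (hgx : (g : Matrix ι ι F) *ᵥ x = x) :
    RatMat F₀ (g : Matrix ι ι F) := by
  obtain ⟨k, hk, hkg⟩ := mem_subfieldSubgroup_one_iff.1 hg
  obtain ⟨i, hi⟩ := Function.ne_iff.mp hx0
  have h1 := mulVec_mem_ratVecs hkg hx
  rw [smul_mulVec, hgx] at h1
  have hkF : k ∈ F₀ := by
    have h2 := F₀.div_mem (h1 i) (hx i)
    rwa [Pi.smul_apply, smul_eq_mul, mul_div_assoc, div_self hi, mul_one] at h2
  intro r c
  have h2 := F₀.mul_mem (F₀.inv_mem hkF) (hkg r c)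
  rwa [Matrix.smul_apply, smul_eq_mul, inv_mul_cancel_left₀ hk] at h2

variable (hb : Between F₀ f M)

include hb

theorem refl₂_mem {a b : ι → F} (ha : a ∈ ratVecs ι F₀) (hb' : b ∈ ratVecs ι F₀)
    (haa : f a a ≠ 0) (hbb : f b b ≠ 0) : refl f a * refl f b ∈ M :=
  hb.lower _ (hs.refl₂_iso haa hbb) (hs.refl₂_mem_specialLinear haa hbb)
    (mem_subfieldSubgroup_one_of_rat (hs.ratMat_refl₂ ha hb' haa hbb))

theorem rat_radical_mem {e v : ι → F} (he : e ∈ ratVecs ι F₀) (hv : v ∈ ratVecs ι F₀)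
    (hee : f e e = 0) (hve : f v e = 0) : R f e v (-(f v v / 2)) ∈ M := by
  have hd : -(f v v / 2) ∈ F₀ :=
    F₀.neg_mem (F₀.div_mem (hs.rat v hv v hv) (ofNat_mem F₀ 2))
  refine hb.lower _ (hs.R_iso hee hve ?_) (R_mem_specialLinear f e v _)
    (mem_subfieldSubgroup_one_of_rat (hs.ratMat_R he hv hee hve hd))
  rw [hfx' _ hd]
  field_simp
  ring

variable (hR : RadRat F₀ f M)

include hR

/-- The image of a perpendicular rational vector is rational up to a scalar. -/
theorem orth_image_perp {g : GL ι F} (hg : g ∈ M) {e e' : ι → F} (he : e ∈ ratVecs ι F₀)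
    (he0 : e ≠ 0) (hee : f e e = 0) (he' : e' ∈ ratVecs ι F₀) {a : F}
    (hge : (g : Matrix ι ι F) *ᵥ e = a • e') {w : ι → F} (hw : w ∈ ratVecs ι F₀)
    (hwe : f w e = 0) : σ a • ((g : Matrix ι ι F) *ᵥ w) ∈ ratVecs ι F₀ := by
  have hd := hb.dim
  have hI := hb.iso g hg
  have ha0 : a ≠ 0 := fun h => mulVec_ne_zero g he0 (by rw [hge, h, zero_smul])
  have he'0 : e' ≠ 0 := fun h => mulVec_ne_zero g he0 (by rw [hge, h, smul_zero])
  have hsa : σ a ≠ 0 := by simpa using ha0
  have he'e' : f e' e' = 0 := by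
    have h1 := hI e e
    rw [hge, hs.sesq.smul_left, hs.sesq.smul_right, hee] at h1
    simpa [ha0] using h1
  have hN : a * σ a ∈ F₀ := hfx _ (by rw [map_mul, hs.sigma_sigma, mul_comm])
  have hye : ∀ v, f v e = 0 → f ((g : Matrix ι ι F) *ᵥ v) e' = 0 := fun v hv => by
    have h1 := hI v e
    rw [hv, hge, hs.sesq.smul_right] at h1
    exact (mul_eq_zero.mp h1).resolve_left hsa
  -- every image is rational up to a multiple of `e'`
  have hdec : ∀ v ∈ ratVecs ι F₀, f v e = 0 → ∃ A ∈ ratVecs ι F₀, ∃ lam : F, f A e' = 0 ∧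
      σ a • ((g : Matrix ι ι F) *ᵥ v) = A + lam • e' := by
    intro v hv hve
    set y := σ a • ((g : Matrix ι ι F) *ᵥ v) with hy
    have hye' : f y e' = 0 := by rw [hy, hs.sesq.smul_left, hye v hve, mul_zero]
    have hrad : InRadical f M e' y := by
      refine ⟨-(f v v / 2) * (a * σ a), ?_⟩
      rw [hy, ← hs.R_smul he'e' (hye v hve), ← hge, ← hs.conj_R hI hee hve]
      exact M.mul_mem (M.mul_mem hg (hs.rat_radical_mem hfx hfx' h2 hb he hv hee hve)) (M.inv_mem hg)
    obtain ⟨p, hp, q, hq, hpq⟩ := hs.exists_decomp hfx hfx' h2 y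
    have hqu : ∀ u ∈ ratVecs ι F₀, f u e' = 0 → f u q = 0 := by
      intro u hu hue
      have h1 := hR e' he' he'0 he'e' y hye' hrad u hu hue
      have h3 : c₀ * f q u ∈ F₀ := by
        rw [hpq, hs.sesq.add_left, hs.sesq.smul_left] at h1
        simpa using F₀.sub_mem h1 (hs.rat p hp u hu)
      by_contra h
      have h4 : f q u ≠ 0 := hs.ne_symm h
      apply hs.c₀_notMem hfx hfx' h2
      have := F₀.mul_mem h3 (F₀.inv_mem (hs.rat q hq u hu))
      rwa [mul_inv_cancel_right₀ h4] at this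
    obtain ⟨k, hk⟩ : ∃ k : F, k • e' = q := by
      by_contra h
      push Not at h
      obtain ⟨u, hu, hue, huq⟩ := hs.exists_sep he' he'0 he'e' h
      exact huq (hqu u hu hue)
    refine ⟨p, hp, c₀ * k, ?_, by rw [hpq, ← hk, smul_smul]⟩
    rw [hpq, ← hk, smul_smul, hs.sesq.add_left, hs.sesq.smul_left, he'e', mul_zero, add_zero]
      at hye'
    exact hye'
  have hval : ∀ v v' A A' (l l' : F), f A e' = 0 → f A' e' = 0 →
      σ a • ((g : Matrix ι ι F) *ᵥ v) = A + l • e' →
      σ a • ((g : Matrix ι ι F) *ᵥ v') = A' + l' • e' → f A A' = σ a * a * f v v' := by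
    intro v v' A A' l l' hA hA' hv hv'
    have h1 : f (σ a • ((g : Matrix ι ι F) *ᵥ v)) (σ a • ((g : Matrix ι ι F) *ᵥ v')) =
        σ a * a * f v v' := by
      rw [hs.sesq.smul_left, hs.sesq.smul_right, hI, hs.sigma_sigma, mul_assoc]
    rw [hv, hv'] at h1
    simpa [hs.sesq.add_left, hs.sesq.add_right, hs.sesq.smul_left, hs.sesq.smul_right, he'e', hA,
      hs.orth_symm hA'] using h1
  -- anisotropic vectors
  have haniso : ∀ v ∈ ratVecs ι F₀, f v e = 0 → f v v ≠ 0 →
      σ a • ((g : Matrix ι ι F) *ᵥ v) ∈ ratVecs ι F₀ := by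
    intro v hv hve hvv
    obtain ⟨x, hx, hxx⟩ := hs.exists_aniso_perp' hfx hfx' h2 ![e, v]
      (by intro i; fin_cases i <;> assumption) 1 hvv (by omega)
    have hxe : f x e = 0 := hx.2 0
    have hxv : f x v = 0 := hx.2 1
    obtain ⟨A, hA, lam, hAe, hgv⟩ := hdec v hv hve
    obtain ⟨B, hB, mu, hBe, hgx⟩ := hdec x hx.1 hxe
    have hNa : σ a * a ≠ 0 := mul_ne_zero hsa ha0
    have hAA : f A A ≠ 0 := by
      rw [hval v v A A lam lam hAe hAe hgv hgv]; exact mul_ne_zero hNa hvv
    have hBB : f B B ≠ 0 := by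
      rw [hval x x B B mu mu hBe hBe hgx hgx]; exact mul_ne_zero hNa hxx
    have hBA : f B A = 0 := by rw [hval x v B A mu lam hBe hAe hgx hgv, hxv, mul_zero]
    have hAB := hs.orth_symm hBA
    have he'A := hs.orth_symm hAe
    have he'B := hs.orth_symm hBe
    set Y := A + lam • e' with hY
    set X := B + mu • e' with hX
    have hYY : f Y Y = f A A ∧ f X X = f B B ∧ f Y X = 0 := by
      simp [hY, hX, hs.sesq.add_left, hs.sesq.add_right, hs.sesq.smul_left, hs.sesq.smul_right,
        he'e', hAe, hBe, he'A, he'B, hAB]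
    have hk : refl f Y * refl f X ∈ M := by
      rw [← hgv, ← hgx, hs.refl_smul (by rw [hI]; exact hvv) hsa,
        hs.refl_smul (by rw [hI]; exact hxx) hsa, ← hs.conj_refl hI hvv, ← hs.conj_refl hI hxx]
      have := M.mul_mem (M.mul_mem hg (hs.refl₂_mem hfx hfx' h2 hb hv hx.1 hvv hxx)) (M.inv_mem hg)
      convert this using 1
      group
    set v' := (-(2 * σ lam / f A A)) • A + (-(2 * σ mu / f B B)) • B with hv'
    have hv'e : f v' e' = 0 := by
      rw [hv', hs.sesq.add_left, hs.sesq.smul_left, hs.sesq.smul_left, hAe, hBe, mul_zero,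
        mul_zero, add_zero]
    have hsA : σ (f A A) = f A A := hs.sigma_f' A A
    have hsB : σ (f B B) = f B B := hs.sigma_f' B B
    have hrad : InRadical f M e' v' := by
      refine ⟨-(2 * (lam * σ lam) / f A A) - 2 * (mu * σ mu) / f B B, ?_⟩
      suffices hkey : refl f A * refl f B * (refl f Y * refl f X) = R f e' v'
          (-(2 * (lam * σ lam) / f A A) - 2 * (mu * σ mu) / f B B) by
        rw [← hkey]
        exact M.mul_mem (hs.refl₂_mem hfx hfx' h2 hb hA hB hAA hBB) hk
      refine ext_mulVec fun z => ?_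
      rw [Units.val_mul, ← mulVec_mulVec, hs.refl₂_mulVec hAA hBB hAB,
        hs.refl₂_mulVec (by rw [hYY.1]; exact hAA) (by rw [hYY.2.1]; exact hBB) hYY.2.2,
        hs.R_mulVec he'e' hv'e, hYY.1, hYY.2.1, hv', hY, hX]
      simp only [hs.sesq.add_left, hs.sesq.sub_left, hs.sesq.smul_left, hs.sesq.add_right,
        hs.sesq.smul_right, map_neg, map_mul, map_div₀, map_ofNat, hs.sigma_sigma, hsA, hsB,
        he'A, he'B, hAB, hBA, mul_zero, add_zero, sub_zero, zero_add]
      match_scalars <;> field_simp <;> ring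
    have h5 := hR e' he' he'0 he'e' v' hv'e hrad A hA hAe
    rw [hv', hs.sesq.add_left, hs.sesq.smul_left, hs.sesq.smul_left, hBA, mul_zero, add_zero,
      neg_mul, div_mul_cancel₀ _ hAA] at h5
    have hlam : lam ∈ F₀ := by
      have h6 := hs.sigma_mem _ (F₀.mul_mem (F₀.inv_mem (ofNat_mem F₀ 2)) (F₀.neg_mem h5))
      rwa [neg_neg, inv_mul_cancel_left₀ h2, hs.sigma_sigma] at h6
    rw [hgv, hY]
    exact Submodule.add_mem _ hA (smul_mem_ratVecs hlam he')
  by_cases hww : f w w = 0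
  swap
  · exact haniso w hw hwe hww
  obtain ⟨b, hb', hbb⟩ := hs.exists_aniso_perp hfx hfx' h2 ![e]
    (fun i => by fin_cases i; exact he) (by omega)
  have hbe : f b e = 0 := hb'.2 0
  rcases hs.aniso_add_or_sub hfx hfx' h2 hbb hww with h | h
  · have h1 := Submodule.sub_mem _ (haniso _ (Submodule.add_mem _ hw hb'.1)
      (by rw [hs.sesq.add_left, hwe, hbe, add_zero]) h) (haniso b hb'.1 hbe hbb)
    simpa [mulVec_add, smul_add] using h1
  · have h1 := Submodule.add_mem _ (haniso _ (Submodule.sub_mem _ hw hb'.1)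
      (by rw [hs.sesq.sub_left, hwe, hbe, sub_zero]) h) (haniso b hb'.1 hbe hbb)
    simpa [mulVec_sub, smul_sub] using h1

/-- An element mapping a rational isotropic line to a rational line lies in the subfield group. -/
theorem orth_mem_of_line {g : GL ι F} (hg : g ∈ M) {e e' : ι → F} (he : e ∈ ratVecs ι F₀)
    (he0 : e ≠ 0) (hee : f e e = 0) (he' : e' ∈ ratVecs ι F₀) {a : F}
    (hge : (g : Matrix ι ι F) *ᵥ e = a • e') : g ∈ subfieldSubgroup F₀ (1 : GL ι F) := by
  have hd := hb.dim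
  have ha0 : a ≠ 0 := fun h => mulVec_ne_zero g he0 (by rw [hge, h, zero_smul])
  have hsa : σ a ≠ 0 := by simpa using ha0
  have hN : a * σ a ∈ F₀ := hfx _ (by rw [map_mul, hs.sigma_sigma, mul_comm])
  refine mem_subfieldSubgroup_one_iff.2 ⟨σ a, hsa, ratMat_of_mulVec fun v hv => ?_⟩
  rw [smul_mulVec]
  obtain ⟨z, hz, z', hz', hzz, -, hz'z⟩ := hs.exists_pair ![e]
    (fun i => by fin_cases i; exact he) (by omega)
  obtain ⟨e₁, he₁, -, he₁e⟩ := hs.exists_partner he he0 hee
  have hze : f z e = 0 := hz.2 0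
  have hz'e : f z' e = 0 := hz'.2 0
  have hz0 : z ≠ 0 := fun h => by
    rw [h, hs.sesq.zero_right] at hz'z; exact zero_ne_one hz'z
  set v₁ := e₁ - f e₁ z • z' with hv₁
  have hv₁R : v₁ ∈ ratVecs ι F₀ :=
    Submodule.sub_mem _ he₁ (smul_mem_ratVecs (hs.rat e₁ he₁ z hz.1) hz'.1)
  have hv₁z : f v₁ z = 0 := by
    rw [hv₁, hs.sesq.sub_left, hs.sesq.smul_left, hz'z, mul_one, sub_self]
  have hv₁e : f v₁ e = 1 := by
    rw [hv₁, hs.sesq.sub_left, hs.sesq.smul_left, hz'e, mul_zero, sub_zero, he₁e]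
  have hgz := hs.orth_image_perp hfx hfx' h2 hb hR hg he he0 hee he' hge hz.1 hze
  have hv₁g : σ a • ((g : Matrix ι ι F) *ᵥ v₁) ∈ ratVecs ι F₀ := by
    have h1 := hs.orth_image_perp hfx hfx' h2 hb hR hg hz.1 hz0 hzz hgz
      (a := (σ a)⁻¹) (by rw [inv_smul_smul₀ hsa]) hv₁R hv₁z
    have h3 := smul_mem_ratVecs hN h1
    rw [smul_smul] at h3
    convert h3 using 2
    rw [map_inv₀, hs.sigma_sigma]
    field_simp
  have h1 := Submodule.add_mem _
    (hs.orth_image_perp hfx hfx' h2 hb hR hg he he0 hee he' hge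
      (Submodule.sub_mem _ hv (smul_mem_ratVecs (hs.rat v hv e he) hv₁R))
      (by rw [hs.sesq.sub_left, hs.sesq.smul_left, hv₁e, mul_one, sub_self]))
    (smul_mem_ratVecs (hs.rat v hv e he) hv₁g)
  convert h1 using 1
  rw [mulVec_sub, mulVec_smul]
  module

/-- All of `M` is rational up to scalars. -/
theorem orth_le_subfield : M ≤ subfieldSubgroup F₀ (1 : GL ι F) := by
  intro g hg
  have hd := hb.dim
  have hI := hb.iso g hg
  haveI : Module.Finite F₀ (ι → F) := Module.Finite.of_finite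
  obtain ⟨e, he, e₁, -, hee, -, he₁e⟩ := hs.exists_pair ![] (fun i => i.elim0) (by omega)
  have he0 : e ≠ 0 := fun h => by rw [h, hs.sesq.zero_right] at he₁e; exact zero_ne_one he₁e
  obtain ⟨w, hw, w₂, hw₂, hww, hw₂w₂, hw₂w⟩ :=
    hs.exists_pair ![e] (fun i => by fin_cases i; exact he.1) (by omega)
  set Z : Matrix ι ι F := (g : Matrix ι ι F).map σ * ((g⁻¹ : GL ι F) : Matrix ι ι F) with hZ
  -- the rational vectors orthogonal to an image
  let U : (ι → F) → Submodule F₀ (ι → F) := fun v =>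
    { carrier := {x | x ∈ ratVecs ι F₀ ∧ f x ((g : Matrix ι ι F) *ᵥ v) = 0}
      add_mem' := fun {x y} hx hy => ⟨Submodule.add_mem _ hx.1 hy.1, by
        rw [hs.sesq.add_left, hx.2, hy.2, add_zero]⟩
      zero_mem' := ⟨Submodule.zero_mem _, hs.sesq.zero_left _⟩
      smul_mem' := fun c x hx => ⟨Submodule.smul_mem _ c hx.1, by
        show f ((c : F) • x) _ = 0
        rw [hs.sesq.smul_left, hx.2, mul_zero]⟩ }
  have hUR : ∀ v, U v ≤ ratVecs ι F₀ := fun v x hx => hx.1
  have hUdim : ∀ v, Fintype.card ι ≤ Module.finrank F₀ (U v) + 2 ∧ ∃ p ∈ ratVecs ι F₀,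
      ∃ q ∈ ratVecs ι F₀, ∀ x, x ∈ ratVecs ι F₀ → f x p = 0 → f x q = 0 → x ∈ U v := by
    intro v
    obtain ⟨p, hp, q, hq, hpq⟩ := hs.exists_decomp hfx hfx' h2 ((g : Matrix ι ι F) *ᵥ v)
    have hin : ∀ x, x ∈ ratVecs ι F₀ → f x p = 0 → f x q = 0 → x ∈ U v := fun x hx h1 h3 =>
      ⟨hx, by rw [hpq, hs.decomp_orth hfx hfx' h2 hx hp hq]; exact ⟨h1, h3⟩⟩
    refine ⟨?_, p, hp, q, hq, hin⟩
    have h1 := hs.finrank_perp ![p, q] (fun i => by fin_cases i <;> assumption)
    have h3 := Submodule.finrank_mono (show hs.perp ![p, q] ≤ U v from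
      fun x hx => hin x hx.1 (hx.2 0) (hx.2 1))
    omega
  have hscal : ∀ v ∈ ratVecs ι F₀, v ≠ 0 → f v v = 0 → ∃ c : F, ∀ x ∈ U v, Z *ᵥ x = c • x := by
    intro v hv hv0 hvv
    obtain ⟨-, p, hp, q, hq, hin⟩ := hUdim v
    refine hs.scalar_of_commute hfx hfx' h2 (hUR v) Z (fun a ha b hb' haa hbb hab => ?_) ?_ ?_ ?_
    · set J := refl f a * refl f b with hJ
      set ρ := g⁻¹ * J * g with hρ
      have hρM : ρ ∈ M := M.mul_mem (M.mul_mem (M.inv_mem hg)
        (hs.refl₂_mem hfx hfx' h2 hb ha.1 hb'.1 haa hbb)) hg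
      have hρv : (ρ : Matrix ι ι F) *ᵥ v = v := by
        rw [hρ, Units.val_mul, Units.val_mul, ← mulVec_mulVec, ← mulVec_mulVec,
          hs.refl₂_mulVec haa hbb hab, hs.orth_symm ha.2, hs.orth_symm hb'.2]
        simp
      have hρR := hs.ratMat_of_fix hfx' h2 (hs.orth_mem_of_line hfx hfx' h2 hb hR hρM hv hv0 hvv hv
        (a := 1) (by rw [hρv, one_smul])) hv hv0 hρv
      have hJR := hs.ratMat_refl₂ ha.1 hb'.1 haa hbb
      have hσ : ∀ {A : Matrix ι ι F}, RatMat F₀ A → A.map σ = A := fun hA =>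
        Matrix.ext fun i j => hfx' _ (hA i j)
      have e1 : ((g⁻¹ : GL ι F) : Matrix ι ι F) * (J : Matrix ι ι F) =
          (ρ : Matrix ι ι F) * ((g⁻¹ : GL ι F) : Matrix ι ι F) := by
        rw [← Units.val_mul, ← Units.val_mul, hρ, mul_inv_cancel_right]
      have e2 : (g : Matrix ι ι F) * (ρ : Matrix ι ι F) = (J : Matrix ι ι F) * (g : Matrix ι ι F) := by
        rw [← Units.val_mul, ← Units.val_mul, hρ, mul_assoc, mul_inv_cancel_left]
      rw [hZ, mul_assoc, e1, ← mul_assoc, ← mul_assoc]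
      congr 1
      conv_lhs => rw [← hσ hρR]
      conv_rhs => rw [← hσ hJR]
      rw [← Matrix.map_mul, ← Matrix.map_mul, e2]
    · obtain ⟨a, ha, haa⟩ := hs.exists_aniso_perp hfx hfx' h2 ![p, q]
        (fun i => by fin_cases i <;> assumption) (by omega)
      exact ⟨a, hin a ha.1 (ha.2 0) (ha.2 1), haa⟩
    · intro a ha haa
      obtain ⟨b, hb', hbb⟩ := hs.exists_aniso_perp' hfx hfx' h2 ![p, q, a] (fun i => by
        fin_cases i
        · exact hp
        · exact hq
        · exact ha.1) 2 haa (by omega)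
      exact ⟨b, hin b hb'.1 (hb'.2 0) (hb'.2 1), hbb, hb'.2 2⟩
    · intro a ha b hb'
      have h1 := hs.finrank_perp ![p, q, a, b] (fun i => by
        fin_cases i
        · exact hp
        · exact hq
        · exact ha.1
        · exact hb'.1)
      obtain ⟨x, hx, hx0⟩ := Submodule.exists_mem_ne_zero_of_ne_bot
        (show hs.perp ![p, q, a, b] ≠ ⊥ from fun h => by rw [h, finrank_bot] at h1; omega)
      exact ⟨x, hin x hx.1 (hx.2 0) (hx.2 1), hx0, hx.2 2, hx.2 3⟩
  by_cases hfull : ∃ v ∈ ({w, w₂} : Set (ι → F)), U e ⊔ U v = ratVecs ι F₀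
  · -- `σ(g) g⁻¹` is a scalar
    obtain ⟨v, hv', hsup⟩ := hfull
    obtain ⟨hv, hv0, hvv⟩ : v ∈ ratVecs ι F₀ ∧ v ≠ 0 ∧ f v v = 0 := by
      rcases hv' with rfl | rfl
      · exact ⟨hw.1, fun h => by rw [h, hs.sesq.zero_right] at hw₂w; exact zero_ne_one hw₂w, hww⟩
      · exact ⟨hw₂.1, fun h => by rw [h, hs.sesq.zero_left] at hw₂w; exact zero_ne_one hw₂w, hw₂w₂⟩
    obtain ⟨c, hc⟩ := hscal e he.1 he0 hee
    obtain ⟨c', hc'⟩ := hscal v hv hv0 hvv
    have hcc : c = c' := by
      have h1 := Submodule.finrank_sup_add_finrank_inf_eq (U e) (U v)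
      rw [hsup, finrank_ratVecs] at h1
      have h3 := (hUdim e).1
      have h4 := (hUdim v).1
      obtain ⟨x, hx, hx0⟩ := Submodule.exists_mem_ne_zero_of_ne_bot
        (show U e ⊓ U v ≠ ⊥ from fun h => by rw [h, finrank_bot] at h1; omega)
      exact smul_left_injective F hx0 ((hc x hx.1).symm.trans (hc' x hx.2))
    have hall : ∀ x ∈ ratVecs ι F₀, Z *ᵥ x = c • x := by
      intro x hx
      rw [← hsup] at hx
      obtain ⟨p, hp, q, hq, rfl⟩ := Submodule.mem_sup.1 hx
      rw [mulVec_add, hc p hp, hc' q hq, hcc, smul_add]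
    have hgσ : (g : Matrix ι ι F).map σ = c • (g : Matrix ι ι F) := by
      have h1 : Z = c • 1 := Matrix.ext_of_mulVec_single fun i => by
        rw [hall _ (single_mem_ratVecs F₀ i), smul_mulVec, one_mulVec]
      have h3 := congrArg (fun W => W * (g : Matrix ι ι F)) h1
      simp only [hZ, mul_assoc, Units.inv_mul, mul_one, Matrix.smul_mul, one_mul] at h3
      exact h3
    obtain ⟨i, hi⟩ := Function.ne_iff.mp (mulVec_ne_zero g he0)
    obtain ⟨j, hj⟩ : ∃ j, (g : Matrix ι ι F) i j ≠ 0 := by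
      by_contra h
      push Not at h
      exact hi (by simp [mulVec, dotProduct, h])
    refine mem_subfieldSubgroup_one_iff.2 ⟨((g : Matrix ι ι F) i j)⁻¹, inv_ne_zero hj,
      fun r s => hfx _ ?_⟩
    have h1 := congrFun (congrFun hgσ r) s
    have h3 := congrFun (congrFun hgσ i) j
    rw [Matrix.map_apply, Matrix.smul_apply, smul_eq_mul] at h1 h3
    have hc0 : c ≠ 0 := fun h => by rw [h, zero_mul, map_eq_zero] at h3; exact hj h3
    rw [Matrix.smul_apply, smul_eq_mul, map_mul, map_inv₀, h1, h3]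
    field_simp
  · -- otherwise two root elements fix rational isotropic vectors
    push Not at hfull
    have key : ∀ v ∈ ({w, w₂} : Set (ι → F)), v ∈ ratVecs ι F₀ → f v v = 0 → f e v = 0 →
        RatMat F₀ (S σ 1 f ((g : Matrix ι ι F) *ᵥ e) ((g : Matrix ι ι F) *ᵥ v) 1 :
          Matrix ι ι F) := by
      intro v hv' hv hvv hev
      have h1 := Submodule.finrank_sup_add_finrank_inf_eq (U e) (U v)
      have h3 := Submodule.finrank_lt_finrank_of_lt
        (lt_of_le_of_ne (sup_le (hUR e) (hUR v)) (hfull v hv'))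
      rw [finrank_ratVecs] at h3
      have h4 := (hUdim e).1
      have h5 := (hUdim v).1
      obtain ⟨x, hx, hx0, hxx⟩ := hs.exists_iso (U e ⊓ U v) (inf_le_left.trans (hUR e)) (by omega)
      have hsM : g * S σ 1 f e v 1 * g⁻¹ ∈ M :=
        M.mul_mem (M.mul_mem hg (hs.S_mem hb ⟨he.1, hv, hee, hvv, hev⟩ F₀.one_mem)) (M.inv_mem hg)
      rw [hs.conj_S hI hvv hee hev] at hsM
      have hfix : (S σ 1 f ((g : Matrix ι ι F) *ᵥ e) ((g : Matrix ι ι F) *ᵥ v) 1 :
          Matrix ι ι F) *ᵥ x = x := by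
        rw [hs.S_mulVec (by rw [hI, hvv]) (by rw [hI, hee]) (by rw [hI, hev]), hx.1.2, hx.2.2]
        simp
      exact hs.ratMat_of_fix hfx' h2 (hs.orth_mem_of_line hfx hfx' h2 hb hR hsM hx.1.1 hx0 hxx hx.1.1
        (a := 1) (by rw [hfix, one_smul])) hx.1.1 hx0 hfix
    have hew : f e w = 0 := hs.orth_symm (hw.2 0)
    have hew₂ : f e w₂ = 0 := hs.orth_symm (hw₂.2 0)
    have h1 := key w (by simp) hw.1 hww hew
    have h3 := key w₂ (by simp) hw₂.1 hw₂w₂ hew₂
    obtain ⟨x', hx', hx'e⟩ : ∃ x' ∈ ratVecs ι F₀, f x' ((g : Matrix ι ι F) *ᵥ e) ≠ 0 := by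
      by_contra h
      push Not at h
      exact mulVec_ne_zero g he0 (hs.eq_zero_of_orth_rat h)
    have h4 := mulVec_mem_ratVecs h1.sub_one (mulVec_mem_ratVecs h3.sub_one hx')
    rw [sub_mulVec, sub_mulVec, one_mulVec, one_mulVec,
      hs.S_mulVec (by rw [hI, hww]) (by rw [hI, hee]) (by rw [hI, hew]),
      hs.S_mulVec (by rw [hI, hw₂w₂]) (by rw [hI, hee]) (by rw [hI, hew₂])] at h4
    have hI' : ∀ u v, f ((g : Matrix ι ι F) *ᵥ u) ((g : Matrix ι ι F) *ᵥ v) = f u v := hI
    simp only [hs.sesq.add_left, hs.sesq.sub_left, hs.sesq.smul_left, hI', hee, hew, hew₂,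
      hs.orth_symm hew₂, map_one, one_mul, mul_one] at h4
    set k := -(f x' ((g : Matrix ι ι F) *ᵥ e) * f w₂ w) with hk
    have hk0 : k ≠ 0 := neg_ne_zero.2 (mul_ne_zero hx'e (by rw [hw₂w]; exact one_ne_zero))
    have h5 : k • ((g : Matrix ι ι F) *ᵥ e) ∈ ratVecs ι F₀ := by
      convert h4 using 1
      rw [hk]; module
    exact hs.orth_mem_of_line hfx hfx' h2 hb hR hg he.1 he0 hee h5 (a := k⁻¹)
      (by rw [inv_smul_smul₀ hk0])

end Setting

end CfsgLib.FormSubfield
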