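import Cfsg.Agent.FormSubfield.Ring

/-!
# Rigidity

When every coefficient is rational: an element of `M` mapping a rational isotropic line to a
rational one lies in the subfield group; so does an element mapping a rational isotropic vector to
a vector orthogonal to another one; so do the elements leaving suitable rational subspaces
invariant.
-/

set_option autoImplicit false
set_option linter.unusedSectionVars false

namespace CfsgLib.FormSubfield

open Matrix Cfsg.Geo CfsgLib.MaxSub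

variable {ι : Type} [Fintype ι] [DecidableEq ι] {F : Type*} [Field F] [Finite F]
variable {F₀ : Subfield F} {σ : F ≃+* F} {ε c₀ : F} {f : (ι → F) → (ι → F) → F}
variable {M : Subgroup (GL ι F)}

namespace Setting

variable (hs : Setting F₀ σ ε c₀ f) (hb : Between F₀ f M)
variable (hA : ∀ a ∈ coeffs F₀ σ ε f M, a ∈ F₀) (hc₀ : c₀ ∈ F₀)

include hs hb hA hc₀

theorem coeff_rat {e w : ι → F} (h : IsPair F₀ f e w) (he0 : e ≠ 0) (hne : ∀ c : F, c • e ≠ w)
    {a d : F} (hy : S σ ε f e w a * T f e d ∈ M) : a ∈ F₀ := by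
  obtain ⟨q, hq, hqe, hqw⟩ := hs.exists_sep h.1 he0 h.2.2.1 hne
  exact hA a (hs.mem_coeffs_of_mem hb hc₀ h hq hqe hqw he0 hy)

/-- Transvections at rational centres have rational coefficient. -/
theorem T_coeff_rat {e : ι → F} (he : e ∈ ratVecs ι F₀) (he0 : e ≠ 0) (hee : f e e = 0) {c : F}
    (hc : c + ε * σ c = 0) (hT : T f e c ∈ M) : c ∈ F₀ := by
  have hd := hb.dim
  obtain ⟨e', he', he'e', he'e⟩ := hs.exists_partner he he0 hee
  have hs2 : ∀ i, ![e, e'] i ∈ ratVecs ι F₀ := by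
    intro i; fin_cases i <;> assumption
  obtain ⟨u, hu, u', hu', huu, -, hu'u⟩ := hs.exists_pair₂ hc₀ _ hs2 (by omega)
  have hue : f u e = 0 := hu.2 0
  have hue' : f u e' = 0 := hu.2 1
  have heu := hs.orth_symm hue
  have hee' : f e e' = ε := by rw [hs.herm, he'e, map_one, mul_one]
  set h := S σ ε f u e' ε with hh
  have hhM : h ∈ M := hs.S_mem hb ⟨hu.1, he', huu, he'e', hue'⟩ hs.eps_mem
  have hhe : (h : Matrix ι ι F) *ᵥ e = e + u := by
    rw [hh, hs.S_mulVec he'e' huu hue', hee', heu, hs.eps]; simp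
  have h1 : T f (e + u) c ∈ M := by
    rw [← hhe, ← hs.conj_T (hb.iso h hhM) hee]
    exact M.mul_mem (M.mul_mem hhM hT) (M.inv_mem hhM)
  rw [hs.T_add_vec huu hee heu hc, mul_assoc] at h1
  have h2 := M.mul_mem (M.inv_mem hT) h1
  rw [inv_mul_cancel_left] at h2
  have hne : ∀ k : F, k • u ≠ e := fun k hk => by
    rw [← hk, hs.sesq.smul_left] at hee'
    rw [hue', mul_zero] at hee'
    exact hs.eps_ne hee'.symm
  have hsc : -(ε * σ c) = c := by linear_combination -hc
  have hu0 : u ≠ 0 := fun h => by rw [h, hs.sesq.zero_right] at hu'u; exact zero_ne_one hu'u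
  refine hs.coeff_rat hb hA hc₀ ⟨hu.1, he, huu, hee, hue⟩ hu0 hne (d := c) ?_
  have hcomm : T f u c * S σ ε f e u c = S σ ε f e u c * T f u c := by
    have h3 := hs.conj_T (hs.S_iso huu hee heu c) huu c
    have h4 : (S σ ε f e u c : Matrix ι ι F) *ᵥ u = u := by
      rw [hs.S_mulVec huu hee heu, hue, huu]; simp
    rw [h4, mul_inv_eq_iff_eq_mul] at h3
    exact h3.symm
  rw [hs.S_swap huu hee heu, hsc, ← hcomm]
  exact h2

/-- An element of the unipotent radical at `e` has rational translation part. -/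
theorem radical_rat {e : ι → F} (he : e ∈ ratVecs ι F₀) (he0 : e ≠ 0) (hee : f e e = 0) {y : GL ι F}
    (hy : y ∈ M) {v : ι → F} (hve : f v e = 0) {d : F}
    (hyx : ∀ x, (y : Matrix ι ι F) *ᵥ x =
      x + (f x v) • e - (ε * f x e) • v + (d * f x e) • e)
    {u : ι → F} (hu : u ∈ ratVecs ι F₀) (hue : f u e = 0) : f v u ∈ F₀ := by
  have hd := hb.dim
  suffices hiso : ∀ u ∈ hs.perp ![e], f u u = 0 → f v u ∈ F₀ by
    obtain ⟨z, hz, p, hp, hzz, -, hpz⟩ := hs.exists_pair₂ hc₀ ![e]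
      (fun i => by fin_cases i; exact he) (by omega)
    have hu' := hs.span_iso (U := hs.perp ![e]) (fun x hx => hx.1) hz hp hzz
      (by rw [hpz]; exact one_ne_zero) (show u ∈ hs.perp ![e] from
        ⟨hu, fun i => by fin_cases i; exact hue⟩)
    clear hu hue
    induction hu' using Submodule.span_induction with
    | mem x hx => exact hiso x hx.1 hx.2
    | zero => rw [hs.sesq.zero_right]; exact F₀.zero_mem
    | add x y _ _ hx hy => rw [hs.sesq.add_right]; exact F₀.add_mem hx hy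
    | smul k x _ hx =>
      show f v ((k : F) • x) ∈ F₀
      rw [hs.sesq.smul_right]
      exact F₀.mul_mem (hs.sigma_mem _ k.2) hx
  intro u hu huu
  have huR := hu.1
  have hue : f u e = 0 := hu.2 0
  by_cases hdep : ∃ c : F, c • e = u
  · obtain ⟨c, rfl⟩ := hdep
    rw [hs.sesq.smul_right, hve, mul_zero]
    exact F₀.zero_mem
  push Not at hdep
  have heu := hs.orth_symm hue
  have hev := hs.orth_symm hve
  set h := T f u c₀ with hh
  have hhM : h ∈ M := hs.T_mem hb huR huu hc₀ hs.c₀_trace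
  set κ := c₀ * f v u with hκ
  set d' := ε * κ * f u v with hd'
  have hI := hb.iso h hhM
  have hhe : (h : Matrix ι ι F) *ᵥ e = e := by rw [hh, hs.T_mulVec huu, heu]; simp
  have hhv : (h : Matrix ι ι F) *ᵥ v = v + κ • u := by rw [hh, hs.T_mulVec huu]
  have key : h * y * h⁻¹ = y * (S σ ε f e u (σ κ) * T f e d') := by
    refine ext_mulVec fun x => ?_
    set x' := ((h⁻¹ : GL ι F) : Matrix ι ι F) *ᵥ x with hx'
    have ex : (h : Matrix ι ι F) *ᵥ x' = x := mulVec_inv_mulVec h x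
    have e1 : f x' e = f x e := by
      have := hI x' e; rw [ex, hhe] at this; exact this.symm
    have e2 : f x' v = f x v + σ κ * f x u := by
      have := hI x' v; rw [ex, hhv, hs.sesq.add_right, hs.sesq.smul_right] at this; exact this.symm
    have hl : ((h * y * h⁻¹ : GL ι F) : Matrix ι ι F) *ᵥ x =
        x + (f x v + σ κ * f x u) • e - (ε * f x e) • (v + κ • u) + (d * f x e) • e := by
      rw [Units.val_mul, Units.val_mul, ← mulVec_mulVec, ← mulVec_mulVec, ← hx', hyx, mulVec_add,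
        mulVec_sub, mulVec_add, mulVec_smul, mulVec_smul, mulVec_smul, ex, hhe, hhv, e1, e2]
    rw [hl, Units.val_mul, Units.val_mul, ← mulVec_mulVec, ← mulVec_mulVec, hs.T_mulVec hee,
      hs.S_mulVec huu hee heu, hyx, hs.sigma_sigma, hd']
    simp only [hs.sesq.add_left, hs.sesq.sub_left, hs.sesq.smul_left, hee, hue, heu, hev]
    module
  have hmem : S σ ε f e u (σ κ) * T f e d' ∈ M := by
    have := M.mul_mem (M.inv_mem hy) (M.mul_mem (M.mul_mem hhM hy) (M.inv_mem hhM))
    rwa [key, inv_mul_cancel_left] at this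
  have h1 := hs.coeff_rat hb hA hc₀ ⟨he, huR, hee, huu, heu⟩ he0 hdep hmem
  have h2 := hs.sigma_mem _ h1
  rw [hs.sigma_sigma, hκ] at h2
  have := F₀.mul_mem (F₀.inv_mem hc₀) h2
  rwa [inv_mul_cancel_left₀ hs.c₀_ne] at this

/-- The image of a perpendicular rational isotropic vector is rational up to a scalar. -/
theorem image_perp {g : GL ι F} (hg : g ∈ M) {e e' : ι → F} (he : e ∈ ratVecs ι F₀) (he0 : e ≠ 0)
    (hee : f e e = 0) (he' : e' ∈ ratVecs ι F₀) {a : F}
    (hge : (g : Matrix ι ι F) *ᵥ e = a • e') {w : ι → F} (hw : w ∈ ratVecs ι F₀) (hww : f w w = 0)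
    (hwe : f w e = 0) : σ a • ((g : Matrix ι ι F) *ᵥ w) ∈ ratVecs ι F₀ := by
  have hd := hb.dim
  have hI := hb.iso g hg
  have ha0 : a ≠ 0 := fun h => mulVec_ne_zero g he0 (by rw [hge, h, zero_smul])
  have he'0 : e' ≠ 0 := fun h => mulVec_ne_zero g he0 (by rw [hge, h, smul_zero])
  have hsa : σ a ≠ 0 := by simpa using ha0
  have he'e' : f e' e' = 0 := by
    have h1 := hI e e
    rw [hge, hs.sesq.smul_left, hs.sesq.smul_right, hee] at h1
    simpa [ha0] using h1
  -- the norm of `a`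
  have hN : a * σ a ∈ F₀ := by
    have hT : T f e' (c₀ * (a * σ a)) ∈ M := by
      rw [← hs.T_smul he'e', ← hge, ← hs.conj_T hI hee]
      exact M.mul_mem (M.mul_mem hg (hs.T_mem hb he hee hc₀ hs.c₀_trace)) (M.inv_mem hg)
    have := hs.T_coeff_rat hb hA hc₀ he' he'0 he'e' (by
      rw [map_mul, map_mul, hs.sigma_sigma]
      linear_combination (a * σ a) * hs.c₀_trace) hT
    have h2 := F₀.mul_mem (F₀.inv_mem hc₀) this
    rwa [inv_mul_cancel_left₀ hs.c₀_ne] at h2
  set y := (g : Matrix ι ι F) *ᵥ w with hy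
  have hyy : f y y = 0 := by rw [hy, hI, hww]
  have hye' : f y e' = 0 := by
    have h1 := hI w e
    rw [hwe, hge, hs.sesq.smul_right] at h1
    exact (mul_eq_zero.mp h1).resolve_left hsa
  -- pairing with `e'⊥`
  have hpair : ∀ u ∈ ratVecs ι F₀, f u e' = 0 → σ a * f y u ∈ F₀ := by
    intro u hu hue'
    have hS : S σ ε f (a • e') y 1 ∈ M := by
      rw [← hge, hy, ← hs.conj_S hI hww hee (hs.orth_symm hwe)]
      exact M.mul_mem (M.mul_mem hg (hs.S_mem hb ⟨he, hw, hee, hww, hs.orth_symm hwe⟩ F₀.one_mem))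
        (M.inv_mem hg)
    have := hs.radical_rat hb hA hc₀ he' he'0 he'e' hS (v := σ a • y) (d := 0)
      (by rw [hs.sesq.smul_left, hye', mul_zero]) (fun x => by
        rw [hs.S_mulVec hyy (by rw [hs.sesq.smul_left, hs.sesq.smul_right, he'e']; ring)
          (by rw [hs.sesq.smul_left, hs.orth_symm hye', mul_zero]), hs.sesq.smul_right,
          hs.sesq.smul_right, hs.sigma_sigma, map_one]
        module) hu hue'
    rwa [hs.sesq.smul_left] at this
  -- a rational vector with the same pairings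
  obtain ⟨e'', he'', -, he''e'⟩ := hs.exists_partner he' he'0 he'e'
  let δ : ι → ι → F := fun i => (Pi.single i 1 : ι → F) - f (Pi.single i 1) e' • e''
  have hδR : ∀ i, δ i ∈ ratVecs ι F₀ := fun i => Submodule.sub_mem _ (single_mem_ratVecs F₀ i)
    (smul_mem_ratVecs (hs.rat _ (single_mem_ratVecs F₀ i) e' he') he'')
  have hδe : ∀ i, f (δ i) e' = 0 := fun i => by
    simp only [δ, hs.sesq.sub_left, hs.sesq.smul_left, he''e', mul_one, sub_self]
  haveI : Module.Finite F₀ (ratVecs ι F₀) := Module.Finite.of_finite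
  let L : ratVecs ι F₀ →ₗ[F₀] (ι → F₀) :=
    { toFun := fun x i => ⟨f x.1 (Pi.single i 1), hs.rat _ x.2 _ (single_mem_ratVecs F₀ i)⟩
      map_add' := fun x y => funext fun i => Subtype.ext (hs.sesq.add_left _ _ _)
      map_smul' := fun c x => funext fun i => Subtype.ext (hs.sesq.smul_left _ _ _) }
  have hLinj : Function.Injective L := by
    rw [injective_iff_map_eq_zero]
    intro x hx
    refine Subtype.ext ?_
    by_contra hx0
    refine hs.sesq.leftVec_ne_zero hx0 (funext fun i => ?_)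
    exact hs.orth_symm (congrArg Subtype.val (congrFun hx i))
  obtain ⟨⟨w', hw'⟩, hw'eq⟩ := (LinearMap.injective_iff_surjective_of_finrank_eq_finrank
    (by rw [finrank_ratVecs, Module.finrank_fintype_fun_eq_card])).mp hLinj
    (fun i => ⟨σ a * f y (δ i), hpair _ (hδR i) (hδe i)⟩)
  have hw'f : ∀ i, f w' (Pi.single i 1) = σ a * f y (δ i) := fun i =>
    congrArg Subtype.val (congrFun hw'eq i)
  set D := σ a • y - w' with hD
  have hDδ : ∀ i, f D (Pi.single i 1) = σ (f (Pi.single i 1) e') * (σ a * f y e'') := fun i => by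
    rw [hD, hs.sesq.sub_left, hs.sesq.smul_left, hw'f]
    simp only [δ, hs.sesq.sub_right, hs.sesq.smul_right]
    ring
  set lam := ε * σ a * f y e'' with hlam
  have hDe : D = lam • e' := by
    refine hs.sesq.ext_right fun x => ?_
    rw [hs.sesq.smul_right, ← hs.sesq.dot_leftVec, ← hs.sesq.dot_leftVec e', dotProduct,
      dotProduct, Finset.mul_sum]
    refine Finset.sum_congr rfl fun i _ => ?_
    show f (Pi.single i 1) D * x i = σ lam * (f (Pi.single i 1) e' * x i)
    rw [hs.herm D, hDδ, hlam]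
    simp only [map_mul, hs.sigma_sigma, hs.sigma_eps]
    ring
  have hyw : σ a • y = w' + lam • e' := by rw [← hDe, hD]; module
  clear_value lam
  have hw'e' : f w' e' = 0 := by
    have h1 : f (σ a • y) e' = 0 := by rw [hs.sesq.smul_left, hye', mul_zero]
    rw [hyw, hs.sesq.add_left, hs.sesq.smul_left, he'e', mul_zero, add_zero] at h1
    exact h1
  have he'w' := hs.orth_symm hw'e'
  have hw'w' : f w' w' = 0 := by
    have h1 : f (σ a • y) (σ a • y) = 0 := by
      rw [hs.sesq.smul_left, hs.sesq.smul_right, hyy]; ring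
    rw [hyw] at h1
    simpa [hs.sesq.add_left, hs.sesq.add_right, hs.sesq.smul_left, hs.sesq.smul_right, he'e',
      hw'e', he'w'] using h1
  by_cases hdep : ∃ k : F, k • e' = w'
  · obtain ⟨k, hk⟩ := hdep
    have e1 : σ a • y = (k + lam) • e' := by rw [hyw, ← hk, add_smul]
    have hinj : w = ((k + lam) * ((σ a)⁻¹ * a⁻¹)) • e := by
      have h2 : y = ((k + lam) * ((σ a)⁻¹ * a⁻¹)) • (a • e') := by
        rw [smul_smul, show (k + lam) * ((σ a)⁻¹ * a⁻¹) * a = (σ a)⁻¹ * (k + lam) by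
          field_simp, ← smul_smul, ← e1, inv_smul_smul₀ hsa]
      rw [← hge, hy, ← mulVec_smul] at h2
      have h3 := congrArg (fun z => ((g⁻¹ : GL ι F) : Matrix ι ι F) *ᵥ z) h2
      simpa [mulVec_mulVec] using h3
    obtain ⟨i, hi⟩ := Function.ne_iff.mp he0
    set m := (k + lam) * ((σ a)⁻¹ * a⁻¹) with hm
    have hmF : m ∈ F₀ := by
      have := F₀.div_mem (hw i) (he i)
      rwa [hinj, Pi.smul_apply, smul_eq_mul, mul_div_assoc, div_self hi, mul_one] at this
    rw [hy, hinj, mulVec_smul, hge, smul_smul, smul_smul]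
    exact smul_mem_ratVecs (by
      rw [show σ a * m * a = m * (a * σ a) by ring]; exact F₀.mul_mem hmF hN) he'
  push Not at hdep
  obtain ⟨c, hc⟩ : ∃ c, c = c₀ * (a * σ a)⁻¹ := ⟨_, rfl⟩
  have hNi : (a * σ a)⁻¹ ∈ F₀ := F₀.inv_mem hN
  have hcF : c ∈ F₀ := hc ▸ F₀.mul_mem hc₀ hNi
  have hct : c + ε * σ c = 0 := by
    have e : σ ((a * σ a)⁻¹) = (a * σ a)⁻¹ := by
      rw [map_inv₀, map_mul, hs.sigma_sigma, mul_comm]
    rw [hc, map_mul, e]
    linear_combination (a * σ a)⁻¹ * hs.c₀_trace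
  have hct' : c * (lam * σ lam) + ε * σ (c * (lam * σ lam)) = 0 := by
    rw [map_mul, map_mul, hs.sigma_sigma]
    linear_combination (lam * σ lam) * hct
  have hle : f (lam • e') (lam • e') = 0 := by
    rw [hs.sesq.smul_left, hs.sesq.smul_right, he'e']; ring
  have hlw : f (lam • e') w' = 0 := by rw [hs.sesq.smul_left, he'w', mul_zero]
  have hX : T f (lam • e' + w') c ∈ M := by
    rw [add_comm, ← hyw, hs.T_smul hyy, hs.sigma_sigma, hc]
    rw [show c₀ * (a * σ a)⁻¹ * (σ a * a) = c₀ by field_simp]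
    rw [hy, ← hs.conj_T hI hww]
    exact M.mul_mem (M.mul_mem hg (hs.T_mem hb hw hww hc₀ hs.c₀_trace)) (M.inv_mem hg)
  rw [hs.T_add_vec hw'w' hle hlw hct, hs.T_smul he'e', hs.S_smul_left hw'w' he'e' he'w'] at hX
  set d := c * (lam * σ lam) with hd'
  have hTw := hs.T_mem hb hw' hw'w' hcF hct
  have hc1 : T f e' d * T f w' c = T f w' c * T f e' d := by
    have h3 := hs.conj_T (hs.T_iso hw'w' hct) he'e' d
    rw [hs.T_mulVec hw'w', he'w'] at h3
    simp only [mul_zero, zero_smul, add_zero] at h3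
    rw [mul_inv_eq_iff_eq_mul] at h3
    exact h3.symm
  have hc2 : T f e' d * S σ ε f e' w' (c * lam) = S σ ε f e' w' (c * lam) * T f e' d := by
    have h3 := hs.conj_T (hs.S_iso hw'w' he'e' he'w' (c * lam)) he'e' d
    rw [hs.S_mulVec hw'w' he'e' he'w', he'w', he'e'] at h3
    simp only [mul_zero, zero_smul, add_zero, sub_zero] at h3
    rw [mul_inv_eq_iff_eq_mul] at h3
    exact h3.symm
  have hz : S σ ε f e' w' (c * lam) * T f e' d ∈ M := by
    rw [← hc2]
    have h4 := M.mul_mem (M.inv_mem hTw) hX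
    rwa [hc1, mul_assoc, inv_mul_cancel_left] at h4
  have h5 := hs.coeff_rat hb hA hc₀ ⟨he', hw', he'e', hw'w', he'w'⟩ he'0 hdep hz
  have hlamF : lam ∈ F₀ := by
    have hc0 : c ≠ 0 := hc ▸ mul_ne_zero hs.c₀_ne (inv_ne_zero (mul_ne_zero ha0 hsa))
    have := F₀.mul_mem (F₀.inv_mem hcF) h5
    rwa [inv_mul_cancel_left₀ hc0] at this
  rw [← hy] at *
  rw [hyw]
  exact Submodule.add_mem _ hw' (smul_mem_ratVecs hlamF he')

/-- An element mapping a rational isotropic line to a rational line lies in the subfield group. -/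
theorem mem_of_line {g : GL ι F} (hg : g ∈ M) {e e' : ι → F} (he : e ∈ ratVecs ι F₀) (he0 : e ≠ 0)
    (hee : f e e = 0) (he' : e' ∈ ratVecs ι F₀) {a : F}
    (hge : (g : Matrix ι ι F) *ᵥ e = a • e') : g ∈ subfieldSubgroup F₀ (1 : GL ι F) := by
  have hd := hb.dim
  have ha0 : a ≠ 0 := fun h => mulVec_ne_zero g he0 (by rw [hge, h, zero_smul])
  have he'0 : e' ≠ 0 := fun h => mulVec_ne_zero g he0 (by rw [hge, h, smul_zero])
  have hsa : σ a ≠ 0 := by simpa using ha0
  have he'e' : f e' e' = 0 := by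
    have h1 := hb.iso g hg e e
    rw [hge, hs.sesq.smul_left, hs.sesq.smul_right, hee] at h1
    simpa [ha0] using h1
  have hN : a * σ a ∈ F₀ := by
    have hT : T f e' (c₀ * (a * σ a)) ∈ M := by
      rw [← hs.T_smul he'e', ← hge, ← hs.conj_T (hb.iso g hg) hee]
      exact M.mul_mem (M.mul_mem hg (hs.T_mem hb he hee hc₀ hs.c₀_trace)) (M.inv_mem hg)
    have := hs.T_coeff_rat hb hA hc₀ he' he'0 he'e' (by
      rw [map_mul, map_mul, hs.sigma_sigma]
      linear_combination (a * σ a) * hs.c₀_trace) hT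
    have h2 := F₀.mul_mem (F₀.inv_mem hc₀) this
    rwa [inv_mul_cancel_left₀ hs.c₀_ne] at h2
  refine mem_subfieldSubgroup_one_iff.2 ⟨σ a, hsa, ratMat_of_mulVec fun v hv => ?_⟩
  rw [smul_mulVec]
  have hsev : ∀ i, ![e, v] i ∈ ratVecs ι F₀ := by
    intro i; fin_cases i <;> assumption
  obtain ⟨z, hz, z', hz', hzz, -, hz'z⟩ := hs.exists_pair₂ hc₀ _ hsev (by omega)
  have hze : f z e = 0 := hz.2 0
  have hzv : f z v = 0 := hz.2 1
  have hz0 : z ≠ 0 := fun h => by
    rw [h, hs.sesq.zero_right] at hz'z; exact zero_ne_one hz'z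
  have hgz := hs.image_perp hb hA hc₀ hg he he0 hee he' hge hz.1 hzz hze
  have hgz' : (g : Matrix ι ι F) *ᵥ z = (σ a)⁻¹ • (σ a • ((g : Matrix ι ι F) *ᵥ z)) := by
    rw [inv_smul_smul₀ hsa]
  have hzs : ∀ i, ![z] i ∈ ratVecs ι F₀ := fun i => by fin_cases i; exact hz.1
  obtain ⟨x, hx, x', hx', hxx, -, hx'x⟩ := hs.exists_pair₂ hc₀ _ hzs (by omega)
  have hvU : v ∈ hs.perp ![z] := ⟨hv, fun i => by fin_cases i; exact hs.orth_symm hzv⟩
  have hspan := hs.span_iso (U := hs.perp ![z]) (fun y hy => hy.1) hx hx' hxx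
    (by rw [hx'x]; exact one_ne_zero) hvU
  have hzR := hz.1
  clear hv hvU hzv hsev hz hz'
  induction hspan using Submodule.span_induction with
  | mem u hu =>
    have h1 := hs.image_perp hb hA hc₀ hg hzR hz0 hzz hgz hgz' hu.1.1 hu.2 (hu.1.2 0)
    have h2 := smul_mem_ratVecs hN h1
    rw [smul_smul] at h2
    convert h2 using 2
    rw [map_inv₀, hs.sigma_sigma]
    field_simp
  | zero => rw [mulVec_zero, smul_zero]; exact Submodule.zero_mem _
  | add p q _ _ hp hq => rw [mulVec_add, smul_add]; exact Submodule.add_mem _ hp hq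
  | smul k p _ hp =>
    show σ a • ((g : Matrix ι ι F) *ᵥ ((k : F) • p)) ∈ _
    rw [mulVec_smul, smul_comm]
    exact smul_mem_ratVecs k.2 hp

/-- An element mapping a rational isotropic vector orthogonal to another one is rational. -/
theorem mem_of_orth {g : GL ι F} (hg : g ∈ M) {e e' : ι → F} (he : e ∈ ratVecs ι F₀) (he0 : e ≠ 0)
    (hee : f e e = 0) (he' : e' ∈ ratVecs ι F₀) (he'0 : e' ≠ 0) (he'e' : f e' e' = 0)
    (horth : f e' ((g : Matrix ι ι F) *ᵥ e) = 0) : g ∈ subfieldSubgroup F₀ (1 : GL ι F) := by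
  have hI := hb.iso g hg
  set y := (g : Matrix ι ι F) *ᵥ e with hy
  have hyy : f y y = 0 := by rw [hy, hI, hee]
  have hy0 : y ≠ 0 := mulVec_ne_zero g he0
  have ht : T f y c₀ ∈ M := by
    rw [hy, ← hs.conj_T hI hee]
    exact M.mul_mem (M.mul_mem hg (hs.T_mem hb he hee hc₀ hs.c₀_trace)) (M.inv_mem hg)
  have hte : (T f y c₀ : Matrix ι ι F) *ᵥ e' = (1 : F) • e' := by
    rw [hs.T_mulVec hyy, horth]; simp
  obtain ⟨k, hk, hkt⟩ := mem_subfieldSubgroup_one_iff.1 (hs.mem_of_line hb hA hc₀ ht he' he'0 he'e' he' hte)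
  have hkF : k ∈ F₀ := by
    obtain ⟨i, hi⟩ := Function.ne_iff.mp he'0
    have h1 := mulVec_mem_ratVecs hkt he'
    rw [smul_mulVec, hte, one_smul] at h1
    have h2 := F₀.div_mem (h1 i) (he' i)
    rwa [Pi.smul_apply, smul_eq_mul, mul_div_assoc, div_self hi, mul_one] at h2
  obtain ⟨x, hx, hxy⟩ : ∃ x ∈ ratVecs ι F₀, f x y ≠ 0 := by
    by_contra h
    push Not at h
    exact hy0 (hs.eq_zero_of_orth_rat h)
  have hr : (c₀ * f x y) • y ∈ ratVecs ι F₀ := by
    have h1 := smul_mem_ratVecs (F₀.inv_mem hkF) (mulVec_mem_ratVecs hkt hx)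
    rw [smul_mulVec, inv_smul_smul₀ hk, hs.T_mulVec hyy] at h1
    simpa using Submodule.sub_mem _ h1 hx
  refine hs.mem_of_line hb hA hc₀ hg he he0 hee hr (a := (c₀ * f x y)⁻¹) ?_
  rw [inv_smul_smul₀ (mul_ne_zero hs.c₀_ne hxy)]

/-- Elements leaving a rational subspace invariant. -/
theorem mem_of_stab {g : GL ι F} (hg : g ∈ M) {A : Matrix ι ι F} (hA' : RatMat F₀ A)
    (hst : ∀ v, A *ᵥ v = 0 → A *ᵥ ((g : Matrix ι ι F) *ᵥ v) = 0)
    (hdim : (2 ≤ Module.finrank F (LinearMap.ker (toLin' A)) ∧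
        Module.finrank F (LinearMap.ker (toLin' A)) + 2 ≤ Fintype.card ι) ∨
      ∃ x ∈ ratVecs ι F₀, x ≠ 0 ∧ A *ᵥ x = 0 ∧ ∀ v, A *ᵥ v = 0 → f v x = 0) :
    g ∈ subfieldSubgroup F₀ (1 : GL ι F) := by
  rcases hdim with ⟨h2, hn2⟩ | ⟨x, hx, hx0, hAx, hperp⟩
  swap
  · exact hs.mem_of_orth hb hA hc₀ hg hx hx0 (hperp x hAx) hx hx0 (hperp x hAx)
      (hs.orth_symm (hperp _ (hst x hAx)))
  have hne : LinearMap.ker (toLin' A) ≠ ⊥ := fun h => by rw [h, finrank_bot] at h2; omega
  obtain ⟨v, hv, hv0⟩ := Submodule.exists_mem_ne_zero_of_ne_bot hne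
  obtain ⟨S, h, hh, -, hS⟩ := exists_ratSL_coord hA' ⟨v, hv0, by simpa using LinearMap.mem_ker.1 hv⟩
  haveI : Module.Finite F₀ (ι → F) := Module.Finite.of_finite
  let col : S → ι → F := fun i => (h : Matrix ι ι F) *ᵥ Pi.single (i : ι) 1
  have hcolR : ∀ i, col i ∈ ratVecs ι F₀ := fun i =>
    mulVec_mem_ratVecs hh.1 (single_mem_ratVecs F₀ _)
  have hcolA : ∀ i : S, A *ᵥ col i = 0 := fun i => (hS _).2 fun k hk =>
    Pi.single_eq_of_ne (fun e : k = (i : ι) => hk (e ▸ i.2)) _
  -- the dimension of the kernel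
  have hcardS : Module.finrank F (LinearMap.ker (toLin' A)) = S.card := by
    let e : (ι → F) ≃ₗ[F] (ι → F) :=
      { toLin' (h : Matrix ι ι F) with
        invFun := fun x => ((h⁻¹ : GL ι F) : Matrix ι ι F) *ᵥ x
        left_inv := fun x => by simp [mulVec_mulVec]
        right_inv := fun x => by simp [mulVec_mulVec] }
    have : LinearMap.ker (toLin' A) = (coordSub S).map (e : (ι → F) →ₗ[F] (ι → F)) := by
      ext x
      rw [Submodule.mem_map_equiv, ← hS, LinearMap.mem_ker, toLin'_apply]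
      show _ ↔ A *ᵥ ((h : Matrix ι ι F) *ᵥ (((h⁻¹ : GL ι F) : Matrix ι ι F) *ᵥ x)) = 0
      rw [mulVec_inv_mulVec]
    rw [this, LinearEquiv.finrank_map_eq, finrank_coordSub]
  -- a rational isotropic vector inside
  let W₀ : Submodule F₀ (ι → F) := Submodule.span F₀ (Set.range col)
  have hW₀R : W₀ ≤ ratVecs ι F₀ := Submodule.span_le.mpr (by rintro _ ⟨i, rfl⟩; exact hcolR i)
  have hli : LinearIndependent F₀ col := by
    rw [Fintype.linearIndependent_iff]
    intro c hc i
    have h1 : (h : Matrix ι ι F) *ᵥ (fun k => if hk : k ∈ S then (c ⟨k, hk⟩ : F) else 0) = 0 := by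
      rw [← hc]
      funext j
      simp only [col, mulVec, dotProduct, Finset.sum_apply, Pi.smul_apply]
      rw [← Finset.sum_subset (Finset.subset_univ S) (fun k _ hk => by rw [dif_neg hk, mul_zero]),
        ← Finset.sum_attach]
      refine Finset.sum_congr rfl fun k _ => ?_
      rw [dif_pos k.2, Finset.sum_eq_single (k : ι) (fun m _ hm => by
        rw [Pi.single_eq_of_ne hm, mul_zero]) (by simp), Pi.single_eq_same, mul_one]
      exact mul_comm _ _
    have h2 := congrArg (fun z => ((h⁻¹ : GL ι F) : Matrix ι ι F) *ᵥ z) h1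
    simp only [mulVec_mulVec, Units.inv_mul, one_mulVec, mulVec_zero] at h2
    have h3 := congrFun h2 i
    rw [dif_pos i.2] at h3
    exact Subtype.ext h3
  have hW₀2 : 2 ≤ Module.finrank F₀ W₀ := by
    rw [finrank_span_eq_card hli, Fintype.card_coe]; omega
  obtain ⟨e, heW, he0, hee⟩ := hs.exists_iso₂ hc₀ W₀ hW₀R hW₀2
  have hAe : A *ᵥ e = 0 := by
    clear he0 hee
    induction heW using Submodule.span_induction with
    | mem x hx => obtain ⟨i, rfl⟩ := hx; exact hcolA i
    | zero => exact mulVec_zero A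
    | add x y _ _ hx hy => rw [mulVec_add, hx, hy, add_zero]
    | smul k x _ hx => show A *ᵥ ((k : F) • x) = 0; rw [mulVec_smul, hx, smul_zero]
  -- a rational isotropic vector orthogonal to the subspace
  let eS := S.equivFin
  have hP := hs.finrank_perp (fun i => col (eS.symm i)) fun i => hcolR _
  obtain ⟨e', he', he'0, he'e'⟩ := hs.exists_iso₂ hc₀ (hs.perp fun i => col (eS.symm i))
    (fun x hx => hx.1) (by omega)
  refine hs.mem_of_orth hb hA hc₀ hg (hW₀R heW) he0 hee he'.1 he'0 he'e' ?_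
  set z := ((h⁻¹ : GL ι F) : Matrix ι ι F) *ᵥ ((g : Matrix ι ι F) *ᵥ e)
  have hz : z ∈ coordSub S := (hS z).1 (by rw [mulVec_inv_mulVec]; exact hst e hAe)
  have hge : (g : Matrix ι ι F) *ᵥ e = ∑ i : S, z i • col i := by
    rw [← mulVec_inv_mulVec h ((g : Matrix ι ι F) *ᵥ e)]
    show (h : Matrix ι ι F) *ᵥ z = _
    funext j
    simp only [col, mulVec, dotProduct, Finset.sum_apply, Pi.smul_apply, smul_eq_mul]
    rw [← Finset.sum_subset (Finset.subset_univ S) (fun k _ hk => by rw [hz k hk, mul_zero]),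
      ← Finset.sum_attach]
    refine Finset.sum_congr rfl fun k _ => ?_
    rw [Finset.sum_eq_single (k : ι) (fun m _ hm => by
      rw [Pi.single_eq_of_ne hm, mul_zero]) (by simp), Pi.single_eq_same, mul_one, mul_comm]
  rw [hge]
  refine Finset.sum_induction _ (fun v => f e' v = 0)
    (fun p q hp hq => by rw [hs.sesq.add_right, hp, hq, add_zero]) (hs.sesq.zero_right _)
    fun i _ => ?_
  rw [hs.sesq.smul_right, show f e' (col i) = 0 by simpa using he'.2 (eS i), mul_zero]

end Setting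

end CfsgLib.FormSubfield
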