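import Cfsg.Agent.FormSubfield.Vectors

/-!
# Irrational root elements in an overgroup generate everything

The coefficients `a` with `S e w a ∈ M` for all rational orthogonal isotropic pairs form a ring
containing `F₀`. If one irrational coefficient occurs it is the whole field, and then `M` contains
every isotropic transvection.
-/

set_option autoImplicit false
set_option linter.unusedSectionVars false

namespace CfsgLib.FormSubfield

open Matrix Cfsg.Geo CfsgLib.MaxSub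

variable {ι : Type} [Fintype ι] [DecidableEq ι] {F : Type*} [Field F] [Finite F]
variable {F₀ : Subfield F} {σ : F ≃+* F} {ε c₀ : F} {f : (ι → F) → (ι → F) → F}

/-- `M` lies between the subfield group and the isometries of determinant one. -/
structure Between (F₀ : Subfield F) (f : (ι → F) → (ι → F) → F) (M : Subgroup (GL ι F)) : Prop where
  lower : ∀ g, Iso f g → g ∈ specialLinear ι F → g ∈ subfieldSubgroup F₀ (1 : GL ι F) → g ∈ M
  iso : ∀ g ∈ M, Iso f g
  det : M ≤ specialLinear ι F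
  dim : 6 ≤ Fintype.card ι

/-- A rational isotropic orthogonal pair. -/
def IsPair (F₀ : Subfield F) (f : (ι → F) → (ι → F) → F) (e w : ι → F) : Prop :=
  e ∈ ratVecs ι F₀ ∧ w ∈ ratVecs ι F₀ ∧ f e e = 0 ∧ f w w = 0 ∧ f e w = 0

/-- The coefficients occurring for every pair. -/
def coeffs (F₀ : Subfield F) (σ : F ≃+* F) (ε : F) (f : (ι → F) → (ι → F) → F)
    (M : Subgroup (GL ι F)) : Set F :=
  {a | ∀ e w, IsPair F₀ f e w → S σ ε f e w a ∈ M}

variable {M : Subgroup (GL ι F)}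

theorem T_mem_specialLinear (f : (ι → F) → (ι → F) → F) (e : ι → F) (c : F) :
    T f e c ∈ specialLinear ι F := tv_mem_specialLinear _ _

theorem S_mem_specialLinear (σ : F ≃+* F) (ε : F) (f : (ι → F) → (ι → F) → F) (e w : ι → F)
    (a : F) : S σ ε f e w a ∈ specialLinear ι F :=
  Subgroup.mul_mem _ (tv_mem_specialLinear _ _) (tv_mem_specialLinear _ _)

namespace Setting

variable (hs : Setting F₀ σ ε c₀ f) (hb : Between F₀ f M)

include hs hb

theorem T_mem {e : ι → F} (he : e ∈ ratVecs ι F₀) (hee : f e e = 0) {c : F} (hc : c ∈ F₀)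
    (hct : c + ε * σ c = 0) : T f e c ∈ M :=
  hb.lower _ (hs.T_iso hee hct) (T_mem_specialLinear f e c)
    (mem_subfieldSubgroup_one_of_rat (hs.ratMat_T he hee hc))

theorem S_mem {e w : ι → F} (h : IsPair F₀ f e w) {a : F} (ha : a ∈ F₀) : S σ ε f e w a ∈ M :=
  hb.lower _ (hs.S_iso h.2.2.2.1 h.2.2.1 h.2.2.2.2 a) (S_mem_specialLinear σ ε f e w a)
    (mem_subfieldSubgroup_one_of_rat
      (hs.ratMat_S h.1 h.2.1 h.2.2.2.1 h.2.2.1 h.2.2.2.2 ha))

theorem coeffs_mem_of_rat {a : F} (ha : a ∈ F₀) : a ∈ coeffs F₀ σ ε f M :=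
  fun _ _ h => hs.S_mem hb h ha

/-- The commutator rule. -/
theorem comm_rule {e w w₂ p : ι → F} (he : f e e = 0) (hw : f w w = 0) (hew : f e w = 0)
    (h2 : f w₂ w₂ = 0) (hp : f p p = 0) (h2p : f w₂ p = 0) (he2 : f e w₂ = 0) (hep : f e p = 0)
    (hw2 : f w w₂ = 0) {a b d : F} (hy : S σ ε f e w a * T f e d ∈ M)
    (hh : S σ ε f w₂ p b ∈ M) :
    S σ ε f e w₂ (a * σ (b * f w p)) ∈ M := by
  set y := S σ ε f e w a * T f e d with hydef
  set h := S σ ε f w₂ p b with hhdef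
  set κ := b * f w p with hκ
  have hI : Iso f h := hb.iso h hh
  have hhe : (h : Matrix ι ι F) *ᵥ e = e := by
    rw [hhdef, hs.S_mulVec hp h2 h2p, hep, he2]; simp
  have hhw : (h : Matrix ι ι F) *ᵥ w = κ • w₂ + w := by
    rw [hhdef, hs.S_mulVec hp h2 h2p, hw2, hκ]
    module
  have hk2 : f (κ • w₂) (κ • w₂) = 0 := by rw [hs.sesq.smul_left, hs.sesq.smul_right, h2]; ring
  have hek : f e (κ • w₂) = 0 := by rw [hs.sesq.smul_right, he2, mul_zero]
  have hk2w : f (κ • w₂) w = 0 := by rw [hs.sesq.smul_left, hs.orth_symm hw2, mul_zero]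
  have key : h * y * h⁻¹ * y⁻¹ = S σ ε f e w₂ (a * σ κ) := by
    have e1 : h * y * h⁻¹ = S σ ε f e (κ • w₂) a * y := by
      rw [hydef, show h * (S σ ε f e w a * T f e d) * h⁻¹ =
        (h * S σ ε f e w a * h⁻¹) * (h * T f e d * h⁻¹) by group, hs.conj_S hI hw he hew,
        hs.conj_T hI he, hhe, hhw, ← hs.S_add_right hk2 hw he hek hew hk2w, mul_assoc]
    rw [e1, mul_inv_cancel_right, hs.S_smul_right h2 he he2]
  rw [← key]
  exact M.mul_mem (M.mul_mem (M.mul_mem hh hy) (M.inv_mem hh)) (M.inv_mem hy)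

/-- Moving a coefficient along a chain link. -/
theorem transfer (hc₀ : c₀ ∈ F₀) {e w w₂ : ι → F} (h : IsPair F₀ f e w) (h2 : IsPair F₀ f e w₂)
    (hw2 : f w w₂ = 0) {q : ι → F} (hq : q ∈ ratVecs ι F₀) (hqe : f q e = 0) (hq2 : f q w₂ = 0)
    (hqw : f q w ≠ 0) {a d : F} (hy : S σ ε f e w a * T f e d ∈ M) :
    S σ ε f e w₂ a ∈ M := by
  have hs2 : ∀ i, ![e, w₂] i ∈ ratVecs ι F₀ := by
    intro i; fin_cases i
    · exact h.1
    · exact h2.2.1
  obtain ⟨p, hp, hpp, hpw⟩ := hs.exists_iso_sep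
    (hs.exists_pair₂ hc₀ _ hs2 (by have := hb.dim; omega)) (w := w)
    ⟨q, ⟨hq, fun i => by fin_cases i <;> assumption⟩, hqw⟩
  have hpe : f p e = 0 := hp.2 0
  have hp2 : f p w₂ = 0 := hp.2 1
  have hwp : f w p ≠ 0 := hs.ne_symm hpw
  have := hs.comm_rule hb h.2.2.1 h.2.2.2.1 h.2.2.2.2 h2.2.2.2.1 hpp (hs.orth_symm hp2)
    h2.2.2.2.2 (hs.orth_symm hpe) hw2 hy
    (hs.S_mem hb ⟨h2.2.1, hp.1, h2.2.2.2.1, hpp, hs.orth_symm hp2⟩
      (F₀.inv_mem (hs.rat w h.2.1 p hp.1)))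
  rwa [inv_mul_cancel₀ hwp, map_one, mul_one] at this

/-- With the same first vector the coefficient does not depend on the second one. -/
theorem move (hc₀ : c₀ ∈ F₀) {e w w₂ : ι → F} (h : IsPair F₀ f e w) (h2 : IsPair F₀ f e w₂)
    {q : ι → F} (hq : q ∈ ratVecs ι F₀) (hqe : f q e = 0) (hqw : f q w ≠ 0) {a d : F}
    (hy : S σ ε f e w a * T f e d ∈ M) : S σ ε f e w₂ a ∈ M := by
  have hd := hb.dim
  -- either one link suffices or a hyperbolic pair orthogonal to the three vectors gives two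
  obtain h' | ⟨u, hu, u', hu', huu, hu'u'⟩ : (f w w₂ = 0 ∧ ∃ q ∈ ratVecs ι F₀, f q e = 0 ∧
      f q w₂ = 0 ∧ f q w ≠ 0) ∨
      ∃ u ∈ hs.perp ![e, w, w₂], ∃ u' ∈ hs.perp ![e, w, w₂], f u u = 0 ∧ f u' u = 1 := by
    by_cases hww₂ : f w w₂ = 0
    · by_cases hex : ∃ q ∈ ratVecs ι F₀, f q e = 0 ∧ f q w₂ = 0 ∧ f q w ≠ 0
      · exact Or.inl ⟨hww₂, hex⟩
      push Not at hex
      obtain ⟨u, hu, u', hu', huu, -, hu'u⟩ := hs.exists_pair₂ hc₀ ![e, w₂] (fun i => by
        fin_cases i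
        · exact h.1
        · exact h2.2.1) (by omega)
      refine Or.inr ⟨u, ⟨hu.1, fun i => ?_⟩, u', ⟨hu'.1, fun i => ?_⟩, huu, hu'u⟩ <;> fin_cases i
      · exact hu.2 0
      · exact hex u hu.1 (hu.2 0) (hu.2 1)
      · exact hu.2 1
      · exact hu'.2 0
      · exact hex u' hu'.1 (hu'.2 0) (hu'.2 1)
      · exact hu'.2 1
    · obtain ⟨u, hu, u', hu', huu, -, hu'u⟩ := hs.exists_pair_hyp (hs.exists_iso₂ hc₀) ![e, w, w₂]
        (fun i => by
          fin_cases i
          · exact h.1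
          · exact h.2.1
          · exact h2.2.1) 1 2 h.2.2.2.1 h2.2.2.2.1 hww₂ (by omega)
      exact Or.inr ⟨u, hu, u', hu', huu, hu'u⟩
  · obtain ⟨hww₂, q', hq', hq'e, hq'2, hq'w⟩ := h'
    exact hs.transfer hb hc₀ h h2 hww₂ hq' hq'e hq'2 hq'w hy
  have hue : f u e = 0 := hu.2 0
  have huw : f u w = 0 := hu.2 1
  have hu2 : f u w₂ = 0 := hu.2 2
  have hu'e : f u' e = 0 := hu'.2 0
  have hu'w : f u' w = 0 := hu'.2 1
  have h3 : IsPair F₀ f e u := ⟨h.1, hu.1, h.2.2.1, huu, hs.orth_symm hue⟩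
  have h1 : S σ ε f e u a ∈ M := hs.transfer hb hc₀ h h3 (hs.orth_symm huw)
    (Submodule.sub_mem _ hq (smul_mem_ratVecs (hs.rat q hq u hu.1) hu'.1))
    (by rw [hs.sesq.sub_left, hs.sesq.smul_left, hqe, hu'e, mul_zero, sub_zero])
    (by rw [hs.sesq.sub_left, hs.sesq.smul_left, hu'u', mul_one, sub_self])
    (by rw [hs.sesq.sub_left, hs.sesq.smul_left, hu'w, mul_zero, sub_zero]; exact hqw) hy
  exact hs.transfer hb hc₀ h3 h2 hu2 hu'.1 hu'e (hu'.2 2) (by rw [hu'u']; exact one_ne_zero)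
    (d := 0) (by rwa [T, zero_smul, tv_zero_left, mul_one])

/-- One coefficient at an independent pair occurs at every pair. -/
theorem mem_coeffs_of_mem (hc₀ : c₀ ∈ F₀) {e w : ι → F} (h : IsPair F₀ f e w) {q : ι → F}
    (hq : q ∈ ratVecs ι F₀) (hqe : f q e = 0) (hqw : f q w ≠ 0) (he0 : e ≠ 0) {a d : F}
    (hy : S σ ε f e w a * T f e d ∈ M) : a ∈ coeffs F₀ σ ε f M := by
  intro e' w' h'
  have hmove : ∀ {e w w₂ : ι → F}, IsPair F₀ f e w → IsPair F₀ f e w₂ → ∀ {q : ι → F},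
      q ∈ ratVecs ι F₀ → f q e = 0 → f q w ≠ 0 → ∀ {a : F},
      S σ ε f e w a ∈ M → S σ ε f e w₂ a ∈ M :=
    fun h h2 _ hq hqe hqw _ hy => hs.move hb hc₀ h h2 hq hqe hqw (d := 0)
      (by rwa [T, zero_smul, tv_zero_left, mul_one])
  obtain ⟨heR, -, hee, -, -⟩ := id h
  obtain ⟨he'R, -, he'e', -, -⟩ := id h'
  obtain ⟨u, hu, u', hu', huu, -, hu'u⟩ := hs.exists_pair₂ hc₀ ![e, e'] (fun i => by
    fin_cases i
    · exact heR
    · exact he'R) (by have := hb.dim; omega)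
  have hue : f u e = 0 := hu.2 0
  have hue' : f u e' = 0 := hu.2 1
  have h1 : S σ ε f e u a ∈ M :=
    hs.move hb hc₀ h ⟨heR, hu.1, hee, huu, hs.orth_symm hue⟩ hq hqe hqw hy
  have h1' : S σ ε f u e (-(ε * σ a)) ∈ M := by rwa [← hs.S_swap hee huu hue]
  have hu0 : u ≠ 0 := fun h0 => by rw [h0, hs.sesq.zero_right] at hu'u; exact zero_ne_one hu'u
  obtain ⟨q₁, hq₁, hq₁u, hq₁e⟩ := hs.exists_sep hu.1 hu0 huu (w := e) (fun c hc => by
    have h2 := congrArg (f u') hc
    rw [hs.sesq.smul_right, hu'u, show f u' e = 0 from hu'.2 0, mul_one, map_eq_zero] at h2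
    rw [h2, zero_smul] at hc
    exact he0 hc.symm)
  have h3 : S σ ε f u e' (-(ε * σ a)) ∈ M := hmove ⟨hu.1, heR, huu, hee, hue⟩
    ⟨hu.1, he'R, huu, he'e', hue'⟩ hq₁ hq₁u hq₁e h1'
  have h4 : S σ ε f e' u a ∈ M := by
    rw [hs.S_swap he'e' huu hue']
    exact h3
  exact hmove ⟨he'R, hu.1, he'e', huu, hs.orth_symm hue'⟩ h' hu'.1 (hu'.2 1)
    (by rw [hu'u]; exact one_ne_zero) h4

theorem sigma_mem_coeffs {a : F} (ha : a ∈ coeffs F₀ σ ε f M) :
    -(ε * σ a) ∈ coeffs F₀ σ ε f M := by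
  rintro e w ⟨he, hw, hee, hww, hew⟩
  rw [← hs.S_swap hww hee hew]
  exact ha w e ⟨hw, he, hww, hee, hs.orth_symm hew⟩

theorem add_mem_coeffs {a b : F} (ha : a ∈ coeffs F₀ σ ε f M) (hb' : b ∈ coeffs F₀ σ ε f M) :
    a + b ∈ coeffs F₀ σ ε f M := fun e w h => by
  rw [← hs.S_add h.2.2.2.1 h.2.2.1 h.2.2.2.2]
  exact M.mul_mem (ha e w h) (hb' e w h)

theorem neg_mem_coeffs {a : F} (ha : a ∈ coeffs F₀ σ ε f M) : -a ∈ coeffs F₀ σ ε f M :=
  fun e w h => by
    have h1 : (S σ ε f e w a)⁻¹ = S σ ε f e w (-a) := inv_eq_of_mul_eq_one_right (by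
      rw [hs.S_add h.2.2.2.1 h.2.2.1 h.2.2.2.2, add_neg_cancel]
      exact ext_mulVec fun x => by rw [hs.S_mulVec h.2.2.2.1 h.2.2.1 h.2.2.2.2]; simp)
    rw [← h1]
    exact M.inv_mem (ha e w h)

theorem mul_mem_coeffs (hc₀ : c₀ ∈ F₀) {a b : F} (ha : a ∈ coeffs F₀ σ ε f M)
    (hb' : b ∈ coeffs F₀ σ ε f M) : a * b ∈ coeffs F₀ σ ε f M := by
  have hd := hb.dim
  obtain ⟨e, he, e', he', hee, he'e', he'e⟩ :=
    hs.exists_pair₂ hc₀ ![] (fun i => i.elim0) (by omega)
  have hs2 : ∀ i, ![e, e'] i ∈ ratVecs ι F₀ := by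
    intro i; fin_cases i
    · exact he.1
    · exact he'.1
  obtain ⟨w, hw, w', hw', hww, hw'w', hw'w⟩ := hs.exists_pair₂ hc₀ _ hs2 (by omega)
  have hs3 : ∀ i, ![e, w, w'] i ∈ ratVecs ι F₀ := by
    intro i; fin_cases i
    · exact he.1
    · exact hw.1
    · exact hw'.1
  obtain ⟨v, hv, v', hv', hvv, -, hv'v⟩ := hs.exists_pair_hyp (hs.exists_iso₂ hc₀) _ hs3 1 2 hww
    hw'w' (hs.ne_symm (by simp [hw'w])) (by omega)
  have hwe : f w e = 0 := hw.2 0
  have hw'e : f w' e = 0 := hw'.2 0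
  have hve : f v e = 0 := hv.2 0
  have hvw : f v w = 0 := hv.2 1
  have hvw' : f v w' = 0 := hv.2 2
  have hy : S σ ε f e w a * T f e 0 ∈ M := by
    rw [T, zero_smul, tv_zero_left, mul_one]
    exact ha e w ⟨he.1, hw.1, hee, hww, hs.orth_symm hwe⟩
  have hh : S σ ε f v w' (-(ε * σ b)) ∈ M :=
    hs.sigma_mem_coeffs hb hb' v w' ⟨hv.1, hw'.1, hvv, hw'w', hvw'⟩
  have h1 := hs.comm_rule hb hee hww (hs.orth_symm hwe) hvv hw'w' hvw' (hs.orth_symm hve)
    (hs.orth_symm hw'e) (hs.orth_symm hvw) hy hh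
  have hwp : f w w' = ε := by rw [hs.herm, hw'w, map_one, mul_one]
  have hval : a * σ (-(ε * σ b) * f w w') = -(a * b) := by
    rw [hwp, map_mul, map_neg, map_mul, hs.sigma_eps, hs.sigma_sigma]
    linear_combination (-(a * b)) * hs.eps
  rw [hval] at h1
  have h2 := hs.mem_coeffs_of_mem hb hc₀ ⟨he.1, hv.1, hee, hvv, hs.orth_symm hve⟩ hv'.1 (hv'.2 0)
    (by rw [hv'v]; exact one_ne_zero) (fun h0 => by
      rw [h0, hs.sesq.zero_right] at he'e; exact zero_ne_one he'e) (d := 0)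
    (by rw [T, zero_smul, tv_zero_left, mul_one]; exact h1)
  have h3 := hs.neg_mem_coeffs hb h2
  rwa [neg_neg] at h3

/-- An irrational coefficient gives all coefficients. -/
theorem coeffs_eq_univ [Fintype F] (hc₀ : c₀ ∈ F₀) {r : ℕ} (hr : r.Prime)
    (hcard : Fintype.card F = Nat.card F₀ ^ r) {a : F} (ha : a ∈ coeffs F₀ σ ε f M)
    (ha' : a ∉ F₀) (x : F) : x ∈ coeffs F₀ σ ε f M :=
  subring_eq_top_of_prime hr hcard
    { carrier := coeffs F₀ σ ε f M
      mul_mem' := hs.mul_mem_coeffs hb hc₀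
      one_mem' := hs.coeffs_mem_of_rat hb F₀.one_mem
      add_mem' := hs.add_mem_coeffs hb
      zero_mem' := hs.coeffs_mem_of_rat hb F₀.zero_mem
      neg_mem' := hs.neg_mem_coeffs hb }
    (fun _ hx => hs.coeffs_mem_of_rat hb hx) ha ha' x

/-- With all coefficients and all rational centres, `M` contains every isotropic transvection. -/
theorem forall_T_mem_of_rat (hall : ∀ a, a ∈ coeffs F₀ σ ε f M)
    (hrat : ∀ e ∈ ratVecs ι F₀, f e e = 0 → e ≠ 0 → ∀ c, c + ε * σ c = 0 → T f e c ∈ M)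
    {z : ι → F} (hz : f z z = 0) {c : F} (hc : c + ε * σ c = 0) : T f z c ∈ M := by
  have hd := hb.dim
  rcases eq_or_ne z 0 with rfl | hz0
  · rw [T, smul_zero, tv_zero_left]; exact M.one_mem
  -- a rational isotropic vector not orthogonal to `z`
  obtain ⟨e, he, hee, hez⟩ : ∃ e ∈ ratVecs ι F₀, f e e = 0 ∧ f z e ≠ 0 := by
    obtain ⟨p, hp, hpp, hpz⟩ := hs.exists_iso_sep (s := ![])
      (hs.exists_pair ![] (fun i => i.elim0) (by omega)) (w := z) (by
        by_contra hh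
        push Not at hh
        exact hz0 (hs.eq_zero_of_orth_rat fun u hu => hh u ⟨hu, fun i => i.elim0⟩))
    exact ⟨p, hp.1, hpp, hs.ne_symm hpz⟩
  have he0 : e ≠ 0 := fun h => hez (h ▸ hs.sesq.zero_right z)
  obtain ⟨e', he', he'e', he'e⟩ := hs.exists_partner he he0 hee
  -- normalise `z`
  set z₁ := (f z e)⁻¹ • z with hz₁
  have hz1e : f z₁ e = 1 := by rw [hz₁, hs.sesq.smul_left, inv_mul_cancel₀ hez]
  have hz11 : f z₁ z₁ = 0 := by rw [hz₁, hs.sesq.smul_left, hs.sesq.smul_right, hz]; ring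
  have hzz1 : z = f z e • z₁ := by rw [hz₁, smul_inv_smul₀ hez]
  clear_value z₁
  have hs2 : ∀ i, ![e, e'] i ∈ ratVecs ι F₀ := by
    intro i; fin_cases i <;> assumption
  -- unipotents fixing `e` that translate `e'`
  let Q : Subgroup (GL ι F) :=
    { carrier := {g | g ∈ M ∧ (g : Matrix ι ι F) *ᵥ e = e ∧
        ∀ x, f x e = 0 → ∃ k : F, (g : Matrix ι ι F) *ᵥ x = x + k • e}
      mul_mem' := by
        rintro g h ⟨hg, hge, hgx⟩ ⟨hh, hhe, hhx⟩
        refine ⟨M.mul_mem hg hh, by rw [Units.val_mul, ← mulVec_mulVec, hhe, hge], fun x hx => ?_⟩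
        obtain ⟨k, hk⟩ := hhx x hx
        obtain ⟨l, hl⟩ := hgx x hx
        exact ⟨l + k, by
          rw [Units.val_mul, ← mulVec_mulVec, hk, mulVec_add, mulVec_smul, hge, hl]; module⟩
      one_mem' := ⟨M.one_mem, by simp, fun x _ => ⟨0, by simp⟩⟩
      inv_mem' := by
        rintro g ⟨hg, hge, hgx⟩
        have h1 : ((g⁻¹ : GL ι F) : Matrix ι ι F) *ᵥ e = e := by
          have := congrArg (fun y => ((g⁻¹ : GL ι F) : Matrix ι ι F) *ᵥ y) hge
          simpa [mulVec_mulVec] using this.symm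
        refine ⟨M.inv_mem hg, h1, fun x hx => ?_⟩
        obtain ⟨k, hk⟩ := hgx x hx
        refine ⟨-k, ?_⟩
        have := congrArg (fun y => ((g⁻¹ : GL ι F) : Matrix ι ι F) *ᵥ y) hk
        simp only [mulVec_mulVec, Units.inv_mul, one_mulVec, mulVec_add, mulVec_smul, h1] at this
        calc ((g⁻¹ : GL ι F) : Matrix ι ι F) *ᵥ x
            = (((g⁻¹ : GL ι F) : Matrix ι ι F) *ᵥ x + k • e) + (-k) • e := by module
          _ = x + (-k) • e := by rw [← this] }
  let P : (ι → F) → Prop := fun v => f v e = 0 ∧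
    ∃ g ∈ Q, ∃ d : F, (g : Matrix ι ι F) *ᵥ e' = e' + v + d • e
  have hPz : P 0 := ⟨hs.sesq.zero_left e, 1, Q.one_mem, 0, by simp⟩
  have hPadd : ∀ v₁ v₂, P v₁ → P v₂ → P (v₁ + v₂) := by
    rintro v₁ v₂ ⟨h1e, g, hg, d, hgd⟩ ⟨h2e, g', hg', d', hgd'⟩
    refine ⟨by rw [hs.sesq.add_left, h1e, h2e, add_zero], g * g', Q.mul_mem hg hg', ?_⟩
    obtain ⟨k, hk⟩ := hg.2.2 v₂ h2e
    refine ⟨d + k + d', ?_⟩
    rw [Units.val_mul, ← mulVec_mulVec, hgd', mulVec_add, mulVec_add, mulVec_smul, hgd, hk, hg.2.1]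
    module
  have hPw : ∀ w ∈ hs.perp ![e, e'], f w w = 0 → ∀ a : F, P (a • w) := by
    intro w hw hww a
    have hwe : f w e = 0 := hw.2 0
    have hwe' : f w e' = 0 := hw.2 1
    have hew := hs.orth_symm hwe
    refine ⟨by rw [hs.sesq.smul_left, hwe, mul_zero],
      S σ ε f e w (-(ε * σ a)), ⟨hall _ e w ⟨he, hw.1, hee, hww, hew⟩, ?_, fun x hx => ?_⟩, 0, ?_⟩
    · rw [hs.S_mulVec hww hee hew, hee, hew]; simp
    · exact ⟨-(ε * σ a) * f x w, by rw [hs.S_mulVec hww hee hew, hx]; simp⟩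
    · rw [hs.S_mulVec hww hee hew, he'e, hs.orth_symm hwe', map_neg, map_mul, hs.sigma_eps,
        hs.sigma_sigma, show ε * -(ε * a) * 1 = -a by linear_combination (-a) * hs.eps]
      module
  -- the component of `z₁` orthogonal to `e` and `e'`
  set v := z₁ - e' - (ε * f z₁ e') • e with hv
  obtain ⟨p, hp, p', hp', hpp, -, hp'p⟩ := hs.exists_pair_hyp hs.exists_iso _ hs2 1 0 he'e' hee
    (by simp [he'e]) (by omega)
  have hdec : ∀ y : ι → F, f y e = 0 → f y e' = 0 → P y := by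
    intro y hye hye'
    have hy : y = ∑ i, y i • ((Pi.single i 1 : ι → F) - f (Pi.single i 1) e • e'
        - (ε * (f (Pi.single i 1 : ι → F) e' - f (Pi.single i 1) e * f e' e')) • e) := by
      have h1 : ∑ i, y i • (Pi.single i 1 : ι → F) = y := by
        funext j; simp [Finset.sum_apply, Pi.single_apply]
      have h2 : ∀ u : ι → F, (∑ i, y i * f (Pi.single i 1 : ι → F) u) = f y u := fun u => by
        rw [← hs.sesq.dot_leftVec u y, dotProduct_comm]; rfl
      simp only [smul_sub, smul_smul, Finset.sum_sub_distrib, ← Finset.sum_smul]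
      rw [h1, h2, hye]
      simp only [he'e', mul_zero, sub_zero, mul_left_comm _ ε, ← Finset.mul_sum, h2, hye',
        zero_smul]
    rw [hy]
    refine Finset.sum_induction _ P hPadd hPz fun i _ => ?_
    have hb' : (Pi.single i 1 : ι → F) - f (Pi.single i 1) e • e'
        - (ε * (f (Pi.single i 1 : ι → F) e' - f (Pi.single i 1) e * f e' e')) • e
        ∈ hs.perp ![e, e'] := by
      have hi := single_mem_ratVecs (ι := ι) F₀ i
      refine ⟨Submodule.sub_mem _ (Submodule.sub_mem _ hi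
        (smul_mem_ratVecs (hs.rat _ hi e he) he')) (smul_mem_ratVecs (F₀.mul_mem hs.eps_mem
          (F₀.sub_mem (hs.rat _ hi e' he') (F₀.mul_mem (hs.rat _ hi e he)
            (hs.rat _ he' e' he')))) he), fun j => ?_⟩
      have hee' : f e e' = ε := by rw [hs.herm, he'e, map_one, mul_one]
      fin_cases j
      · simp [hs.sesq.sub_left, hs.sesq.smul_left, he'e, hee]
      · show f _ e' = 0
        simp only [hs.sesq.sub_left, hs.sesq.smul_left, he'e', hee']
        linear_combination (-f (Pi.single i 1 : ι → F) e') * hs.eps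
    suffices h : ∀ b ∈ hs.perp ![e, e'], ∀ a : F, P (a • b) from h _ hb' _
    intro b hbP
    have hb'' := hs.span_iso (U := hs.perp ![e, e']) (fun x hx => hx.1) hp hp' hpp
      (by rw [hp'p]; exact one_ne_zero) hbP
    clear hbP
    induction hb'' using Submodule.span_induction with
    | mem x hx => exact hPw x hx.1 hx.2
    | zero => intro a; rw [smul_zero]; exact hPz
    | add x y _ _ hx hy => intro a; rw [smul_add]; exact hPadd _ _ (hx a) (hy a)
    | smul k x _ hx =>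
      intro a
      rw [show a • (k • x) = (a * (k : F)) • x from smul_smul a (k : F) x]
      exact hx _
  have hee' : f e e' = ε := by rw [hs.herm, he'e, map_one, mul_one]
  obtain ⟨hve, g, hg, d, hgd⟩ := hdec v
    (by rw [hv, hs.sesq.sub_left, hs.sesq.sub_left, hs.sesq.smul_left, hz1e, he'e, hee]; ring)
    (by
      rw [hv, hs.sesq.sub_left, hs.sesq.sub_left, hs.sesq.smul_left, he'e', hee']
      linear_combination (-f z₁ e') * hs.eps)
  -- `g e'` and `z₁` differ by a trace zero multiple of `e`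
  set y := (g : Matrix ι ι F) *ᵥ e' with hy
  set δ := ε * f z₁ e' - d with hδ
  have hzy : z₁ = y + δ • e := by rw [hgd, hv, hδ]; module
  have hye : f y e = 1 := by rw [hy, ← hg.2.1, hb.iso g hg.1, he'e]
  have hyy : f y y = 0 := by rw [hy, hb.iso g hg.1, he'e']
  have hδt : δ + ε * σ δ = 0 := by
    have h1 := hz11
    rw [hzy] at h1
    simp only [hs.sesq.add_left, hs.sesq.add_right, hs.sesq.smul_left, hs.sesq.smul_right, hyy,
      hee, hye] at h1
    rw [hs.herm y e, hye, map_one] at h1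
    have h2 := congrArg (fun t => ε * t) h1
    simp only [mul_zero] at h2
    linear_combination h2 - δ * hs.eps
  have hhT := hrat e he hee he0 δ hδt
  have hz₁T : ∀ c, c + ε * σ c = 0 → T f z₁ c ∈ M := by
    intro c hc
    have hyT : T f y c ∈ M := by
      rw [hy, ← hs.conj_T (hb.iso g hg.1) he'e']
      have he'0 : e' ≠ 0 := fun h => by
        rw [h, hs.sesq.zero_left] at he'e; exact zero_ne_one he'e
      exact M.mul_mem (M.mul_mem hg.1 (hrat e' he' he'e' he'0 c hc)) (M.inv_mem hg.1)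
    have e1 : (T f e δ : Matrix ι ι F) *ᵥ y = z₁ := by
      rw [hs.T_mulVec hee, hye, mul_one, hzy]
    rw [← e1, ← hs.conj_T (hs.T_iso hee hδt) hyy]
    exact M.mul_mem (M.mul_mem hhT hyT) (M.inv_mem hhT)
  rw [hzz1, hs.T_smul hz11]
  refine hz₁T _ ?_
  rw [map_mul, map_mul, hs.sigma_sigma]
  linear_combination (f z e * σ (f z e)) * hc

/-- With all coefficients, `M` contains every isotropic transvection. -/
theorem forall_T_mem (hc₀ : c₀ ∈ F₀) (hall : ∀ a, a ∈ coeffs F₀ σ ε f M) {z : ι → F}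
    (hz : f z z = 0) {c : F} (hc : c + ε * σ c = 0) : T f z c ∈ M := by
  have hd := hb.dim
  have hT0 : ∀ w ∈ ratVecs ι F₀, f w w = 0 → T f w c₀ ∈ M :=
    fun w hw hww => hs.T_mem hb hw hww hc₀ hs.c₀_trace
  -- rational centres
  have hrat : ∀ e ∈ ratVecs ι F₀, f e e = 0 → e ≠ 0 → ∀ c, c + ε * σ c = 0 → T f e c ∈ M := by
    intro e he hee he0 c hc
    have hgen := hs.trace_gen c hc
    obtain ⟨e', he', he'e', he'e⟩ := hs.exists_partner he he0 hee
    have hs2 : ∀ i, ![e, e'] i ∈ ratVecs ι F₀ := by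
      intro i; fin_cases i <;> assumption
    obtain ⟨u, hu, u', hu', huu, -, hu'u⟩ := hs.exists_pair₂ hc₀ _ hs2 (by omega)
    have hue : f u e = 0 := hu.2 0
    have hue' : f u e' = 0 := hu.2 1
    -- moving `u` to `u + k e`, hence scalar multiples of a transvection at `e`
    obtain ⟨p, hp, hpp, hpu⟩ := hs.exists_iso_sep (s := ![e])
      (hs.exists_pair₂ hc₀ _ (fun i => by fin_cases i; exact he) (by omega)) (w := u) (by
        obtain ⟨q, hq, hqe, hqu⟩ := hs.exists_sep he he0 hee (w := u) (fun k hk => by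
          have h1 : f u e' = 0 := hue'
          rw [← hk, hs.sesq.smul_left] at h1
          rcases mul_eq_zero.mp h1 with h2 | h2
          · subst h2
            rw [zero_smul] at hk
            rw [← hk, hs.sesq.zero_right] at hu'u
            exact zero_ne_one hu'u
          · exact hs.ne_symm (by rw [he'e]; exact one_ne_zero) h2)
        exact ⟨q, ⟨hq, fun i => by fin_cases i; exact hqe⟩, hqu⟩)
    have hpe : f p e = 0 := hp.2 0
    have hL : ∀ k : F, T f e (c₀ * (k * σ k)) ∈ M := by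
      intro k
      set b := k / f u p
      have hh := hall b e p ⟨he, hp.1, hee, hpp, hs.orth_symm hpe⟩
      have hI := hb.iso _ hh
      have h1 : T f (u + k • e) c₀ ∈ M := by
        have e1 : (S σ ε f e p b : Matrix ι ι F) *ᵥ u = u + k • e := by
          rw [hs.S_mulVec hpp hee (hs.orth_symm hpe), hue,
            div_mul_cancel₀ _ (hs.ne_symm hpu)]
          simp
        rw [← e1, ← hs.conj_T hI huu]
        exact M.mul_mem (M.mul_mem hh (hT0 u hu.1 huu)) (M.inv_mem hh)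
      have hke : f (k • e) (k • e) = 0 := by rw [hs.sesq.smul_left, hs.sesq.smul_right, hee]; ring
      have huk : f u (k • e) = 0 := by rw [hs.sesq.smul_right, hue, mul_zero]
      rw [hs.T_add_vec hke huu huk hs.c₀_trace, hs.S_smul_right hee huu hue, hs.T_smul hee] at h1
      have h2 := hall (c₀ * σ k) u e ⟨hu.1, he, huu, hee, hue⟩
      have h3 := M.mul_mem (M.mul_mem (M.inv_mem (hT0 u hu.1 huu)) h1) (M.inv_mem h2)
      simpa [mul_assoc] using h3
    clear hc
    induction hgen using AddSubgroup.closure_induction with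
    | mem x hx => obtain ⟨k, rfl⟩ := hx; exact hL k
    | zero => rw [T, zero_smul, tv_zero_left]; exact M.one_mem
    | add x y _ _ hx hy => rw [← hs.T_add hee]; exact M.mul_mem hx hy
    | neg x _ hx =>
      have h1 : (T f e x)⁻¹ = T f e (-x) := inv_eq_of_mul_eq_one_right (by
        rw [hs.T_add hee, add_neg_cancel, T, zero_smul, tv_zero_left])
      rw [← h1]; exact M.inv_mem hx
  exact hs.forall_T_mem_of_rat hb hall hrat hz hc

end Setting

end CfsgLib.FormSubfield
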