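import Cfsg.Agent.FormSubfield.Elements

/-!
# Rational isotropic vectors orthogonal to given rational vectors
-/

set_option autoImplicit false
set_option linter.unusedSectionVars false

namespace CfsgLib.FormSubfield

open Matrix Cfsg.Geo CfsgLib.MaxSub

variable {ι : Type} [Fintype ι] [DecidableEq ι] {F : Type*} [Field F] [Finite F]
variable {F₀ : Subfield F} {σ : F ≃+* F} {ε c₀ : F} {f : (ι → F) → (ι → F) → F}

namespace Setting

variable (hs : Setting F₀ σ ε c₀ f)

include hs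

theorem mem_perp {k : ℕ} {s : Fin k → ι → F} {x : ι → F} :
    x ∈ hs.perp s ↔ x ∈ ratVecs ι F₀ ∧ ∀ i, f x (s i) = 0 := Iff.rfl

/-- An isotropic vector of a subspace with a non-orthogonal partner: isotropic vectors span. -/
theorem span_iso {U : Submodule F₀ (ι → F)} (hU : U ≤ ratVecs ι F₀) {e v : ι → F} (he : e ∈ U)
    (hv : v ∈ U) (hee : f e e = 0) (hve : f v e ≠ 0) :
    U ≤ Submodule.span F₀ {z | z ∈ U ∧ f z z = 0} := by
  have key : ∀ u ∈ U, f u e ≠ 0 → u ∈ Submodule.span F₀ {z | z ∈ U ∧ f z z = 0} := by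
    intro u hu hue
    obtain ⟨t, ht, hiso⟩ := hs.shift u (hU hu) e (hU he) hee hue
    have hte : t • e ∈ U := U.smul_mem (⟨t, ht⟩ : F₀) he
    have h1 : u + t • e ∈ Submodule.span F₀ {z | z ∈ U ∧ f z z = 0} :=
      Submodule.subset_span ⟨U.add_mem hu hte, hiso⟩
    have h2 : t • e ∈ Submodule.span F₀ {z | z ∈ U ∧ f z z = 0} :=
      Submodule.smul_mem _ (⟨t, ht⟩ : F₀) (Submodule.subset_span ⟨he, hee⟩)
    simpa using Submodule.sub_mem _ h1 h2
  intro u hu
  by_cases hue : f u e = 0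
  · have := Submodule.sub_mem _ (key (u + v) (U.add_mem hu hv)
      (by rwa [hs.sesq.add_left, hue, zero_add])) (key v hv hve)
    simpa using this
  · exact key u hu hue

/-- A hyperbolic pair orthogonal to `k` rational vectors, `d` being a dimension forcing isotropic
vectors and `N` a part of their span meeting their orthogonal trivially. -/
theorem exists_pair_gen {k d : ℕ} (hd : ∀ U : Submodule F₀ (ι → F), U ≤ ratVecs ι F₀ →
      d ≤ Module.finrank F₀ U → ∃ z ∈ U, z ≠ 0 ∧ f z z = 0)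
    (s : Fin k → ι → F) (hR : ∀ i, s i ∈ ratVecs ι F₀) (N : Submodule F₀ (ι → F))
    (hN : N ≤ Submodule.span F₀ (Set.range s)) (hPN : hs.perp s ⊓ N = ⊥)
    (hk : 2 * k + d ≤ Fintype.card ι + Module.finrank F₀ N) :
    ∃ z ∈ hs.perp s, ∃ p ∈ hs.perp s, f z z = 0 ∧ f p p = 0 ∧ f p z = 1 := by
  haveI : Module.Finite F₀ (ι → F) := Module.Finite.of_finite
  set P := hs.perp s with hP
  let Rad : Submodule F₀ (ι → F) :=
    { carrier := {x | x ∈ P ∧ ∀ y ∈ P, f y x = 0}
      add_mem' := fun {x y} hx hy => ⟨P.add_mem hx.1 hy.1, fun z hz => by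
        rw [hs.sesq.add_right, hx.2 z hz, hy.2 z hz, add_zero]⟩
      zero_mem' := ⟨P.zero_mem, fun z _ => hs.sesq.zero_right z⟩
      smul_mem' := fun c x hx => ⟨P.smul_mem c hx.1, fun z hz => by
        show f z ((c : F) • x) = 0
        rw [hs.sesq.smul_right, hx.2 z hz, mul_zero]⟩ }
  have hPR : P ≤ ratVecs ι F₀ := fun x hx => hx.1
  have hNR : N ≤ ratVecs ι F₀ := hN.trans (Submodule.span_le.mpr (by
    rintro _ ⟨i, rfl⟩; exact hR i))
  obtain ⟨Q, hQ⟩ := Submodule.exists_isCompl (P ⊔ N)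
  obtain ⟨C, hC⟩ := Submodule.exists_isCompl Rad
  set Q' := Q ⊓ ratVecs ι F₀ with hQ'
  have hdP := hs.finrank_perp s hR
  rw [← hP] at hdP
  have hdQ : Module.finrank F₀ Q' + Module.finrank F₀ N ≤ k := by
    have h1 := Submodule.finrank_sup_add_finrank_inf_eq (P ⊔ N) Q'
    have h2 : (P ⊔ N) ⊓ Q' = ⊥ :=
      eq_bot_iff.2 ((inf_le_inf_left _ inf_le_left).trans hQ.inf_eq_bot.le)
    have h3 := Submodule.finrank_mono
      (sup_le (sup_le hPR hNR) inf_le_right : P ⊔ N ⊔ Q' ≤ ratVecs ι F₀)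
    have h4 := Submodule.finrank_sup_add_finrank_inf_eq P N
    rw [finrank_ratVecs] at h3
    rw [h2, finrank_bot] at h1
    rw [hPN, finrank_bot] at h4
    omega
  let b := Module.finBasis F₀ Q'
  let L : Rad →ₗ[F₀] (Fin (Module.finrank F₀ Q') → F₀) :=
    { toFun := fun x i => ⟨f x.1 (b i : ι → F), hs.rat _ x.2.1.1 _ (b i).2.2⟩
      map_add' := fun x y => funext fun i => Subtype.ext (hs.sesq.add_left _ _ _)
      map_smul' := fun c x => funext fun i => Subtype.ext (hs.sesq.smul_left _ _ _) }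
  have hL : Function.Injective L := by
    rw [injective_iff_map_eq_zero]
    intro x hx
    refine Subtype.ext (hs.eq_zero_of_orth_rat fun u hu => hs.orth_symm ?_)
    have hu' : u ∈ P ⊔ N ⊔ Q := hQ.sup_eq_top ▸ Submodule.mem_top
    obtain ⟨pn, hpn, q, hq, rfl⟩ := Submodule.mem_sup.mp hu'
    obtain ⟨p, hp, n, hn, rfl⟩ := Submodule.mem_sup.mp hpn
    have hq' : q ∈ Q' := ⟨hq, by
      simpa using Submodule.sub_mem _ hu (Submodule.add_mem _ (hPR hp) (hNR hn))⟩
    have hxn : f x.1 n = 0 := by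
      have h5 := hN hn
      clear hn hpn hu hu'
      induction h5 using Submodule.span_induction with
      | mem y hy => obtain ⟨i, rfl⟩ := hy; exact x.2.1.2 i
      | zero => exact hs.sesq.zero_right _
      | add a b _ _ ha hb => rw [hs.sesq.add_right, ha, hb, add_zero]
      | smul c y _ hy => show f x.1 ((c : F) • y) = 0; rw [hs.sesq.smul_right, hy, mul_zero]
    rw [hs.sesq.add_right, hs.sesq.add_right, hs.orth_symm (x.2.2 p hp), hxn, zero_add, zero_add]
    let K : Submodule F₀ (ι → F) :=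
      { carrier := {y | f x.1 y = 0}
        add_mem' := fun {a b} ha hb => by
          show f _ _ = 0
          rw [hs.sesq.add_right, ha, hb, add_zero]
        zero_mem' := hs.sesq.zero_right _
        smul_mem' := fun c y hy => by
          show f _ ((c : F) • y) = 0
          rw [hs.sesq.smul_right, hy, mul_zero] }
    have hle : Q' ≤ K := by
      intro y hy
      have hrep := congrArg Q'.subtype (b.sum_repr ⟨y, hy⟩)
      simp only [map_sum, map_smul, Submodule.subtype_apply] at hrep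
      rw [← hrep]
      exact K.sum_mem fun i _ => K.smul_mem _ (congrArg Subtype.val (congrFun hx i))
    exact hle hq'
  have hdR := LinearMap.finrank_le_finrank_of_injective hL
  rw [Module.finrank_fin_fun] at hdR
  have hU : d ≤ Module.finrank F₀ (P ⊓ C : Submodule F₀ (ι → F)) := by
    have h1 := Submodule.finrank_sup_add_finrank_inf_eq P C
    have h2 := Submodule.finrank_le (P ⊔ C)
    have h3 := Submodule.finrank_add_eq_of_isCompl hC
    omega
  obtain ⟨z, ⟨hzP, hzC⟩, hz0, hzz⟩ := hd (P ⊓ C) (inf_le_left.trans hPR) hU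
  obtain ⟨v, hv, hvz⟩ : ∃ v ∈ P, f v z ≠ 0 := by
    by_contra h
    push Not at h
    exact hz0 ((Submodule.mem_bot F₀).mp (hC.inf_eq_bot ▸ ⟨⟨hzP, h⟩, hzC⟩ : z ∈ (⊥ : Submodule F₀ _)))
  have hvR := hs.rat v hv.1 z hzP.1
  have hv1 : (f v z)⁻¹ • v ∈ P := P.smul_mem (⟨_, F₀.inv_mem hvR⟩ : F₀) hv
  have hvz1 : f ((f v z)⁻¹ • v) z = 1 := by rw [hs.sesq.smul_left, inv_mul_cancel₀ hvz]
  obtain ⟨t, ht, hiso⟩ := hs.shift _ hv1.1 z hzP.1 hzz (by rw [hvz1]; exact one_ne_zero)
  exact ⟨z, hzP, (f v z)⁻¹ • v + t • z, P.add_mem hv1 (P.smul_mem (⟨t, ht⟩ : F₀) hzP), hzz, hiso,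
    by rw [hs.sesq.add_left, hs.sesq.smul_left t z z, hvz1, hzz, mul_zero, add_zero]⟩

/-- A hyperbolic pair orthogonal to `k` rational vectors. -/
theorem exists_pair {k : ℕ} (s : Fin k → ι → F) (hR : ∀ i, s i ∈ ratVecs ι F₀)
    (hk : 2 * k + 3 ≤ Fintype.card ι) :
    ∃ z ∈ hs.perp s, ∃ p ∈ hs.perp s, f z z = 0 ∧ f p p = 0 ∧ f p z = 1 :=
  hs.exists_pair_gen hs.exists_iso s hR ⊥ bot_le (inf_bot_eq _) (by rw [finrank_bot]; omega)

/-- The same when the coefficient `c₀` is rational: two dimensions give an isotropic vector. -/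
theorem exists_pair₂ (hc₀ : c₀ ∈ F₀) {k : ℕ} (s : Fin k → ι → F)
    (hR : ∀ i, s i ∈ ratVecs ι F₀) (hk : 2 * k + 2 ≤ Fintype.card ι) :
    ∃ z ∈ hs.perp s, ∃ p ∈ hs.perp s, f z z = 0 ∧ f p p = 0 ∧ f p z = 1 :=
  hs.exists_pair_gen (hs.exists_iso₂ hc₀) s hR ⊥ bot_le (inf_bot_eq _) (by rw [finrank_bot]; omega)

/-- A hyperbolic pair orthogonal to vectors two of which form a hyperbolic pair. -/
theorem exists_pair_hyp {k d : ℕ} (hd : ∀ U : Submodule F₀ (ι → F), U ≤ ratVecs ι F₀ →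
      d ≤ Module.finrank F₀ U → ∃ z ∈ U, z ≠ 0 ∧ f z z = 0)
    (s : Fin k → ι → F) (hR : ∀ i, s i ∈ ratVecs ι F₀) (i j : Fin k) (hi : f (s i) (s i) = 0)
    (hj : f (s j) (s j) = 0) (hij : f (s i) (s j) ≠ 0)
    (hk : 2 * k + d ≤ Fintype.card ι + 2) :
    ∃ z ∈ hs.perp s, ∃ p ∈ hs.perp s, f z z = 0 ∧ f p p = 0 ∧ f p z = 1 := by
  have hji := hs.ne_symm hij
  have hcoef : ∀ a b : F₀, f ((a : F) • s i + (b : F) • s j) (s i) = 0 →
      f ((a : F) • s i + (b : F) • s j) (s j) = 0 → a = 0 ∧ b = 0 := by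
    intro a b h1 h2
    rw [hs.sesq.add_left, hs.sesq.smul_left, hs.sesq.smul_left, hi, mul_zero, zero_add] at h1
    rw [hs.sesq.add_left, hs.sesq.smul_left, hs.sesq.smul_left, hj, mul_zero, add_zero] at h2
    exact ⟨Subtype.ext ((mul_eq_zero.mp h2).resolve_right hij),
      Subtype.ext ((mul_eq_zero.mp h1).resolve_right hji)⟩
  have hli : LinearIndependent F₀ ![s i, s j] := by
    refine LinearIndependent.pair_iff.2 fun a b h => hcoef a b ?_ ?_ <;>
      rw [show (a : F) • s i + (b : F) • s j = 0 from h, hs.sesq.zero_left]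
  refine hs.exists_pair_gen hd s hR (Submodule.span F₀ (Set.range ![s i, s j]))
    (Submodule.span_le.mpr ?_) ?_ (by rw [finrank_span_eq_card hli, Fintype.card_fin]; exact hk)
  · rintro _ ⟨l, rfl⟩
    fin_cases l
    · exact Submodule.subset_span ⟨i, rfl⟩
    · exact Submodule.subset_span ⟨j, rfl⟩
  · rw [eq_bot_iff]
    rintro x ⟨⟨-, hx⟩, hxN⟩
    rw [Matrix.range_cons, Matrix.range_cons, Matrix.range_empty, Set.union_empty,
      Set.singleton_union] at hxN
    obtain ⟨a, b, rfl⟩ := Submodule.mem_span_pair.1 hxN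
    obtain ⟨rfl, rfl⟩ := hcoef a b (hx i) (hx j)
    simp

/-- A non-zero rational isotropic vector has an isotropic rational partner. -/
theorem exists_partner {e : ι → F} (he : e ∈ ratVecs ι F₀) (he0 : e ≠ 0) (hee : f e e = 0) :
    ∃ e' ∈ ratVecs ι F₀, f e' e' = 0 ∧ f e' e = 1 := by
  obtain ⟨v, hv, hve⟩ : ∃ v ∈ ratVecs ι F₀, f v e ≠ 0 := by
    by_contra h
    push Not at h
    exact he0 (hs.eq_zero_of_orth_rat h)
  have hv1 : (f v e)⁻¹ • v ∈ ratVecs ι F₀ :=
    smul_mem_ratVecs (F₀.inv_mem (hs.rat v hv e he)) hv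
  have hve1 : f ((f v e)⁻¹ • v) e = 1 := by rw [hs.sesq.smul_left, inv_mul_cancel₀ hve]
  obtain ⟨t, ht, hiso⟩ := hs.shift _ hv1 e he hee (by rw [hve1]; exact one_ne_zero)
  exact ⟨_, Submodule.add_mem _ hv1 (smul_mem_ratVecs ht he), hiso,
    by rw [hs.sesq.add_left, hs.sesq.smul_left t e e, hve1, hee, mul_zero, add_zero]⟩

/-- Independent `e, w`: a rational vector orthogonal to `e` and not to `w`. -/
theorem exists_sep {e w : ι → F} (he : e ∈ ratVecs ι F₀) (he0 : e ≠ 0) (hee : f e e = 0)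
    (hne : ∀ c : F, c • e ≠ w) : ∃ q ∈ ratVecs ι F₀, f q e = 0 ∧ f q w ≠ 0 := by
  by_contra h
  push Not at h
  obtain ⟨e', he', -, he'e⟩ := hs.exists_partner he he0 hee
  refine hne (σ (f e' w)) (sub_eq_zero.mp (hs.eq_zero_of_orth_rat fun u hu => ?_))
  have h1 : f (u - f u e • e') w = 0 :=
    h _ (Submodule.sub_mem _ hu (smul_mem_ratVecs (hs.rat u hu e he) he'))
      (by rw [hs.sesq.sub_left, hs.sesq.smul_left, he'e, mul_one, sub_self])
  rw [hs.sesq.sub_left, hs.sesq.smul_left, sub_eq_zero] at h1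
  rw [hs.sesq.sub_right, hs.sesq.smul_right, hs.sigma_sigma, h1]
  ring

/-- An isotropic vector in a perp space not orthogonal to a given vector. -/
theorem exists_iso_sep {k : ℕ} {s : Fin k → ι → F}
    (hpair : ∃ z ∈ hs.perp s, ∃ p ∈ hs.perp s, f z z = 0 ∧ f p p = 0 ∧ f p z = 1) {w : ι → F}
    (h : ∃ q ∈ hs.perp s, f q w ≠ 0) :
    ∃ p ∈ hs.perp s, f p p = 0 ∧ f p w ≠ 0 := by
  obtain ⟨z, hz, p, hp, hzz, -, hpz⟩ := hpair
  by_contra hcon
  push Not at hcon
  obtain ⟨q, hq, hqw⟩ := h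
  apply hqw
  let K : Submodule F₀ (ι → F) :=
    { carrier := {y | f y w = 0}
      add_mem' := fun {a b} ha hb => by
        show f _ _ = 0
        rw [hs.sesq.add_left, ha, hb, add_zero]
      zero_mem' := hs.sesq.zero_left _
      smul_mem' := fun c y hy => by
        show f ((c : F) • y) _ = 0
        rw [hs.sesq.smul_left, hy, mul_zero] }
  have hU : hs.perp s ≤ ratVecs ι F₀ := fun x (hx : x ∈ hs.perp s) => hx.1
  have hle : Submodule.span F₀ {y | y ∈ hs.perp s ∧ f y y = 0} ≤ K :=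
    Submodule.span_le.mpr fun y hy => hcon y hy.1 hy.2
  exact hle (hs.span_iso hU hz hp hzz (by rw [hpz]; exact one_ne_zero) hq)

end Setting

end CfsgLib.FormSubfield
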